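import Cfsg.Agent.Lib.SLMinDeg.Fourier

set_option autoImplicit false
set_option linter.unusedSectionVars false
set_option linter.style.haveILetI false

/-!
Operators attached to a complex representation: averages over subgroups and the spectral projections
of an abelian subgroup parametrised by a module with a non-degenerate pairing.
-/

namespace CfsgLib.OrthDeg

open CfsgLib.KnownSimple.ModulePerm

variable {G V : Type*} [Group G] [AddCommGroup V] [Module ℂ V]

section Avg

variable [Finite G] (ρ : Representation ℂ G V)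

/-- The average over a subgroup. -/
noncomputable def avg (R : Subgroup G) : Module.End ℂ V :=
  (Nat.card R : ℂ)⁻¹ • ∑ᶠ r : R, ρ (r : G)

theorem avg_def (R : Subgroup G) [Fintype R] : avg ρ R = (Nat.card R : ℂ)⁻¹ • ∑ r : R, ρ (r : G) := by
  rw [avg, finsum_eq_sum_of_fintype]

theorem rho_mul_avg {R : Subgroup G} {x : G} (hx : x ∈ R) : ρ x * avg ρ R = avg ρ R := by
  haveI : Fintype R := Fintype.ofFinite R
  rw [avg_def, mul_smul_comm, Finset.mul_sum]
  congr 1
  exact Fintype.sum_equiv (Equiv.mulLeft (⟨x, hx⟩ : R)) _ _ fun r => by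
    rw [← map_mul]; rfl

theorem avg_mul_rho {R : Subgroup G} {x : G} (hx : x ∈ R) : avg ρ R * ρ x = avg ρ R := by
  haveI : Fintype R := Fintype.ofFinite R
  rw [avg_def, smul_mul_assoc, Finset.sum_mul]
  congr 1
  exact Fintype.sum_equiv (Equiv.mulRight (⟨x, hx⟩ : R)) _ _ fun r => by
    rw [← map_mul]; rfl

theorem avg_mul_of_fix {R : Subgroup G} {X : Module.End ℂ V} (h : ∀ r ∈ R, ρ r * X = X) :
    avg ρ R * X = X := by
  haveI : Fintype R := Fintype.ofFinite R
  rw [avg_def, smul_mul_assoc, Finset.sum_mul, Finset.sum_congr rfl fun r _ => h r.1 r.2, Finset.sum_const,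
    Finset.card_univ, ← Nat.card_eq_fintype_card, ← Nat.cast_smul_eq_nsmul ℂ, smul_smul,
    inv_mul_cancel₀ (Nat.cast_ne_zero.mpr Nat.card_pos.ne'), one_smul]

theorem avg_idem (R : Subgroup G) : avg ρ R * avg ρ R = avg ρ R :=
  avg_mul_of_fix ρ fun _ hr => rho_mul_avg ρ hr

theorem avg_comm {R : Subgroup G} {g : G} (hg : ∀ r ∈ R, g * r * g⁻¹ ∈ R) :
    ρ g * avg ρ R = avg ρ R * ρ g := by
  haveI : Fintype R := Fintype.ofFinite R
  rw [avg_def, mul_smul_comm, smul_mul_assoc, Finset.mul_sum, Finset.sum_mul]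
  congr 1
  let σ : R → R := fun r => ⟨g * r.1 * g⁻¹, hg r.1 r.2⟩
  have hσ : Function.Injective σ := fun a b h => Subtype.ext (by
    simpa [σ] using congrArg Subtype.val h)
  refine Fintype.sum_equiv (Equiv.ofBijective σ ⟨hσ, Finite.surjective_of_injective hσ⟩) _ _ fun r => ?_
  rw [← map_mul, ← map_mul]
  congr 1
  show g * r.1 = g * r.1 * g⁻¹ * g
  group

theorem avg_bot : avg ρ (⊥ : Subgroup G) = 1 := by
  haveI : Fintype (⊥ : Subgroup G) := Fintype.ofFinite _
  rw [avg_def, Nat.card_unique, Nat.cast_one, inv_one, one_smul, Fintype.sum_subsingleton _ 1]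
  exact map_one ρ

theorem fix_closure {S : Set G} {X : Module.End ℂ V} (h : ∀ t ∈ S, ρ t * X = X) :
    ∀ r ∈ Subgroup.closure S, ρ r * X = X := by
  intro r hr
  induction hr using Subgroup.closure_induction with
  | mem x hx => exact h x hx
  | one => rw [map_one, one_mul]
  | mul x y _ _ hx hy => rw [map_mul, mul_assoc, hy, hx]
  | inv x _ hx =>
    conv_lhs => rw [← hx, ← mul_assoc, ← map_mul, inv_mul_cancel, map_one, one_mul]

theorem fix_closure' {S : Set G} {X : Module.End ℂ V} (h : ∀ t ∈ S, X * ρ t = X) :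
    ∀ r ∈ Subgroup.closure S, X * ρ r = X := by
  intro r hr
  induction hr using Subgroup.closure_induction with
  | mem x hx => exact h x hx
  | one => rw [map_one, mul_one]
  | mul x y _ _ hx hy => rw [map_mul, ← mul_assoc, hx, hy]
  | inv x _ hx =>
    conv_lhs => rw [← hx, mul_assoc, ← map_mul, mul_inv_cancel, map_one, mul_one]

end Avg

section Pairing

variable {F : Type*} [Field F] [Fintype F] {A : Type*} [AddCommGroup A] [Module F A] [Fintype A]
  (β : A →ₗ[F] A →ₗ[F] F) (ρ : Representation ℂ G V) (T : A → G)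

/-- The projection on the eigenspace of the character `a ↦ chi (β b a)`. -/
noncomputable def pj (b : A) : Module.End ℂ V :=
  (Fintype.card A : ℂ)⁻¹ • ∑ a, chi F (-(β b a)) • ρ (T a)

theorem card_A_ne : (Fintype.card A : ℂ) ≠ 0 := Nat.cast_ne_zero.mpr Fintype.card_ne_zero

variable (hnd : ∀ a, (∀ b, β b a = 0) → a = 0) (hsym : ∀ a b, β a b = β b a)

include hnd hsym

theorem sum_chi_pair [DecidableEq A] (b : A) :
    ∑ a, chi F (β b a) = if b = 0 then (Fintype.card A : ℂ) else 0 := by
  split_ifs with hb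
  · simp [hb]
  · obtain ⟨a, ha⟩ : ∃ a, β b a ≠ 0 := by
      by_contra h
      push Not at h
      exact hb (hnd b fun a => by rw [hsym]; exact h a)
    obtain ⟨x, hx⟩ := (exists_char F).choose_spec (β b a) ha
    have hne : (chi F).compAddMonoidHom (β b).toAddMonoidHom ≠ 0 := by
      intro h0
      apply hx
      have h1 := DFunLike.congr_fun h0 (x • a)
      show chi F (β b a * x) = 1
      simpa [mul_comm] using h1
    exact AddChar.sum_eq_zero_iff_ne_zero.mpr hne

variable (hT : ∀ v w, T v * T w = T (v + w))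

omit hnd hsym in
include hT in
theorem T_zero : T 0 = 1 := mul_eq_left.mp (show T 0 * T 0 = T 0 by rw [hT, add_zero])

omit hnd hsym in
include hT in
theorem rho_mul_pj (v b : A) : ρ (T v) * pj β ρ T b = chi F (β b v) • pj β ρ T b := by
  simp only [pj, Finset.mul_sum, mul_smul_comm, Finset.smul_sum, smul_smul]
  refine Fintype.sum_equiv (Equiv.addLeft v) _ _ fun w => ?_
  rw [← map_mul, hT, Equiv.coe_addLeft]
  congr 1
  rw [mul_left_comm, ← AddChar.map_add_eq_mul, LinearMap.map_add]
  ring_nf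

omit hnd hsym in
include hT in
theorem pj_mul_rho (v b : A) : pj β ρ T b * ρ (T v) = chi F (β b v) • pj β ρ T b := by
  simp only [pj, Finset.sum_mul, mul_smul_comm, smul_mul_assoc, Finset.smul_sum, smul_smul]
  refine Fintype.sum_equiv (Equiv.addRight v) _ _ fun w => ?_
  rw [← map_mul, hT, Equiv.coe_addRight]
  congr 1
  rw [mul_left_comm, ← AddChar.map_add_eq_mul, LinearMap.map_add]
  ring_nf

include hT

theorem pj_mul_pj [DecidableEq A] (b c : A) :
    pj β ρ T b * pj β ρ T c = if b = c then pj β ρ T b else 0 := by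
  conv_lhs => arg 1; rw [pj]
  rw [smul_mul_assoc, Finset.sum_mul]
  simp only [smul_mul_assoc, rho_mul_pj β ρ T hT, smul_smul, ← Finset.sum_smul, ← AddChar.map_add_eq_mul]
  have : ∀ w : A, -(β b w) + β c w = β (c - b) w := fun w => by
    rw [map_sub, LinearMap.sub_apply]; ring
  simp only [this, sum_chi_pair β hnd hsym, sub_eq_zero, eq_comm (a := c)]
  split_ifs with h
  · rw [h, inv_mul_cancel₀ card_A_ne, one_smul]
  · simp

theorem sum_pj [DecidableEq A] : ∑ b, pj β ρ T b = 1 := by
  simp only [pj, ← Finset.smul_sum]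
  rw [Finset.sum_comm]
  simp only [← Finset.sum_smul]
  have h : ∀ a : A, ∑ b, chi F (-(β b a)) = if a = 0 then (Fintype.card A : ℂ) else 0 := fun a => by
    rw [Fintype.sum_equiv (Equiv.neg A) (fun b => chi F (-(β b a))) (fun b => chi F (β a b))
      (fun b => by rw [Equiv.neg_apply, LinearMap.map_neg, hsym b a])]
    exact sum_chi_pair β hnd hsym a
  simp only [h, ite_smul, zero_smul, Finset.sum_ite_eq', Finset.mem_univ, if_true]
  rw [T_zero T hT, map_one, smul_smul, inv_mul_cancel₀ card_A_ne, one_smul]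

omit hnd hsym hT in
theorem pj_zero_mul {X : Module.End ℂ V} (h : ∀ a, ρ (T a) * X = X) : pj β ρ T 0 * X = X := by
  simp only [pj, map_zero, LinearMap.zero_apply, neg_zero, AddChar.map_zero_eq_one, one_smul, smul_mul_assoc,
    Finset.sum_mul, h, Finset.sum_const, Finset.card_univ]
  rw [← Nat.cast_smul_eq_nsmul ℂ, smul_smul, inv_mul_cancel₀ card_A_ne, one_smul]

omit hnd hsym hT in
theorem mul_pj_zero {X : Module.End ℂ V} (h : ∀ a, X * ρ (T a) = X) : X * pj β ρ T 0 = X := by
  simp only [pj, map_zero, LinearMap.zero_apply, neg_zero, AddChar.map_zero_eq_one, one_smul, mul_smul_comm,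
    Finset.mul_sum, h, Finset.sum_const, Finset.card_univ]
  rw [← Nat.cast_smul_eq_nsmul ℂ, smul_smul, inv_mul_cancel₀ card_A_ne, one_smul]

omit hnd hsym hT in
theorem pj_commute {X : Module.End ℂ V} (h : ∀ a, Commute X (ρ (T a))) (b : A) : Commute X (pj β ρ T b) := by
  show X * _ = _ * X
  simp only [pj, mul_smul_comm, smul_mul_assoc, Finset.mul_sum, Finset.sum_mul, (h _).eq]

omit hnd hsym hT in
/-- An element normalising the family up to a factor killed by `E` moves the projections. -/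
theorem mul_rho_mul_pj (g : G) (σ : A ≃ A) (E : Module.End ℂ V)
    (h : ∀ a, E * (ρ g * ρ (T a)) = E * (ρ (T (σ a)) * ρ g)) (b c : A) (hb : ∀ a, β c (σ a) = β b a) :
    E * (ρ g * pj β ρ T b) = E * (pj β ρ T c * ρ g) := by
  simp only [pj, mul_smul_comm, smul_mul_assoc, Finset.mul_sum, Finset.sum_mul]
  congr 1
  refine Fintype.sum_equiv σ _ _ fun w => ?_
  rw [h, hb]

end Pairing

theorem trace_zero_of_moved [FiniteDimensional ℂ V] {g X X' : Module.End ℂ V} (hX : X * X = X)
    (hg : g * X = X' * g) (h0 : X * X' = 0) : LinearMap.trace ℂ V (g * X) = 0 := by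
  have h1 : LinearMap.trace ℂ V (g * X) = LinearMap.trace ℂ V (X * (g * X)) := by
    rw [LinearMap.trace_mul_comm ℂ X (g * X), mul_assoc, hX]
  rw [h1, hg, ← mul_assoc, h0, zero_mul, map_zero]

/-- The trace of an involution on an invariant idempotent. -/
theorem trace_involution [FiniteDimensional ℂ V] {g X : Module.End ℂ V} (hX : X * X = X) (hg : g * g = 1)
    (hc : g * X = X * g) : ∃ a b : ℕ, LinearMap.trace ℂ V (g * X) = (a : ℂ) - b ∧
      a + b = Module.finrank ℂ (LinearMap.range X) := by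
  have key : ∀ c : ℂ, c * c = 1 → ((2 : ℂ)⁻¹ • (X + c • (g * X))) * ((2 : ℂ)⁻¹ • (X + c • (g * X))) =
      (2 : ℂ)⁻¹ • (X + c • (g * X)) := by
    intro c hc'
    have h1 : g * X * X = g * X := by rw [mul_assoc, hX]
    have h2 : X * (g * X) = g * X := by rw [← mul_assoc, ← hc, h1]
    have h3 : g * X * (g * X) = X := by rw [mul_assoc, h2, ← mul_assoc, hg, one_mul]
    simp only [smul_mul_assoc, mul_smul_comm, add_mul, mul_add, smul_add, smul_smul, hX, h1, h2, h3]
    rw [show (2 : ℂ)⁻¹ * c * (2⁻¹ * c) = 2⁻¹ * 2⁻¹ by linear_combination ((2 : ℂ)⁻¹ * 2⁻¹) * hc']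
    module
  refine ⟨Module.finrank ℂ (LinearMap.range ((2 : ℂ)⁻¹ • (X + (1 : ℂ) • (g * X)))),
    Module.finrank ℂ (LinearMap.range ((2 : ℂ)⁻¹ • (X + (-1 : ℂ) • (g * X)))), ?_, ?_⟩
  · rw [← SLMinDeg.trace_eq_finrank_range _ (key 1 (one_mul _)),
      ← SLMinDeg.trace_eq_finrank_range _ (key (-1) (by ring)), ← map_sub]
    congr 1
    module
  · have : (((Module.finrank ℂ (LinearMap.range ((2 : ℂ)⁻¹ • (X + (1 : ℂ) • (g * X)))) +
        Module.finrank ℂ (LinearMap.range ((2 : ℂ)⁻¹ • (X + (-1 : ℂ) • (g * X)))) : ℕ)) : ℂ) =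
        (Module.finrank ℂ (LinearMap.range X) : ℂ) := by
      rw [Nat.cast_add, ← SLMinDeg.trace_eq_finrank_range _ (key 1 (one_mul _)),
        ← SLMinDeg.trace_eq_finrank_range _ (key (-1) (by ring)), ← SLMinDeg.trace_eq_finrank_range _ hX,
        ← map_add]
      congr 1
      module
    exact_mod_cast this

end CfsgLib.OrthDeg
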