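import Cfsg.Agent.Lib.OrthDeg.OddSteps

set_option autoImplicit false

/-!
Arithmetic for the bound in even dimension: the class of a long root element leaves no degree just
below the bound, outside one case.
-/

namespace CfsgLib.OrthDeg

/-- `q (1 + q² + ⋯ + q^(2n-4)) + ε q^(n-1)`, the bound in dimension `2n`. -/
def evf (q : ℕ) (ε : ℤ) (n : ℕ) : ℤ := (q : ℤ) * bsum q (n - 1) + ε * (q : ℤ) ^ (n - 1)

theorem bsum_int (q n : ℕ) (hq : 1 ≤ q) :
    ((q : ℤ) * q - 1) * (bsum q n : ℤ) + 1 = (q : ℤ) ^ (2 * n) := by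
  have h := congrArg (fun x : ℕ => (x : ℤ)) (bsum_mul q n hq)
  push_cast [Nat.cast_sub (Nat.one_le_iff_ne_zero.mpr (Nat.mul_ne_zero (by omega) (by omega)) : 1 ≤ q * q)] at h
  exact h

theorem evf_mul {q : ℕ} (hq : 1 ≤ q) (ε : ℤ) {n : ℕ} (hn : 1 ≤ n) :
    ((q : ℤ) * q - 1) * evf q ε n =
      (q : ℤ) ^ (2 * n - 1) - q + ε * (((q : ℤ) * q - 1) * (q : ℤ) ^ (n - 1)) := by
  obtain ⟨m, rfl⟩ : ∃ m, n = m + 1 := ⟨n - 1, by omega⟩
  rw [evf, Nat.add_sub_cancel, show 2 * (m + 1) - 1 = 2 * m + 1 by omega, pow_succ, ← bsum_int q m hq]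
  ring

theorem evf_mul_factor {q : ℕ} (hq : 1 ≤ q) {ε : ℤ} (hε : ε = 1 ∨ ε = -1) {n : ℕ} (hn : 1 ≤ n) :
    ((q : ℤ) * q - 1) * evf q ε n = ((q : ℤ) ^ n - ε) * ((q : ℤ) ^ (n - 1) + ε * q) := by
  rw [evf_mul hq ε hn]
  obtain ⟨m, rfl⟩ : ∃ m, n = m + 1 := ⟨n - 1, by omega⟩
  rw [Nat.add_sub_cancel, show 2 * (m + 1) - 1 = 2 * m + 1 by omega]
  rcases hε with rfl | rfl <;> ring

theorem pow_ge_sq (m : ℕ) (hm : 9 ≤ m) : 3 * (m + 4) ^ 2 < 2 ^ m := by
  induction m, hm using Nat.le_induction with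
  | base => norm_num
  | succ m hm ih =>
    rw [pow_succ 2 m]
    nlinarith

theorem pow_ge_lin (m : ℕ) (hm : 4 ≤ m) : 3 * m < 2 ^ m := by
  induction m, hm using Nat.le_induction with
  | base => norm_num
  | succ m hm ih => rw [pow_succ 2 m]; omega

theorem evf_ge {q n : ℕ} (hq : 2 ≤ q) {ε : ℤ} (hε : ε = 1 ∨ ε = -1) (hn : 4 ≤ n) :
    (q : ℤ) ^ (2 * n - 3) ≤ evf q ε n := by
  obtain ⟨m, rfl⟩ : ∃ m, n = m + 3 := ⟨n - 3, by omega⟩
  have h0 : (q : ℤ) ^ (m + 2) ≤ (q : ℤ) ^ (2 * m + 1) :=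
    pow_le_pow_right₀ (by exact_mod_cast (show 1 ≤ q by omega)) (by omega)
  rw [evf, show m + 3 - 1 = m + 1 + 1 by omega, bsum_succ, bsum_succ,
    show 2 * (m + 3) - 3 = 2 * (m + 1) + 1 by omega]
  have h1 : (0 : ℤ) ≤ (q : ℤ) * bsum q m := by positivity
  have h2 : (0 : ℤ) ≤ (q : ℤ) ^ (m + 2) := by positivity
  push_cast
  have e : (q : ℤ) * ((bsum q m : ℤ) + (q : ℤ) ^ (2 * m) + (q : ℤ) ^ (2 * (m + 1))) =
      (q : ℤ) * bsum q m + (q : ℤ) ^ (2 * m + 1) + (q : ℤ) ^ (2 * (m + 1) + 1) := by ring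
  rcases hε with rfl | rfl <;> linarith

/-- The finitely many small parameters. -/
def evSmall (n q j : ℕ) (ε : ℤ) : Bool :=
  decide (((evf q ε n) * ((q : ℤ) ^ (2 * n - 2) - 1) * (q : ℤ) ^ (2 * n - 4)) % (evf q ε n - j) ≠ 0)

set_option maxRecDepth 40000 in
theorem evSmall_all : ((List.range' 5 10).all fun n => (List.range' 2 11).all fun q =>
    (List.range' 1 (n - 2)).all fun j => evSmall n q j 1 && evSmall n q j (-1)) = true := by decide +kernel

theorem p_part_le {p r : ℕ} (hp : p.Prime) {g N q M : ℕ} (hq : q = p ^ r) (hgN : g ∣ q ^ M)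
    (hdvd : g ∣ q ^ N → g ≤ q ^ N) {x : ℕ} (hx : q ^ N ∣ g → ¬ q ^ N ∣ x) (hgx : g ∣ q ^ N → g ∣ x)
    (hgx' : q ^ N ∣ g → q ^ N ∣ x) : g ∣ q ^ N ∧ g ∣ x := by
  subst hq
  rw [← pow_mul] at hgN
  obtain ⟨a, -, rfl⟩ := (Nat.dvd_prime_pow hp).mp hgN
  rcases Nat.le_total a (r * N) with h | h
  · have hd : p ^ a ∣ (p ^ r) ^ N := by rw [← pow_mul]; exact pow_dvd_pow p h
    exact ⟨hd, hgx hd⟩
  · have hd : (p ^ r) ^ N ∣ p ^ a := by rw [← pow_mul]; exact pow_dvd_pow p h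
    exact absurd (hgx' hd) (hx hd)

set_option maxHeartbeats 1600000 in
/-- No degree `evf - j` with `1 ≤ j ≤ n - 2` satisfies the class-sum divisibility, outside `(4,2)`. -/
theorem ev_no_degree {p r q n k j : ℕ} {ε : ℤ} (hp : p.Prime) (hqp : q = p ^ r) (hq : 2 ≤ q)
    (hn : 4 ≤ n) (hε : ε = 1 ∨ ε = -1) (hj1 : 1 ≤ j) (hj : j + 2 ≤ n) (hex : ¬ (n = 4 ∧ q = 2 ∧ j = 2))
    (h41 : n = 4 → j = 2 → ε = -1)
    (hk : (k : ℤ) + j = evf q ε n)
    (hdvd : (k : ℤ) ∣ evf q ε n * ((q : ℤ) ^ (2 * n - 2) - 1) * (q : ℤ) ^ (2 * n - 4)) : False := by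
  set f := evf q ε n with hf
  have hq1 : 1 ≤ q := by omega
  have hqZ : (2 : ℤ) ≤ q := by exact_mod_cast hq
  have hfmul := evf_mul hq1 ε (n := n) (by omega)
  rw [← hf] at hfmul
  have hfge := evf_ge hq hε hn
  rw [← hf] at hfge
  -- reduction of the divisibility
  have h1 : (k : ℤ) ∣ (q : ℤ) ^ (2 * n - 5) *
      ((((q : ℤ) * q - 1) * j) * ((j : ℤ) - ε * (q : ℤ) ^ (n - 1))) := by
    have e1 : f * ((q : ℤ) ^ (2 * n - 2) - 1) * (q : ℤ) ^ (2 * n - 4) =
        (q : ℤ) ^ (2 * n - 5) * (((q : ℤ) * q - 1) * ((f - ε * (q : ℤ) ^ (n - 1)) * f)) := by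
      rw [show 2 * n - 4 = 2 * n - 5 + 1 by omega, pow_succ]
      have : (q : ℤ) * ((q : ℤ) ^ (2 * n - 2) - 1) = ((q : ℤ) * q - 1) * (f - ε * (q : ℤ) ^ (n - 1)) := by
        rw [mul_sub ((q : ℤ) * q - 1), hfmul, show 2 * n - 1 = 2 * n - 2 + 1 by omega, pow_succ]
        ring
      linear_combination (f * (q : ℤ) ^ (2 * n - 5)) * this
    rw [e1] at hdvd
    have e2 : (q : ℤ) ^ (2 * n - 5) * (((q : ℤ) * q - 1) * ((f - ε * (q : ℤ) ^ (n - 1)) * f)) =
        (k : ℤ) * ((q : ℤ) ^ (2 * n - 5) * (((q : ℤ) * q - 1) * (f + j - ε * (q : ℤ) ^ (n - 1)))) +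
        (q : ℤ) ^ (2 * n - 5) * ((((q : ℤ) * q - 1) * j) * ((j : ℤ) - ε * (q : ℤ) ^ (n - 1))) := by
      linear_combination (-((q : ℤ) ^ (2 * n - 5) * (((q : ℤ) * q - 1) * (f + j - ε * (q : ℤ) ^ (n - 1))))) * hk
    rw [e2] at hdvd
    exact (dvd_add_right (Dvd.intro _ rfl)).mp hdvd
  have hjn : (j : ℤ) ≤ n - 2 := by
    have : (j : ℤ) + 2 ≤ n := by exact_mod_cast hj
    linarith
  have hA : (0 : ℤ) < ((q : ℤ) * q - 1) * j := by
    refine mul_pos ?_ (by exact_mod_cast hj1)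
    nlinarith
  set A : ℕ := (q * q - 1) * j with hAdef
  set B : ℕ := ((j : ℤ) - ε * (q : ℤ) ^ (n - 1)).natAbs with hBdef
  have hqq : 1 ≤ q * q := Nat.mul_pos hq1 hq1
  have hAZ : (A : ℤ) = ((q : ℤ) * q - 1) * j := by rw [hAdef, Nat.cast_mul, Nat.cast_sub hqq]; push_cast; ring
  have hB1 : B ≤ q ^ (n - 1) + j := by
    have h : (B : ℤ) ≤ (q : ℤ) ^ (n - 1) + j := by
      rw [hBdef, Int.natCast_natAbs, abs_le]
      have := pow_nonneg (show (0 : ℤ) ≤ q by positivity) (n - 1)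
      rcases hε with rfl | rfl <;> constructor <;> linarith
    exact_mod_cast h
  have h2 : k ∣ q ^ (2 * n - 5) * (A * B) := by
    have h := Int.natAbs_dvd_natAbs.mpr h1
    rw [← hAZ, Int.natAbs_mul, Int.natAbs_mul, Int.natAbs_natCast, Int.natAbs_natCast, Int.natAbs_pow,
      Int.natAbs_natCast] at h
    exact h
  set g := Nat.gcd k (q ^ (2 * n - 5)) with hg
  have hkg : k ∣ g * (A * B) := dvd_gcd_mul_iff_dvd_mul.mpr h2
  have hgk : g ∣ k := Nat.gcd_dvd_left _ _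
  have hgq : g ∣ q ^ (2 * n - 5) := Nat.gcd_dvd_right _ _
  -- `(q² - 1) k + (q + (q² - 1) j)` is divisible by `q^(n-1)`
  set x := q + A with hx
  have hqk : ∀ d : ℕ, d ∣ q ^ (n - 1) → d ∣ k → d ∣ x := by
    intro d hd hdk
    have hdk' : (d : ℤ) ∣ (k : ℤ) := by exact_mod_cast hdk
    have hd' : (d : ℤ) ∣ (q : ℤ) ^ (n - 1) := by exact_mod_cast hd
    have hd2 : (d : ℤ) ∣ (q : ℤ) ^ (2 * n - 1) := dvd_trans hd' (pow_dvd_pow _ (by omega))
    have e : (x : ℤ) = (q : ℤ) ^ (2 * n - 1) + ε * (((q : ℤ) * q - 1) * (q : ℤ) ^ (n - 1)) -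
        ((q : ℤ) * q - 1) * (k : ℤ) := by
      rw [hx, Nat.cast_add, hAZ]
      linear_combination (((q : ℤ) * q - 1)) * hk + hfmul
    have : (d : ℤ) ∣ (x : ℤ) := by
      rw [e]
      exact dvd_sub (dvd_add hd2 (dvd_mul_of_dvd_right (dvd_mul_of_dvd_right hd' _) _))
        (dvd_mul_of_dvd_right hdk' _)
    exact_mod_cast this
  have hxlt : n = 4 ∧ q = 2 ∧ j = 2 ∨ x < q ^ (n - 1) := by
    rcases Nat.lt_or_ge n 5 with h5 | h5
    · obtain rfl : n = 4 := by omega
      rcases Nat.lt_or_ge q 3 with h3 | h3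
      · obtain rfl : q = 2 := by omega
        rcases Nat.lt_or_ge j 2 with hj2 | hj2
        · right; obtain rfl : j = 1 := by omega
          norm_num [hx, hAdef]
        · left; omega
      · right
        have hA2 : A ≤ q * q * 2 := Nat.mul_le_mul (Nat.sub_le _ _) (by omega)
        have h' := Nat.mul_le_mul_right (q * q) h3
        norm_num [pow_succ]
        nlinarith
    · right
      obtain ⟨m, rfl⟩ : ∃ m, n = m + 3 := ⟨n - 3, by omega⟩
      have hA2 : A ≤ q * q * (m + 1) := Nat.mul_le_mul (Nat.sub_le _ _) (by omega)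
      rw [show m + 3 - 1 = m + 2 by omega, pow_add, pow_two]
      rcases Nat.lt_or_ge m 3 with h3 | h3
      · obtain rfl : m = 2 := by omega
        have h' := Nat.mul_le_mul hq hq
        nlinarith [Nat.mul_le_mul_left (q * q) h']
      · have h4' : ∀ k : ℕ, 3 ≤ k → k + 2 ≤ 2 ^ k := fun k hk => Nat.le_induction (by norm_num)
          (fun k _ ih => by rw [pow_succ]; omega) k hk
        have h4 := h4' m h3
        have h5 := Nat.pow_le_pow_left hq m
        have hqle : q ≤ q * q := Nat.le_mul_of_pos_left q hq1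
        have h6 := Nat.mul_le_mul_right (q * q) (le_trans h4 h5)
        nlinarith
  have hxlt' : x < q ^ (n - 1) := hxlt.resolve_left hex
  have hxpos : 0 < x := by omega
  have hgx : g ∣ x := (p_part_le hp hqp hgq (fun h => Nat.le_of_dvd (Nat.pow_pos hq1) h)
    (fun _ h => absurd (Nat.le_of_dvd hxpos h) (by omega)) (fun h => hqk g h hgk)
    (fun h => hqk _ dvd_rfl (dvd_trans h hgk))).2
  have hgle : g ≤ x := Nat.le_of_dvd hxpos hgx
  have hgj : j < q → g ≤ j := by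
    intro hjq
    have hco : Nat.Coprime q (q * q - 1) := by
      have : Nat.Coprime (q * q) (q * q - 1) := by
        rw [Nat.coprime_self_sub_right hqq]; exact Nat.coprime_one_right _
      exact Nat.Coprime.coprime_mul_left this
    have h := p_part_le hp (N := 1) hqp hgq (fun h => Nat.le_of_dvd (Nat.pow_pos hq1) h) (x := j)
      (fun _ h => by rw [pow_one] at h; exact absurd (Nat.le_of_dvd hj1 h) (by omega))
      (fun h => by
        rw [pow_one] at h
        have hA' : g ∣ A := (Nat.dvd_add_right h).mp (hx ▸ hgx)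
        exact (Nat.Coprime.coprime_dvd_left h hco).dvd_of_dvd_mul_left hA')
      (fun h => by
        rw [pow_one] at h ⊢
        have hA' : q ∣ A := (Nat.dvd_add_right (dvd_refl q)).mp (hx ▸ dvd_trans h hgx)
        exact hco.dvd_of_dvd_mul_left hA')
    exact Nat.le_of_dvd hj1 h.2
  have hk0 : q ^ (2 * n - 3) ≤ k + j := by
    have : (q : ℤ) ^ (2 * n - 3) ≤ (k : ℤ) + j := by rw [hk]; exact hfge
    exact_mod_cast this
  have hB0 : B ≠ 0 := by
    intro h0
    have hx0 : (j : ℤ) - ε * (q : ℤ) ^ (n - 1) = 0 := Int.natAbs_eq_zero.mp h0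
    have hh : (x : ℤ) < (q : ℤ) ^ (n - 1) := by exact_mod_cast hxlt'
    rw [hx, Nat.cast_add, hAZ] at hh
    have h3 : (3 : ℤ) ≤ (q : ℤ) * q - 1 := by nlinarith
    have hj1' : (1 : ℤ) ≤ j := by exact_mod_cast hj1
    have h4 := mul_le_mul_of_nonneg_right h3 (show (0 : ℤ) ≤ j by linarith)
    have h5 : (0 : ℤ) ≤ (q : ℤ) ^ (n - 1) := by positivity
    rcases hε with rfl | rfl <;> linarith
  have hA0 : A ≠ 0 := Nat.mul_ne_zero (by have := Nat.mul_le_mul hq hq; omega) (by omega)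
  have hg0 : g ≠ 0 := fun h => by
    rw [h] at hgq
    have := Nat.eq_zero_of_zero_dvd hgq
    exact absurd this (Nat.pow_pos hq1).ne'
  have hbound : k ≤ g * (A * (q ^ (n - 1) + j)) :=
    le_trans (Nat.le_of_dvd (Nat.pos_of_ne_zero (mul_ne_zero hg0 (mul_ne_zero hA0 hB0))) hkg)
      (Nat.mul_le_mul_left _ (Nat.mul_le_mul_left _ hB1))
  rcases Nat.lt_or_ge n 5 with h5 | h5
  · -- dimension eight
    obtain rfl : n = 4 := by omega
    have hf4 : f = (q : ℤ) ^ 5 + (q : ℤ) ^ 3 + q + ε * (q : ℤ) ^ 3 := by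
      rw [hf, evf]
      simp [bsum, Finset.sum_range_succ]
      ring
    rcases Nat.lt_or_ge j 2 with hj2 | hj2
    · obtain rfl : j = 1 := by omega
      have hg1 : g = 1 := by have := hgj (by omega); omega
      rw [hg1, one_mul] at hkg
      have hkle : k ≤ A * B := Nat.le_of_dvd (Nat.pos_of_ne_zero (mul_ne_zero hA0 hB0)) hkg
      have hBle : (B : ℤ) ≤ (q : ℤ) ^ 3 + 1 := by exact_mod_cast hB1
      have hkle' : (k : ℤ) ≤ (A : ℤ) * B := by exact_mod_cast hkle
      rw [hAZ] at hkle'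
      have h3 : (8 : ℤ) ≤ (q : ℤ) ^ 3 := by
        calc (8 : ℤ) = 2 ^ 3 := by norm_num
          _ ≤ _ := pow_le_pow_left₀ (by norm_num) hqZ 3
      have h4 : ((q : ℤ) * q - 1) * B ≤ ((q : ℤ) * q - 1) * ((q : ℤ) ^ 3 + 1) :=
        mul_le_mul_of_nonneg_left hBle (by nlinarith)
      have h5 : 2 * (q : ℤ) ^ 2 ≤ (q : ℤ) ^ 3 := by
        rw [pow_succ' (q : ℤ) 2]
        exact mul_le_mul_of_nonneg_right hqZ (sq_nonneg _)
      rw [hf4] at hk
      push_cast at hk hkle'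
      rcases hε with rfl | rfl
      · have hb : (B : ℤ) ≤ (q : ℤ) ^ 3 - 1 := by
          rw [hBdef, Int.natCast_natAbs, abs_le]; push_cast; constructor <;> linarith
        have h6 : ((q : ℤ) * q - 1) * B ≤ ((q : ℤ) * q - 1) * ((q : ℤ) ^ 3 - 1) :=
          mul_le_mul_of_nonneg_left hb (by nlinarith only [hqZ])
        have h7 : (0 : ℤ) ≤ (q : ℤ) ^ 2 := sq_nonneg _
        rw [show ((q : ℤ) * q - 1) * ((q : ℤ) ^ 3 - 1) = (q : ℤ) ^ 5 - (q : ℤ) ^ 3 - (q : ℤ) ^ 2 + 1 by ring] at h6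
        linarith
      · rw [show ((q : ℤ) * q - 1) * ((q : ℤ) ^ 3 + 1) = (q : ℤ) ^ 5 - (q : ℤ) ^ 3 + (q : ℤ) ^ 2 - 1 by ring] at h4
        have h7 : (0 : ℤ) ≤ (q : ℤ) ^ 2 := sq_nonneg _
        linarith
    · obtain rfl : j = 2 := by omega
      obtain rfl : ε = -1 := h41 rfl rfl
      have hq3 : 3 ≤ q := by omega
      have hg2 : g ≤ 2 := hgj (by omega)
      have hBeq : B = q ^ 3 + 2 := by
        have : (B : ℤ) = (q : ℤ) ^ 3 + 2 := by
          rw [hBdef, Int.natCast_natAbs, abs_of_nonneg (by have h3 : (0 : ℤ) ≤ (q : ℤ) ^ 3 := (by positivity); push_cast; linarith)]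
          push_cast; ring
        exact_mod_cast this
      obtain ⟨c, hc⟩ := hkg
      have hc' : (g : ℤ) * (((q : ℤ) * q - 1) * 2 * ((q : ℤ) ^ 3 + 2)) = (k : ℤ) * c := by
        rw [hBeq] at hc
        have := congrArg (fun z : ℕ => (z : ℤ)) hc
        push_cast at this
        rw [hAZ] at this
        push_cast at this
        linarith
      rw [hf4] at hk
      push_cast at hk
      have hq3' : (3 : ℤ) ≤ q := by exact_mod_cast hq3
      have h9 : (9 : ℤ) ≤ (q : ℤ) ^ 2 := by nlinarith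
      have h27 : (27 : ℤ) ≤ (q : ℤ) ^ 3 := by nlinarith
      have hg1 : 1 ≤ g := Nat.pos_of_ne_zero hg0
      have hk1 : (k : ℤ) = (q : ℤ) ^ 5 + q - 2 := by linarith
      set R : ℤ := (q : ℤ) ^ 5 - (q : ℤ) ^ 3 + 2 * (q : ℤ) ^ 2 - 2 with hR
      have h5 : 9 * (q : ℤ) ^ 3 ≤ (q : ℤ) ^ 5 := by
        rw [show (q : ℤ) ^ 5 = (q : ℤ) ^ 2 * (q : ℤ) ^ 3 by ring]
        exact mul_le_mul_of_nonneg_right h9 (by positivity)
      have h3 : 3 * (q : ℤ) ^ 2 ≤ (q : ℤ) ^ 3 := by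
        rw [pow_succ' (q : ℤ) 2]
        exact mul_le_mul_of_nonneg_right hq3' (sq_nonneg _)
      have h2 : 3 * (q : ℤ) ≤ (q : ℤ) ^ 2 := by
        rw [pow_two]
        exact mul_le_mul_of_nonneg_right hq3' (by positivity)
      have hlo : (3 : ℤ) * k < 4 * R := by rw [hk1, hR]; linarith
      have hhi : R < (k : ℤ) := by rw [hk1, hR]; linarith
      have hkpos : (0 : ℤ) ≤ k := Int.natCast_nonneg k
      rcases (show g = 1 ∨ g = 2 by omega) with h12 | h12
      · have e : 2 * R = (k : ℤ) * c := by rw [← hc', hR, h12]; push_cast; ring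
        rcases Nat.lt_or_ge c 2 with h | h
        · have := mul_le_mul_of_nonneg_left (show (c : ℤ) ≤ 1 by exact_mod_cast (show c ≤ 1 by omega)) hkpos
          linarith
        · have := mul_le_mul_of_nonneg_left (show (2 : ℤ) ≤ c by exact_mod_cast h) hkpos
          linarith
      · have e : 4 * R = (k : ℤ) * c := by rw [← hc', hR, h12]; push_cast; ring
        rcases Nat.lt_or_ge c 4 with h | h
        · have := mul_le_mul_of_nonneg_left (show (c : ℤ) ≤ 3 by exact_mod_cast (show c ≤ 3 by omega)) hkpos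
          linarith
        · have := mul_le_mul_of_nonneg_left (show (4 : ℤ) ≤ c by exact_mod_cast h) hkpos
          linarith
  rcases Nat.lt_or_ge n 15 with h15 | h15
  · rcases Nat.lt_or_ge q 13 with h13 | h13
    · have h := evSmall_all
      rw [List.all_eq_true] at h
      have h' := h n (List.mem_range'_1.mpr (by omega))
      rw [List.all_eq_true] at h'
      have h'' := h' q (List.mem_range'_1.mpr (by omega))
      rw [List.all_eq_true] at h''
      have hh := h'' j (List.mem_range'_1.mpr (by omega))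
      rw [Bool.and_eq_true] at hh
      have he : evSmall n q j ε = true := by rcases hε with rfl | rfl; exacts [hh.1, hh.2]
      rw [evSmall, decide_eq_true_eq] at he
      refine he ?_
      rw [← hf, show f - (j : ℤ) = (k : ℤ) by linarith]
      exact Int.emod_eq_zero_of_dvd hdvd
    · -- large field
      obtain ⟨m, rfl⟩ : ∃ m, n = m + 5 := ⟨n - 5, by omega⟩
      have hjq : j < q := by omega
      have hg' := hgj hjq
      rw [show m + 5 - 1 = m + 4 by omega] at hbound hB1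
      rw [show 2 * (m + 5) - 3 = m + 6 + (m + 1) by omega, pow_add] at hk0
      have hjm : j ≤ m + 3 := by omega
      have hA3 : (q * q - 1) * (q ^ (m + 4) + j) ≤ q ^ (m + 6) := by
        have h' : q * q * j ≤ q ^ (m + 4) := by
          rw [show m + 4 = (m + 1) + 1 + 1 + 1 by omega, pow_succ, pow_succ, pow_succ]
          have := Nat.one_le_pow (m + 1) q hq1
          calc q * q * j ≤ q * q * q := Nat.mul_le_mul_left _ hjq.le
            _ = 1 * q * q * q := by ring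
            _ ≤ _ := Nat.mul_le_mul_right _ (Nat.mul_le_mul_right _ (Nat.mul_le_mul_right _ this))
        rw [Nat.sub_mul, one_mul, show q ^ (m + 6) = q * q * q ^ (m + 4) by ring, mul_add]
        omega
      have hb : k ≤ j * j * q ^ (m + 6) := by
        refine le_trans hbound (le_trans (Nat.mul_le_mul hg' (le_of_eq (rfl : A * (q ^ (m + 4) + j) = _))) ?_)
        rw [hAdef, mul_assoc j j]
        refine Nat.mul_le_mul_left _ ?_
        calc (q * q - 1) * j * (q ^ (m + 4) + j) = j * ((q * q - 1) * (q ^ (m + 4) + j)) := by ring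
          _ ≤ _ := Nat.mul_le_mul_left _ hA3
      have hsq : j * j + 1 < q ^ (m + 1) := by
        rcases Nat.eq_zero_or_pos m with rfl | hm
        · have := Nat.mul_le_mul hjm hjm
          rw [pow_one]; omega
        · have h2 : q ^ 2 ≤ q ^ (m + 1) := Nat.pow_le_pow_right hq1 (by omega)
          have h3 := Nat.mul_le_mul hjm hjm
          have h4 : (m + 3) * (m + 3) ≤ 144 := Nat.mul_le_mul (show m + 3 ≤ 12 by omega) (show m + 3 ≤ 12 by omega)
          have h5 := Nat.mul_le_mul h13 h13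
          rw [pow_two] at h2
          omega
      have h6 := Nat.mul_le_mul_left (q ^ (m + 6)) hsq
      have hp6 := Nat.one_le_pow (m + 6) q hq1
      have hjle : j ≤ q ^ (m + 6) := le_trans hjq.le (Nat.le_self_pow (by omega) q)
      rw [Nat.succ_eq_add_one, mul_add, mul_add, mul_one] at h6
      rw [mul_comm (j * j)] at hb
      omega
  · -- large rank
    obtain ⟨m, rfl⟩ : ∃ m, n = m + 6 := ⟨n - 6, by omega⟩
    have hm := pow_ge_sq m (by omega)
    have h2m := Nat.pow_le_pow_left hq m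
    rw [show m + 6 - 1 = m + 5 by omega] at hbound hxlt'
    rw [show 2 * (m + 6) - 3 = m + 9 + m by omega, pow_add] at hk0
    have hjm : j ≤ m + 4 := by omega
    have hA4 : A ≤ q * q * (m + 4) := Nat.mul_le_mul (Nat.sub_le _ _) hjm
    have hg4 : g ≤ q * q * (m + 4) := by
      have h1 : q * q * j ≤ q * q * (m + 4) := Nat.mul_le_mul_left _ hjm
      have h2 : j ≤ q * q * j := Nat.le_mul_of_pos_left j hqq
      rcases Nat.lt_or_ge j q with h | h
      · have := hgj h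
        omega
      · rw [hx, hAdef, Nat.sub_mul, one_mul] at hgle
        omega
    have hj5 : j ≤ q ^ (m + 5) := by
      have : j ≤ A := Nat.le_mul_of_pos_left j (by have := Nat.mul_le_mul hq hq; omega)
      omega
    have hb : k ≤ q * q * (m + 4) * (q * q * (m + 4) * (2 * q ^ (m + 5))) :=
      le_trans hbound (Nat.mul_le_mul hg4 (Nat.mul_le_mul hA4 (by omega)))
    have e : q * q * (m + 4) * (q * q * (m + 4) * (2 * q ^ (m + 5))) = q ^ (m + 9) * (2 * (m + 4) ^ 2) := by ring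
    rw [e] at hb
    have h7 : q ^ (m + 9) * (3 * (m + 4) ^ 2 + 1) ≤ q ^ (m + 9) * q ^ m :=
      Nat.mul_le_mul_left _ (le_trans hm h2m)
    have h8 : j < q ^ (m + 9) := lt_of_le_of_lt hj5 (Nat.pow_lt_pow_right hq (by omega))
    have h9 : q ^ (m + 9) * (3 * (m + 4) ^ 2 + 1) =
        q ^ (m + 9) * (2 * (m + 4) ^ 2) + q ^ (m + 9) * (m + 4) ^ 2 + q ^ (m + 9) := by ring
    rw [h9] at h7
    linarith [Nat.zero_le (q ^ (m + 9) * (m + 4) ^ 2)]

end CfsgLib.OrthDeg
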