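import Cfsg.Agent.Lib.OrthDeg.Levels
import Cfsg.Agent.Lib.OrthDeg.EArith

set_option autoImplicit false
set_option linter.unusedSectionVars false
set_option linter.style.haveILetI false

/-!
Frames of even dimension `2n`: `n - 1` hyperbolic pairs and a plane taking every value, counts of
values, elements of `Ω` with given values on a flag and the dimension of a layer by its value.
-/

namespace CfsgLib.OrthDeg

open QuadraticMap CfsgLib.Orth CfsgLib.KnownSimple.ModulePerm

variable {ι : Type} [Fintype ι] [DecidableEq ι] {F : Type*} [Field F] [Fintype F]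

/-- A frame in dimension `2n`, of sign `ε`. -/
structure EvenFrame (Q : QuadraticForm F (ι → F)) (n : ℕ) (ε : ℤ) extends Hyp Q (n - 1) where
  nd : Q.polarBilin.Nondegenerate
  hn : 4 ≤ n
  hι : Fintype.card ι = 2 * n
  hsign : ε = 1 ∨ ε = -1
  hq : ε = 1 → 3 < Fintype.card F
  val : ∀ c : F, c ≠ 0 → ∃ y ∈ toHyp.W (n - 1), Q y = c
  card_base : Nat.card (toHyp.W (n - 1)) = Fintype.card F ^ 2
  cone_base : (Nat.card {x : toHyp.W (n - 1) // Q x.1 = 0} : ℤ) =
    Fintype.card F + ε * ((Fintype.card F : ℤ) - 1)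

variable {Q : QuadraticForm F (ι → F)} {n : ℕ} {ε : ℤ} (S : EvenFrame Q n ε)

/-- The cone of dimension `2l`. -/
def coneZ (q : ℕ) (ε : ℤ) (l : ℕ) : ℤ := (q : ℤ) ^ (2 * l - 1) + ε * ((q : ℤ) ^ l - (q : ℤ) ^ (l - 1))

theorem evf_succ (q : ℕ) (ε : ℤ) {l : ℕ} (hl : 1 ≤ l) : evf q ε (l + 1) = evf q ε l + coneZ q ε l := by
  obtain ⟨m, rfl⟩ : ∃ m, l = m + 1 := ⟨l - 1, by omega⟩
  rw [evf, evf, coneZ, Nat.add_sub_cancel, Nat.add_sub_cancel, bsum_succ,
    show 2 * (m + 1) - 1 = 2 * m + 1 by omega]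
  push_cast
  ring

namespace EvenFrame

include S

theorem five : 5 ≤ Fintype.card ι := by have := S.hn; rw [S.hι]; omega

theorem five7 : 7 ≤ Fintype.card ι := by have := S.hn; rw [S.hι]; omega

theorem card_W {j : ℕ} (hj : j ≤ n - 1) : Nat.card (S.W j) = Fintype.card F ^ (2 * (n - j)) := by
  have := S.hn
  suffices ∀ l, l ≤ n - 1 → Nat.card (S.W (n - 1 - l)) = Fintype.card F ^ (2 * (l + 1)) by
    have h := this (n - 1 - j) (Nat.sub_le _ _)
    rwa [Nat.sub_sub_self hj, show n - 1 - j + 1 = n - j by omega] at h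
  intro l hl
  induction l with
  | zero => rw [Nat.sub_zero, zero_add, mul_one]; exact S.card_base
  | succ l ih =>
    rw [S.toHyp.card_W (i := n - 1 - (l + 1)) (by omega), show n - 1 - (l + 1) + 1 = n - 1 - l by omega,
      ih (by omega)]
    ring

theorem cone_card {j : ℕ} (hj : j ≤ n - 1) :
    (Nat.card {x : S.W j // Q x.1 = 0} : ℤ) = coneZ (Fintype.card F) ε (n - j) := by
  have := S.hn
  suffices ∀ l, l ≤ n - 1 →
      (Nat.card {x : S.W (n - 1 - l) // Q x.1 = 0} : ℤ) = coneZ (Fintype.card F) ε (l + 1) by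
    have h := this (n - 1 - j) (Nat.sub_le _ _)
    rwa [Nat.sub_sub_self hj, show n - 1 - j + 1 = n - j by omega] at h
  intro l hl
  induction l with
  | zero => rw [Nat.sub_zero, S.cone_base, coneZ]; simp
  | succ l ih =>
    rw [S.toHyp.card_value' (i := n - 1 - (l + 1)) (by omega) 0, show n - 1 - (l + 1) + 1 = n - 1 - l by omega,
      S.card_W (by omega), show n - (n - 1 - l) = l + 1 by omega, Nat.cast_add, Nat.cast_mul, Nat.cast_mul,
      ih (by omega), Nat.cast_sub Fintype.card_pos, coneZ, coneZ,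
      show 2 * (l + 1 + 1) - 1 = 2 * l + 3 by omega, show 2 * (l + 1) - 1 = 2 * l + 1 by omega]
    push_cast
    ring

/-- In minus type every value is taken at least as often as zero. -/
theorem cone_le_count (hm : ε = -1) {j : ℕ} (hj : j ≤ n - 1) (c : F) :
    Nat.card {x : S.W j // Q x.1 = 0} ≤ Nat.card {x : S.W j // Q x.1 = c} := by
  have := S.hn
  by_cases hc : c = 0
  · rw [hc]
  suffices ∀ l, l ≤ n - 1 → Nat.card {x : S.W (n - 1 - l) // Q x.1 = 0} ≤
      Nat.card {x : S.W (n - 1 - l) // Q x.1 = c} by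
    have h := this (n - 1 - j) (Nat.sub_le _ _)
    rwa [Nat.sub_sub_self hj] at h
  intro l hl
  induction l with
  | zero =>
    subst hm
    have h := S.cone_base
    have h1 : Nat.card {x : S.W (n - 1) // Q x.1 = 0} = 1 := by omega
    obtain ⟨y, hy, hyc⟩ := S.val c hc
    haveI : Nonempty {x : S.W (n - 1) // Q x.1 = c} := ⟨⟨⟨y, hy⟩, hyc⟩⟩
    rw [Nat.sub_zero, h1]
    exact Nat.card_pos
  | succ l ih =>
    rw [S.toHyp.card_value' (i := n - 1 - (l + 1)) (by omega) 0,
      S.toHyp.card_value' (i := n - 1 - (l + 1)) (by omega) c, show n - 1 - (l + 1) + 1 = n - 1 - l by omega]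
    exact Nat.add_le_add_left (Nat.mul_le_mul_left _ (ih (by omega))) _

theorem value_perp {c : F} (hc : c ≠ 0) : ∃ y, y ∈ S.W (n - 1) ∧ Q y = c := by
  obtain ⟨y, hy, h⟩ := S.val c hc
  exact ⟨y, hy, h⟩

/-- Squares lie in `Ω`. -/
theorem sq_mem (g : O Q) : g * g ∈ Om Q := by
  classical
  by_cases h2 : (2 : F) = 0
  · have : CharP F 2 := CharTwo.of_one_ne_zero_of_two_eq_zero one_ne_zero h2
    rw [Om, commutator_eq_ker_dickson S.nd (reflClosure_eq_top S.nd (POmega.gen_cond S.nd S.five)),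
      MonoidHom.mem_ker, map_mul]
    exact Int.units_mul_self _
  · obtain ⟨d, hd⟩ := FiniteField.exists_nonsquare (F := F) (fun hch => by
      have : CharP F 2 := ringChar.of_eq hch
      exact h2 CharTwo.two_eq_zero)
    rw [Om, Orth.commutator_eq S.nd h2 hd, MonoidHom.mem_ker, map_mul]
    exact Prod.ext (Int.units_mul_self _) (Int.units_mul_self _)

/-- An element of `Ω` agreeing with a given isometry off the plane at the bottom. -/
theorem adjust (g0 : O Q) : ∃ g : Om Q, ∀ x, (∀ y ∈ S.W (n - 1), polar Q y x = 0) → ap g x = app g0 x := by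
  classical
  obtain ⟨a, ha, hQa⟩ := S.val 1 one_ne_zero
  have key : ∀ y ∈ S.W (n - 1), ∀ x, (∀ z ∈ S.W (n - 1), polar Q z x = 0) → app (refl Q y) x = x :=
    fun y hy x hx => app_refl_of_ortho (by rw [polar_comm]; exact hx y hy)
  by_cases h2 : (2 : F) = 0
  · have : CharP F 2 := CharTwo.of_one_ne_zero_of_two_eq_zero one_ne_zero h2
    have hgen := reflClosure_eq_top S.nd (POmega.gen_cond S.nd S.five)
    have hker : ∀ g : O Q, g ∈ Om Q ↔ dicksonHom S.nd hgen g = 1 := fun g => by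
      rw [Om, commutator_eq_ker_dickson S.nd hgen, MonoidHom.mem_ker]
    rcases Int.units_eq_one_or (dicksonHom S.nd hgen g0) with h | h
    · exact ⟨⟨g0, (hker _).mpr h⟩, fun _ _ => rfl⟩
    · refine ⟨⟨g0 * refl Q a, (hker _).mpr ?_⟩, fun x hx => ?_⟩
      · rw [map_mul, h, dicksonHom_refl S.nd hgen (by rw [hQa]; exact one_ne_zero)]; decide
      · show app (g0 * refl Q a) x = _
        rw [app_mul, key a ha x hx]
  · obtain ⟨d, hd⟩ := FiniteField.exists_nonsquare (F := F) (fun hch => by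
      have : CharP F 2 := ringChar.of_eq hch
      exact h2 CharTwo.two_eq_zero)
    have hd0 : d ≠ 0 := fun h => hd (h ▸ IsSquare.zero)
    obtain ⟨b, hb, hQb⟩ := S.val d hd0
    have hker : ∀ g : O Q, g ∈ Om Q ↔ chiPair Q d g = 1 := fun g => by
      rw [Om, Orth.commutator_eq S.nd h2 hd, MonoidHom.mem_ker]
    have ca : chiPair Q d (refl Q a) = (-1, 1) := by
      rw [chiPair_refl h2 hd (by rw [hQa]; exact one_ne_zero), hQa, if_pos IsSquare.one]
    have cb : chiPair Q d (refl Q b) = (1, -1) := by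
      rw [chiPair_refl h2 hd (by rw [hQb]; exact hd0), hQb, if_neg hd]
    rcases Int.units_eq_one_or (chiPair Q d g0).1 with h | h <;>
      rcases Int.units_eq_one_or (chiPair Q d g0).2 with h' | h'
    · exact ⟨⟨g0, (hker _).mpr (Prod.ext h h')⟩, fun _ _ => rfl⟩
    · refine ⟨⟨g0 * refl Q b, (hker _).mpr ?_⟩, fun x hx => ?_⟩
      · rw [map_mul, cb]; exact Prod.ext (by simp [h]) (by simp [h'])
      · show app (g0 * refl Q b) x = _
        rw [app_mul, key b hb x hx]
    · refine ⟨⟨g0 * refl Q a, (hker _).mpr ?_⟩, fun x hx => ?_⟩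
      · rw [map_mul, ca]; exact Prod.ext (by simp [h]) (by simp [h'])
      · show app (g0 * refl Q a) x = _
        rw [app_mul, key a ha x hx]
    · refine ⟨⟨g0 * (refl Q a * refl Q b), (hker _).mpr ?_⟩, fun x hx => ?_⟩
      · rw [map_mul, map_mul, ca, cb]; exact Prod.ext (by simp [h]) (by simp [h'])
      · show app (g0 * (refl Q a * refl Q b)) x = _
        rw [app_mul, app_mul, key b hb x hx, key a ha x hx]

theorem e_perp_base {j : ℕ} (hj : j < n - 1) : ∀ y ∈ S.W (n - 1), polar Q y (S.e j) = 0 :=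
  fun _ hy => (S.perp_e hj hy).2

theorem f_perp_base {j : ℕ} (hj : j < n - 1) : ∀ y ∈ S.W (n - 1), polar Q y (S.f j) = 0 :=
  fun _ hy => (S.perp_f hj hy).2

/-- Extension of a partial isometry of `W i` to an element of `Ω` fixing the flag. -/
theorem exists_flag {i : ℕ} (hi : i ≤ n - 1) {κ : Type*} [Fintype κ] (v v' : κ → ι → F)
    (hv : ∀ l, v l ∈ S.W i) (hv' : ∀ l, v' l ∈ S.W i) (hl : LinearIndependent F v) (hl' : LinearIndependent F v')
    (hq : ∀ l, Q (v l) = Q (v' l)) (hp : ∀ l l', polar Q (v l) (v l') = polar Q (v' l) (v' l'))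
    (hperp : ∀ l, ∀ y ∈ S.W (n - 1), polar Q y (v l) = 0) :
    ∃ g : Om Q, S.Flag i g ∧ (∀ l, ap g (v l) = v' l) ∧ ∀ j, j < i → ap g (S.e j) = S.e j := by
  obtain ⟨g0, hg0, hg0v⟩ := S.toHyp.flag_map S.nd hi v v' hv hv' hl hl' hq hp
  obtain ⟨g, hg⟩ := S.adjust g0
  have hfix : ∀ j, j < i → ap g (S.e j) = S.e j := fun j hj => by
    rw [hg _ (S.e_perp_base (by omega)), hg0 j hj]
  exact ⟨g, fun j hj => ⟨1, by rw [one_smul, hfix j hj]⟩, fun l => by rw [hg _ (hperp l), hg0v], hfix⟩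

/-- The standard vector of value `c` at level `i`. -/
def bstd {i : ℕ} (hi : i + 1 < n - 1) (c : F) : S.W (i + 1) :=
  ⟨S.e (i + 1) + c • S.f (i + 1),
    add_mem (S.e_mem_W le_rfl hi) ((S.W (i + 1)).smul_mem c (S.f_mem_W le_rfl hi))⟩

theorem Q_bstd {i : ℕ} (hi : i + 1 < n - 1) (c : F) : Q (S.bstd hi c).1 = c := by
  simp [bstd, QuadraticMap.map_add ⇑Q, QuadraticMap.map_smul, polar_smul_right, S.Qe (i + 1) hi,
    S.Qf (i + 1) hi, S.pef (i + 1) (i + 1) hi hi]

variable {V : Type*} [AddCommGroup V] [Module ℂ V] [FiniteDimensional ℂ V] (ρ : Representation ℂ (Om Q) V)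

theorem rk_std {i : ℕ} (hi : i + 1 < n - 1) (b : S.W (i + 1)) (hb : b ≠ 0) (t : F) (ht : t ≠ 0) :
    S.rk ρ i b = S.rk ρ i (S.bstd hi (t * t * Q b.1)) := by
  set bs := S.bstd hi (t * t * Q b.1) with hbs
  have := S.hn
  have hfb : ∀ (x : S.W (i + 1)), polar Q (S.f i) x.1 = 0 := fun x => (S.perp_f (Nat.lt_succ_self i) x.2).1
  have heb : ∀ (x : S.W (i + 1)), polar Q (S.e i) x.1 = 0 ∧ polar Q x.1 (S.e i) = 0 :=
    fun x => S.perp_e (Nat.lt_succ_self i) x.2
  have hbs0 : bs.1 ≠ 0 := fun h => by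
    have := congrArg (fun y => polar Q (S.f (i + 1)) y) h
    simp [hbs, bstd, polar_add_right, polar_smul_right, S.pfe (i := i + 1) (j := i + 1) hi hi,
      S.pff (i + 1) (i + 1) hi hi] at this
  have hb0 : t • b.1 ≠ 0 := smul_ne_zero ht fun h => hb (Subtype.ext h)
  obtain ⟨g, hflag, hg, -⟩ := S.exists_flag (i := i) (by omega) ![S.e i, bs.1] ![t • S.e i, t • b.1]
    (by
      intro l; fin_cases l
      · exact S.e_mem_W le_rfl (by omega)
      · exact S.W_anti (Nat.le_succ i) bs.2)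
    (by
      intro l; fin_cases l
      · exact (S.W i).smul_mem t (S.e_mem_W le_rfl (by omega))
      · exact (S.W i).smul_mem t (S.W_anti (Nat.le_succ i) b.2))
    (Hyp.li_pair hbs0 (φ := Q.polarBilin (S.f i))
      (by show polar Q (S.f i) (S.e i) ≠ 0; rw [S.pfe (i := i) (j := i) (by omega) (by omega), if_pos rfl]; exact one_ne_zero)
      (hfb bs))
    (Hyp.li_pair hb0 (φ := Q.polarBilin (S.f i))
      (by show polar Q (S.f i) (t • S.e i) ≠ 0; rw [polar_smul_right, S.pfe (i := i) (j := i) (by omega) (by omega), if_pos rfl]; simpa using ht)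
      (by show polar Q (S.f i) (t • b.1) = 0; rw [polar_smul_right, hfb, smul_zero]))
    (by
      intro l; fin_cases l
      · simp [QuadraticMap.map_smul, S.Qe i (by omega)]
      · show Q bs.1 = Q (t • b.1)
        rw [hbs, S.Q_bstd, QuadraticMap.map_smul, smul_eq_mul])
    (by
      intro l l'; fin_cases l <;> fin_cases l' <;>
        simp only [Fin.zero_eta, Fin.mk_one, Matrix.cons_val_zero, Matrix.cons_val_one, polar_smul_left,
          polar_smul_right, S.pee i i (by omega) (by omega), (heb bs).1, (heb bs).2, (heb b).1, (heb b).2,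
          smul_eq_mul, mul_zero] <;>
        rw [polar_self', polar_self', hbs, S.Q_bstd] <;> ring)
    (by
      intro l y hy; fin_cases l
      · exact S.e_perp_base (by omega) y hy
      · simp [hbs, bstd, polar_add_right, polar_smul_right, S.e_perp_base (j := i + 1) hi y hy,
          S.f_perp_base (j := i + 1) hi y hy])
  have h0 : ap g (S.e i) = t • S.e i := hg 0
  have h1 : ap g bs.1 = t • b.1 := hg 1
  have hmap : S.bmap (i := i) (by omega) g t bs = b := Subtype.ext (by
    show t⁻¹ • S.pr (i + 1) (ap g bs.1) = b.1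
    rw [h1, map_smul, S.pr_eq_self b.2, inv_smul_smul₀ ht])
  have := S.toHyp.rk_move ρ S.nd S.five (i := i) (by omega) hflag h0 bs
  rwa [hmap] at this

theorem rk_scale {i : ℕ} (hi : i + 1 < n - 1) (t : F) (ht : t ≠ 0) (b : S.W (i + 1)) :
    S.rk ρ i (t • b) = S.rk ρ i b := by
  by_cases hb : b = 0
  · subst hb; rw [smul_zero]
  rw [S.rk_std ρ hi (t • b) (smul_ne_zero ht hb) 1 one_ne_zero, S.rk_std ρ hi b hb t ht]
  congr 2
  show 1 * 1 * Q (t • b.1) = _
  rw [QuadraticMap.map_smul, smul_eq_mul]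
  ring

theorem rk_eq {i : ℕ} (hi : i + 1 < n - 1) (b : S.W (i + 1)) (hb : b ≠ 0) :
    S.rk ρ i b = S.rk ρ i (S.bstd hi (Q b.1)) := by
  rw [S.rk_std ρ hi b hb 1 one_ne_zero]; simp

theorem rk_sq {i : ℕ} (hi : i + 1 < n - 1) (c t : F) (ht : t ≠ 0) :
    S.rk ρ i (S.bstd hi (t * t * c)) = S.rk ρ i (S.bstd hi c) := by
  have hb : S.bstd hi c ≠ 0 := fun h => by
    have := congrArg (fun y : S.W (i + 1) => polar Q (S.f (i + 1)) y.1) h
    simp [bstd, polar_add_right, polar_smul_right, S.pfe (i := i + 1) (j := i + 1) hi hi,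
      S.pff (i + 1) (i + 1) hi hi] at this
  have := S.rk_std ρ hi _ hb t ht
  rw [S.Q_bstd] at this
  exact this.symm

/-- The long root vector of a level. -/
def xvec {i : ℕ} (hi : i + 1 < n - 1) : S.W (i + 1) := ⟨S.e (i + 1), S.e_mem_W le_rfl hi⟩

theorem sum_moved {i : ℕ} (hi : i + 1 < n - 1) [DecidableEq F] :
    ∑ b ∈ Finset.univ.filter (fun b : S.W (i + 1) => polar Q b.1 (S.e (i + 1)) ≠ 0), S.rk ρ i b =
      (Fintype.card F - 1) * Fintype.card F ^ (2 * (n - (i + 2))) * ∑ c : F, S.rk ρ i (S.bstd hi c) := by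
  classical
  rw [← Finset.sum_fiberwise (Finset.univ.filter fun b : S.W (i + 1) => polar Q b.1 (S.e (i + 1)) ≠ 0)
    (fun b => Q b.1) (fun b => S.rk ρ i b), Finset.mul_sum]
  refine Finset.sum_congr rfl fun c _ => ?_
  rw [Finset.sum_congr rfl (g := fun _ => S.rk ρ i (S.bstd hi c)) fun b hb => ?_, Finset.sum_const, smul_eq_mul]
  · congr 1
    rw [← S.card_W (j := i + 2) (by omega), ← S.toHyp.card_moved (i := i + 1) hi c, Nat.card_eq_fintype_card,
      Fintype.card_subtype, Finset.filter_filter]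
    refine congrArg Finset.card (Finset.filter_congr fun b _ => ?_)
    rw [polar_comm]
    exact and_comm
  · rw [Finset.mem_filter, Finset.mem_filter] at hb
    have hb0 : b ≠ 0 := fun h => hb.1.2 (by rw [h, Submodule.coe_zero, polar_zero_left])
    rw [S.rk_eq ρ hi b hb0, hb.2]

/-- The drop of the long root element of level `i` on the fixed space of the previous radicals. -/
theorem drop_eq {i : ℕ} (hi : i + 1 < n - 1) :
    (S.dimE ρ i : ℂ) - S.tr ρ i (S.T i (S.xvec hi)) =
      (Fintype.card F : ℂ) ^ (2 * (n - (i + 1)) - 1) * ((∑ c : F, S.rk ρ i (S.bstd hi c) : ℕ) : ℂ) := by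
  classical
  have h := S.toHyp.drop ρ S.nd S.five (i := i) (by omega) (S.rk_scale ρ hi) (S.xvec hi)
  rw [show (S.xvec hi).1 = S.e (i + 1) from rfl, S.sum_moved ρ hi, Nat.cast_mul, Nat.cast_mul, Nat.cast_pow,
    Nat.cast_sub Fintype.card_pos, Nat.cast_one] at h
  have hq : ((Fintype.card F : ℂ) - 1) ≠ 0 := by
    rw [sub_ne_zero, Ne, Nat.cast_eq_one]
    exact Fintype.one_lt_card.ne'
  apply mul_left_cancel₀ hq
  rw [h, show 2 * (n - (i + 1)) - 1 = 2 * (n - (i + 2)) + 1 by omega, pow_succ _ (2 * (n - (i + 2)))]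
  ring

end EvenFrame

end CfsgLib.OrthDeg
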