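import Mathlib.LinearAlgebra.Trace
import Cfsg.Agent.Lib.SLMinDeg.Fourier

set_option autoImplicit false

/-! Two commuting pairs of braided lines do not fit into a space of dimension three. -/

namespace CfsgLib.OrthDeg

variable {V : Type*} [AddCommGroup V] [Module ℂ V] [FiniteDimensional ℂ V]

theorem lines_sandwich {P X : Module.End ℂ V} (hP : P * P = P) (h1 : LinearMap.trace ℂ V P = 1) :
    P * X * P = LinearMap.trace ℂ V (P * X) • P := by
  have e1 : P * X * P * P = P * X * P := by rw [mul_assoc (P * X), hP]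
  have e2 : P * (P * X * P) = P * X * P := by rw [← mul_assoc, ← mul_assoc, hP]
  have h := SLMinDeg.mul_eq_trace_smul P (P * X * P) hP h1 (show P * X * P * P = P * (P * X * P) by rw [e1, e2])
  rw [e1] at h
  have e3 : LinearMap.trace ℂ V (P * X * P) = LinearMap.trace ℂ V (P * X) := by
    rw [LinearMap.trace_mul_comm, ← mul_assoc, hP]
  rwa [e3] at h

theorem lines_commute {P R : Module.End ℂ V} (hP : P * P = P) (hR : R * R = R)
    (hP1 : LinearMap.trace ℂ V P = 1) (hR1 : LinearMap.trace ℂ V R = 1) (hc : P * R = R * P) :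
    (P * R = 0 ∧ R * P = 0) ∨ P = R := by
  have h1 := SLMinDeg.mul_eq_trace_smul R P hR hR1 hc
  have h2 := SLMinDeg.mul_eq_trace_smul P R hP hP1 hc.symm
  rw [LinearMap.trace_mul_comm ℂ R P] at h2
  rw [hc] at h1
  rw [← hc] at h1
  by_cases h0 : LinearMap.trace ℂ V (P * R) = 0
  · rw [h0, zero_smul] at h1 h2
    exact Or.inl ⟨h1, h2⟩
  · right
    have e : LinearMap.trace ℂ V (P * R) • R = LinearMap.trace ℂ V (P * R) • P := h1.symm.trans (hc.trans h2)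
    exact (smul_right_injective _ h0 e).symm

variable {E : Module.End ℂ V}

theorem braid_quarter {P Q : Module.End ℂ V} (hEE : E * E = E) (hP : P * P = P) (hQ : Q * Q = Q)
    (hPE : P * E = P) (hEP : E * P = P) (hQE : Q * E = Q) (hEQ : E * Q = Q)
    (hP1 : LinearMap.trace ℂ V P = 1) (hQ1 : LinearMap.trace ℂ V Q = 1) (hne : P ≠ Q)
    (hbr : ((2 : ℂ) • P - E) * ((2 : ℂ) • Q - E) * ((2 : ℂ) • P - E) =
      ((2 : ℂ) • Q - E) * ((2 : ℂ) • P - E) * ((2 : ℂ) • Q - E)) :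
    P * Q * P = (4 : ℂ)⁻¹ • P ∧ Q * P * Q = (4 : ℂ)⁻¹ • Q := by
  have a1 := lines_sandwich (X := Q) hP hP1
  have a2 := lines_sandwich (X := P) hQ hQ1
  rw [LinearMap.trace_mul_comm ℂ Q P] at a2
  set τ := LinearMap.trace ℂ V (P * Q)
  suffices hτ : τ = (4 : ℂ)⁻¹ by rw [hτ] at a1 a2; exact ⟨a1, a2⟩
  have k1 : P * Q * E = P * Q := by rw [mul_assoc, hQE]
  have k2 : E * Q * P = Q * P := by rw [hEQ]
  have k3 : Q * P * E = Q * P := by rw [mul_assoc, hPE]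
  have k4 : E * P * Q = P * Q := by rw [hEP]
  simp only [sub_mul, mul_sub, smul_mul_assoc, mul_smul_comm, smul_sub, smul_smul, hP, hQ, hPE, hEP, hQE, hEQ,
    hEE, a1, a2, k1, k2, k3, k4] at hbr
  have e : (8 * τ - 2) • (P - Q) = 0 := by linear_combination (norm := module) hbr
  rcases smul_eq_zero.mp e with h | h
  · linear_combination (1 / 8 : ℂ) * h
  · exact absurd (sub_eq_zero.mp h) hne

theorem span_two {P Q Z : Module.End ℂ V} (hP : P * P = P) (hQ : Q * Q = Q)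
    (hP1 : LinearMap.trace ℂ V P = 1) (hQ1 : LinearMap.trace ℂ V Q = 1)
    (a1 : P * Q * P = (4 : ℂ)⁻¹ • P) (a2 : Q * P * Q = (4 : ℂ)⁻¹ • Q)
    (hPZ : P * Z = P) (hZP : Z * P = P) (hQZ : Q * Z = Q) (hZQ : Z * Q = Q) :
    ∃ A : Module.End ℂ V, A * A = A ∧ LinearMap.trace ℂ V A = 2 ∧ A * Z = A ∧ Z * A = A ∧
      (∀ X, P * X = 0 → Q * X = 0 → A * X = 0) ∧ ∀ X, X * P = 0 → X * Q = 0 → X * A = 0 := by
  set S := P + Q - P * Q - Q * P with hS
  refine ⟨(4 / 3 : ℂ) • S, ?_, ?_, ?_, ?_, ?_, ?_⟩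
  · have hPS : P * S = (3 / 4 : ℂ) • P := by
      rw [hS]; simp only [mul_sub, mul_add, ← mul_assoc, hP, a1]; module
    have hQS : Q * S = (3 / 4 : ℂ) • Q := by
      rw [hS]; simp only [mul_sub, mul_add, ← mul_assoc, hQ, a2]; module
    have hSS : S * S = (3 / 4 : ℂ) • S := by
      conv_lhs => arg 1; rw [hS]
      simp only [sub_mul, add_mul, mul_assoc, hPS, hQS, mul_smul_comm]
      rw [hS]; module
    rw [smul_mul_smul_comm, hSS, smul_smul]; norm_num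
  · have e1 : LinearMap.trace ℂ V (P * Q) = (4 : ℂ)⁻¹ := by
      have h := congrArg (LinearMap.trace ℂ V) a1
      rw [LinearMap.trace_mul_comm, ← mul_assoc, hP, map_smul, hP1, smul_eq_mul, mul_one] at h
      exact h
    rw [map_smul, hS, map_sub, map_sub, map_add, hP1, hQ1, LinearMap.trace_mul_comm ℂ Q P, e1, smul_eq_mul]
    norm_num
  · rw [hS]; simp only [smul_mul_assoc, sub_mul, add_mul, mul_assoc, hPZ, hQZ]
  · rw [hS]; simp only [mul_smul_comm, mul_sub, mul_add, ← mul_assoc, hZP, hZQ]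
  · intro X h1 h2
    rw [hS]; simp [smul_mul_assoc, sub_mul, add_mul, mul_assoc, h1, h2]
  · intro X h1 h2
    rw [hS]; simp [mul_smul_comm, mul_sub, mul_add, ← mul_assoc, h1, h2]

theorem two_pairs_false {P P' R R' Z : Module.End ℂ V}
    (hP : P * P = P) (hP' : P' * P' = P') (hR : R * R = R) (hR' : R' * R' = R')
    (tP : LinearMap.trace ℂ V P = 1) (tP' : LinearMap.trace ℂ V P' = 1)
    (tR : LinearMap.trace ℂ V R = 1) (tR' : LinearMap.trace ℂ V R' = 1)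
    (hA : P * P' * P = (4 : ℂ)⁻¹ • P ∧ P' * P * P' = (4 : ℂ)⁻¹ • P')
    (hB : R * R' * R = (4 : ℂ)⁻¹ • R ∧ R' * R * R' = (4 : ℂ)⁻¹ • R')
    (z1 : P * R = 0 ∧ R * P = 0) (z2 : P * R' = 0 ∧ R' * P = 0) (z3 : P' * R = 0 ∧ R * P' = 0)
    (z4 : P' * R' = 0 ∧ R' * P' = 0) (hZ : Z * Z = Z) (tZ : LinearMap.trace ℂ V Z = 3)
    (hPZ : P * Z = P ∧ Z * P = P) (hP'Z : P' * Z = P' ∧ Z * P' = P') (hRZ : R * Z = R ∧ Z * R = R)
    (hR'Z : R' * Z = R' ∧ Z * R' = R') : False := by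
  obtain ⟨A, hAA, tA, hAZ, hZA, hA0, hA0'⟩ :=
    span_two hP hP' tP tP' hA.1 hA.2 hPZ.1 hPZ.2 hP'Z.1 hP'Z.2
  obtain ⟨B, hBB, tB, hBZ, hZB, hB0, hB0'⟩ :=
    span_two hR hR' tR tR' hB.1 hB.2 hRZ.1 hRZ.2 hR'Z.1 hR'Z.2
  have hAB : A * B = 0 := hA0 B (hB0' P z1.1 z2.1) (hB0' P' z3.1 z4.1)
  have hBA : B * A = 0 := hA0' B (hB0 P z1.2 z2.2) (hB0 P' z3.2 z4.2)
  have hD : (Z - (A + B)) * (Z - (A + B)) = Z - (A + B) := by
    simp only [sub_mul, mul_sub, add_mul, mul_add, hZ, hAA, hBB, hAB, hBA, hAZ, hZA, hBZ, hZB]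
    abel
  have h := SLMinDeg.trace_eq_finrank_range _ hD
  rw [map_sub, map_add, tZ, tA, tB] at h
  have h' : ((Module.finrank ℂ (LinearMap.range (Z - (A + B))) + 1 : ℕ) : ℂ) = ((0 : ℕ) : ℂ) := by
    push_cast; linear_combination -h
  have := (Nat.cast_injective (R := ℂ)) h'
  omega

end CfsgLib.OrthDeg
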