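import Cfsg.Agent.Lib.OrthDeg.ETop
import Cfsg.Agent.Lib.OrthDeg.EPairs

set_option autoImplicit false
set_option linter.unusedSectionVars false
set_option linter.style.haveILetI false

/-!
Dimension eight over two elements, minus type: a rotation of the anisotropic plane and two pairs of
long root elements leave no room for a representation of degree thirty-two.
-/

namespace CfsgLib.OrthDeg

open QuadraticMap CfsgLib.Orth CfsgLib.KnownSimple.ModulePerm

theorem el_comm' {ι : Type} [Fintype ι] [DecidableEq ι] {F : Type*} [Field F] [Fintype F]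
    {Q : QuadraticForm F (ι → F)} (hQ : Q.polarBilin.Nondegenerate) (hn : 5 ≤ Fintype.card ι)
    {u a b : ι → F} (hu : Q u = 0) (ha : polar Q u a = 0) (hb : polar Q u b = 0) :
    el Q u a * el Q u b = el Q u b * el Q u a := by
  rw [el_add hQ hn hu ha hb, el_add hQ hn hu hb ha, add_comm]

variable {ι : Type} [Fintype ι] [DecidableEq ι] {F : Type*} [Field F] [Fintype F] [DecidableEq F]
variable {Q : QuadraticForm F (ι → F)} (S : EvenFrame Q 4 (-1))
variable {V : Type*} [AddCommGroup V] [Module ℂ V] [FiniteDimensional ℂ V] (ρ : Representation ℂ (Om Q) V)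

theorem two_elems (h2q : Fintype.card F = 2) (x : F) : x = 0 ∨ x = 1 := by
  by_contra h
  push Not at h
  have := Finset.card_le_univ ({0, 1, x} : Finset F)
  rw [Finset.card_insert_of_notMem (by simp [Ne.symm h.1]),
    Finset.card_insert_of_notMem (by simp [Ne.symm h.2]), Finset.card_singleton, h2q] at this
  omega

theorem two_zero (h2q : Fintype.card F = 2) : (2 : F) = 0 := by
  rcases two_elems h2q (2 : F) with h | h
  · exact h
  · exact absurd (show (1 : F) = 0 by linear_combination h) one_ne_zero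

theorem chi_one_two (h2q : Fintype.card F = 2) : chi F (1 : F) = -1 := by
  obtain ⟨x, hx⟩ := (exists_char F).choose_spec (1 : F) one_ne_zero
  rcases two_elems h2q x with rfl | rfl
  · exact absurd (by rw [mul_zero]; exact AddChar.map_zero_eq_one _) hx
  · have hx' : chi F (1 : F) ≠ 1 := by rw [one_mul] at hx; exact hx
    have h : chi F (1 : F) * chi F (1 : F) = 1 := by
      rw [← AddChar.map_add_eq_mul, show (1 : F) + 1 = 0 by linear_combination two_zero h2q,
        AddChar.map_zero_eq_one]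
    exact (mul_self_eq_one_iff.mp h).resolve_left hx'

theorem sum_two {M : Type*} [AddCommMonoid M] {X : Type*} [Fintype X] [DecidableEq X] (φ : X → M) (a b : X)
    (hab : a ≠ b) (h : ∀ x, x ≠ a → x ≠ b → φ x = 0) : ∑ x, φ x = φ a + φ b :=
  Finset.sum_eq_add a b hab (fun x _ hx => h x hx.1 hx.2) (fun h' => absurd (Finset.mem_univ a) h')
    (fun h' => absurd (Finset.mem_univ b) h')

namespace EvenFrame

include S

theorem neg_vec (h2q : Fintype.card F = 2) (x : ι → F) : -x = x := by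
  rw [neg_eq_iff_add_eq_zero, ← two_smul F x, two_zero h2q, zero_smul]

theorem refl_pair_mem (h2q : Fintype.card F = 2) {a b : ι → F} (ha : Q a ≠ 0) (hb : Q b ≠ 0) :
    refl Q a * refl Q b ∈ Om Q := by
  rw [Om, POmega.commutator_eq_eichGroup S.nd S.five]
  exact POmega.two_eq_zero_pair_mem S.nd (two_zero h2q) S.five ha hb

/-- The two layers. -/
theorem two_levels (h2q : Fintype.card F = 2) (hk : Module.finrank ℂ V = 32) (hd : S.Drop ρ 0) :
    S.Single ρ 0 0 ∧ S.Single ρ 1 0 ∧ S.dimE ρ 1 = 5 ∧ S.dimE ρ 2 = 0 := by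
  classical
  obtain ⟨c, hp, -⟩ := S.single_of_drop ρ hd
  have hl := S.dimE_layer ρ (i := 0) (by norm_num) hp
  rw [S.dimE_zero ρ S.nd S.five, hk] at hl
  have hcone := S.cone_card (j := 0 + 1) (by norm_num)
  rw [h2q] at hcone
  norm_num [coneZ] at hcone
  have hc : c = 0 := by
    by_contra hc
    have h := S.count_ge (c := c) hc h2q (j := 0 + 1) (by norm_num)
    rw [h2q] at h
    rw [if_neg hc] at hl
    generalize Nat.card {x : S.W (0 + 1) // Q x.1 = c} = N at h hl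
    generalize hZ : Nat.card {x : S.W (0 + 1) // Q x.1 = 0} = Z at h
    rw [Nat.card_eq_fintype_card] at hZ
    norm_num at h
    omega
  subst hc
  rw [if_pos rfl] at hl
  have hE1 : S.dimE ρ 1 = 5 := by
    simp only [Nat.card_eq_fintype_card] at hl hcone
    change _ = S.dimE ρ 1 + _ at hl
    omega
  have hd1 : S.Drop ρ (0 + 1) := S.drop_succ ρ (i := 0) (by norm_num) hd hp (Or.inr (Or.inl rfl))
  obtain ⟨c, hp1, -⟩ := S.single_of_drop ρ hd1
  have hl1 := S.dimE_layer ρ (i := 0 + 1) (by norm_num) hp1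
  change S.dimE ρ 1 + _ = _ at hl1
  rw [hE1] at hl1
  have hcone1 := S.cone_card (j := 0 + 1 + 1) (by norm_num)
  rw [h2q] at hcone1
  norm_num [coneZ] at hcone1
  have hc : c = 0 := by
    by_contra hc
    have h := S.count_ge (c := c) hc h2q (j := 0 + 1 + 1) (by norm_num)
    rw [h2q] at h
    rw [if_neg hc] at hl1
    generalize Nat.card {x : S.W (0 + 1 + 1) // Q x.1 = c} = N at h hl1
    generalize hZ : Nat.card {x : S.W (0 + 1 + 1) // Q x.1 = 0} = Z at h
    rw [Nat.card_eq_fintype_card] at hZ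
    norm_num at h
    omega
  subst hc
  rw [if_pos rfl] at hl1
  refine ⟨hp, hp1, hE1, ?_⟩
  simp only [Nat.card_eq_fintype_card] at hl1 hcone1
  change _ = S.dimE ρ 2 + _ at hl1
  omega

theorem exists_plane (h2q : Fintype.card F = 2) : ∃ z1 z2 : ι → F, z1 ∈ S.W 3 ∧ z2 ∈ S.W 3 ∧ Q z1 = 1 ∧
    Q z2 = 1 ∧ polar Q z1 z2 = 1 ∧ ∀ x : ι → F, x ∈ S.W 3 → polar Q x z1 = 0 → polar Q x z2 = 0 → x = 0 := by
  classical
  obtain ⟨z1, hz1, hQ1⟩ : ∃ y ∈ S.W 3, Q y = 1 := S.val 1 one_ne_zero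
  have hcard : Nat.card (S.W 3) = 4 := by
    have h : Nat.card (S.W (4 - 1)) = _ := S.card_base
    rw [h2q] at h
    exact h
  have hcone : Nat.card {x : S.W 3 // Q x.1 = 0} = 1 := by
    have h : (Nat.card {x : S.W 3 // Q x.1 = 0} : ℤ) = _ := S.cone_base
    rw [h2q] at h
    norm_num at h
    rw [Nat.card_eq_fintype_card]
    exact_mod_cast h
  have hne : ∀ x : S.W 3, x ≠ 0 → Q x.1 = 1 := fun x hx => by
    refine (two_elems h2q _).resolve_left fun h0 => hx ?_
    exact congrArg Subtype.val (@Subsingleton.elim _ ((Nat.card_eq_one_iff_unique.mp hcone).1) ⟨x, h0⟩ ⟨0, by simp⟩)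
  set a : S.W 3 := ⟨z1, hz1⟩ with ha
  have ha0 : a ≠ 0 := fun h => by
    have h' : z1 = 0 := congrArg Subtype.val h
    rw [h', QuadraticMap.map_zero] at hQ1
    exact zero_ne_one hQ1
  obtain ⟨b, hb⟩ : ∃ b : S.W 3, b ∉ ({0, a} : Finset (S.W 3)) := by
    by_contra h
    push Not at h
    have h' : (Finset.univ : Finset (S.W 3)) ⊆ {0, a} := fun x _ => h x
    have := Finset.card_le_card h'
    rw [Finset.card_univ, ← Nat.card_eq_fintype_card, hcard] at this
    have := Finset.card_le_two (a := (0 : S.W 3)) (b := a)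
    omega
  simp only [Finset.mem_insert, Finset.mem_singleton, not_or] at hb
  have hab : a + b ≠ 0 := fun h => hb.2 (by
    refine Subtype.ext ?_
    have h' : z1 + b.1 = 0 := congrArg Subtype.val h
    rw [eq_neg_of_add_eq_zero_right h', S.neg_vec h2q])
  have hp : polar Q z1 b.1 = 1 := by
    have h : Q (z1 + b.1) = 1 := hne (a + b) hab
    rw [QuadraticMap.map_add ⇑Q, hQ1, hne b hb.1] at h
    linear_combination h - two_zero h2q
  refine ⟨z1, b.1, hz1, b.2, hQ1, hne b hb.1, hp, fun x hx h1 h2 => ?_⟩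
  by_contra hx0
  have hx' : (⟨x, hx⟩ : S.W 3) ≠ 0 := fun h => hx0 (congrArg Subtype.val h)
  have hall : (⟨x, hx⟩ : S.W 3) ∈ ({0, a, b, a + b} : Finset (S.W 3)) := by
    have h4 : ({0, a, b, a + b} : Finset (S.W 3)).card = 4 := by
      rw [Finset.card_insert_of_notMem (by simp [Ne.symm ha0, Ne.symm hb.1, Ne.symm hab]),
        Finset.card_insert_of_notMem (by simp [Ne.symm hb.2, hb.1]),
        Finset.card_insert_of_notMem (by simp [ha0]), Finset.card_singleton]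
    rw [Finset.eq_univ_of_card _ (h4.trans (by rw [← Nat.card_eq_fintype_card, hcard]))]
    exact Finset.mem_univ _
  simp only [Finset.mem_insert, Finset.mem_singleton] at hall
  have haa : polar Q z1 z1 = 0 := by rw [polar_self', hQ1, mul_one, two_zero h2q]
  have hba : polar Q b.1 z1 = 1 := by rw [polar_comm, hp]
  rcases hall with h | h | h | h
  · exact hx' h
  · rw [show x = z1 from congrArg Subtype.val h, hp] at h2; exact one_ne_zero h2
  · rw [show x = b.1 from congrArg Subtype.val h, hba] at h1; exact one_ne_zero h1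
  · rw [show x = z1 + b.1 from congrArg Subtype.val h, polar_add_left, haa, hba, zero_add] at h1
    exact one_ne_zero h1

theorem conj_two (g : O Q) (a b : ι → F) :
    g * (refl Q a * refl Q b) * g⁻¹ = refl Q (app g a) * refl Q (app g b) := by
  rw [← refl_conj g a, ← refl_conj g b]; group

theorem invol_el (h2q : Fintype.card F = 2) {u a : ι → F} (hu : Q u = 0) (ha : polar Q u a = 0) :
    el Q u a * el Q u a = 1 := by
  have h0 : polar Q u 0 = 0 := polar_zero_right _ _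
  have e : el Q u 0 = 1 := mul_eq_left.mp (show el Q u 0 * el Q u 0 = el Q u 0 by
    rw [el_add S.nd S.five hu h0 h0, add_zero])
  rw [el_add S.nd S.five hu ha ha, ← two_smul F a, two_zero h2q, zero_smul, e]

theorem el_symm (h2q : Fintype.card F = 2) {u a : ι → F} (hu : Q u = 0) (ha0 : Q a = 0) (ha : polar Q u a = 0) :
    el Q a u = el Q u a := by
  conv_rhs => rw [← el_swap S.nd S.five hu ha0 ha, S.neg_vec h2q]

/-- The braid relation of two opposite long root elements. -/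
theorem el_braid (h2q : Fintype.card F = 2) {e e' f f' : ι → F} (he : Q e = 0) (he' : Q e' = 0) (hf : Q f = 0)
    (hf' : Q f' = 0) (hee : polar Q e e' = 0) (hff : polar Q f f' = 0) (hef : polar Q e f = 1)
    (he'f' : polar Q e' f' = 1) (h1 : polar Q e f' = 0) (h2 : polar Q e' f = 0) :
    el Q e e' * el Q f f' * el Q e e' = el Q f f' * el Q e e' * el Q f f' := by
  have hq := S.nd
  have h5 := S.five
  have i1 : (el Q e e')⁻¹ = el Q e e' := inv_eq_of_mul_eq_one_right (S.invol_el h2q he hee)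
  have i2 : (el Q f f')⁻¹ = el Q f f' := inv_eq_of_mul_eq_one_right (S.invol_el h2q hf hff)
  have k1 : el Q e e' * el Q f f' * el Q e e' = el Q (f + e') (f' + e) := by
    conv_lhs => arg 2; rw [← i1]
    rw [el_conj hq h5 hf hff, ap_el hq h5 he hee, ap_el hq h5 he hee]
    simp [polar_comm (f := ⇑Q) f e, polar_comm (f := ⇑Q) f e', polar_comm (f := ⇑Q) f' e,
      polar_comm (f := ⇑Q) f' e', hef, h2, h1, he'f', he', S.neg_vec h2q]
  have k2 : el Q f f' * el Q e e' * el Q f f' = el Q (e + f') (e' + f) := by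
    conv_lhs => arg 2; rw [← i2]
    rw [el_conj hq h5 he hee, ap_el hq h5 hf hff, ap_el hq h5 hf hff]
    simp [hef, h2, h1, he'f', hf', S.neg_vec h2q]
  rw [k1, k2, add_comm f e', add_comm f' e]
  refine (S.el_symm h2q ?_ ?_ ?_).trans ?_
  · simp [QuadraticMap.map_add ⇑Q, he, hf', h1]
  · simp [QuadraticMap.map_add ⇑Q, he', hf, h2]
  · simp [polar_add_left, polar_add_right, hee, hef, polar_comm (f := ⇑Q) f' e', he'f',
      polar_comm (f := ⇑Q) f' f, hff]
    linear_combination two_zero h2q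
  · rfl

set_option maxHeartbeats 1600000 in
theorem minus_two_false (h2q : Fintype.card F = 2) (hk : Module.finrank ℂ V = 32) (hd : S.Drop ρ 0) : False := by
  classical
  obtain ⟨hp0, hp1, hE1, hE2⟩ := S.two_levels ρ h2q hk hd
  obtain ⟨z1, z2, hz1, hz2, hQ1, hQ2, hz12, hzker⟩ := S.exists_plane h2q
  have hQn := S.nd
  have h5 := S.five
  have hneg := S.neg_vec h2q
  have hF := two_elems h2q
  have h20 := two_zero h2q
  have h0 : 0 < 4 - 1 := by norm_num
  have h1 : 1 < 4 - 1 := by norm_num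
  have h2 : 2 < 4 - 1 := by norm_num
  have hz1n : Q z1 ≠ 0 := by rw [hQ1]; exact one_ne_zero
  have hz2n : Q z2 ≠ 0 := by rw [hQ2]; exact one_ne_zero
  set r1 := refl Q z1 with hr1
  set r2 := refl Q z2 with hr2
  have hapr : ∀ (v : ι → F), Q v = 1 → ∀ x, app (refl Q v) x = x - polar Q x v • v := fun v hv x => by
    rw [app_refl, hv, inv_one, one_mul]
  have z11 : polar Q z1 z1 = 0 := by rw [polar_self', hQ1, mul_one, h20]
  have z22 : polar Q z2 z2 = 0 := by rw [polar_self', hQ2, mul_one, h20]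
  have z21 : polar Q z2 z1 = 1 := by rw [polar_comm, hz12]
  -- the rotation of the plane
  let t : Om Q := ⟨r1 * r2, S.refl_pair_mem h2q hz1n hz2n⟩
  have t3 : t * (t * t) = 1 := by
    refine Subtype.ext ?_
    show r1 * r2 * (r1 * r2 * (r1 * r2)) = 1
    have hb : r1 * r2 * r1 = r2 * r1 * r2 := by
      have e1 : r1 * r2 * r1 = refl Q (app r1 z2) := by
        rw [← refl_conj r1 z2, hr1, refl_inv]
      have e2 : r2 * r1 * r2 = refl Q (app r2 z1) := by
        rw [← refl_conj r2 z1, hr2, refl_inv]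
      rw [e1, e2, hr1, hr2, hapr z1 hQ1, hapr z2 hQ2, z21, hz12, one_smul, one_smul, ← hneg (z2 - z1), neg_sub]
    calc r1 * r2 * (r1 * r2 * (r1 * r2)) = (r1 * r2 * r1) * (r2 * r1 * r2) := by group
      _ = (r1 * r2 * r1) * (r1 * r2 * r1) := by rw [hb]
      _ = r1 * r2 * (r1 * r1) * r2 * r1 := by group
      _ = 1 := by
        rw [hr1, hr2, refl_mul_self, mul_one, mul_assoc (refl Q z1), refl_mul_self, mul_one, refl_mul_self]
  have ht : ∀ x, ap t x = x - polar Q x z2 • z2 - (polar Q x z1 - polar Q x z2) • z1 := by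
    intro x
    show app (r1 * r2) x = _
    rw [app_mul, hr1, hr2, hapr z2 hQ2, hapr z1 hQ1, polar_sub_left, polar_smul_left, z21, smul_eq_mul, mul_one]
  have tfix : ∀ x, ap t x = x ↔ polar Q x z1 = 0 ∧ polar Q x z2 = 0 := by
    intro x
    constructor
    · intro h
      rw [ht] at h
      have a2 := congrArg (fun y => polar Q y z2) h
      have a1 := congrArg (fun y => polar Q y z1) h
      simp only [polar_sub_left, polar_smul_left, z11, z21, z22, hz12, smul_eq_mul, mul_one, mul_zero, sub_zero] at a1 a2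
      have b2 : polar Q x z2 = 0 := by linear_combination -a1
      exact ⟨by linear_combination -a2 + b2, b2⟩
    · rintro ⟨a, b⟩
      rw [ht, a, b]; simp
  have hz : ∀ j, j < 4 - 1 → ∀ z, z ∈ S.W 3 → polar Q (S.e j) z = 0 ∧ polar Q (S.f j) z = 0 ∧
      polar Q z (S.e j) = 0 ∧ polar Q z (S.f j) = 0 := fun j hj z hz =>
    ⟨(S.perp_e (by omega) hz).1, (S.perp_f (by omega) hz).1, (S.perp_e (by omega) hz).2, (S.perp_f (by omega) hz).2⟩
  have te : ∀ j, j < 4 - 1 → ap t (S.e j) = S.e j ∧ ap t (S.f j) = S.f j := fun j hj =>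
    ⟨(tfix _).mpr ⟨(hz j hj z1 hz1).1, (hz j hj z2 hz2).1⟩, (tfix _).mpr ⟨(hz j hj z1 hz1).2.1, (hz j hj z2 hz2).2.1⟩⟩
  have apmul : ∀ (g h : Om Q) (x : ι → F), ap (g * h) x = ap g (ap h x) := fun g h x => app_mul g.1 h.1 x
  have conj_fix : ∀ g : Om Q, ap g z1 = z1 → ap g z2 = z2 → g * t * g⁻¹ = t := fun g a b => Subtype.ext (by
    show g.1 * (r1 * r2) * g.1⁻¹ = r1 * r2
    rw [hr1, hr2, S.conj_two]
    show refl Q (ap g z1) * refl Q (ap g z2) = _
    rw [a, b])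
  have hrefz : ∀ v, Q v = 1 → polar Q z1 v = 0 → polar Q z2 v = 0 → ∀ (hm : r1 * refl Q v ∈ Om Q),
      (⟨r1 * refl Q v, hm⟩ : Om Q) * t * (⟨r1 * refl Q v, hm⟩ : Om Q)⁻¹ = t * t := by
    intro v hv a b hm
    have hc : refl Q v * (r1 * r2) * (refl Q v)⁻¹ = r1 * r2 := by
      rw [hr1, hr2, S.conj_two, app_refl_of_ortho a, app_refl_of_ortho b]
    have hinv : t * t = t⁻¹ := (inv_eq_of_mul_eq_one_right t3).symm
    rw [hinv]
    refine Subtype.ext ?_
    show r1 * refl Q v * (r1 * r2) * (r1 * refl Q v)⁻¹ = (r1 * r2)⁻¹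
    rw [show r1 * refl Q v * (r1 * r2) * (r1 * refl Q v)⁻¹ = r1 * (refl Q v * (r1 * r2) * (refl Q v)⁻¹) * r1⁻¹ by group,
      hc, mul_inv_rev, hr1, hr2, refl_inv, refl_inv, ← mul_assoc (refl Q z1), refl_mul_self, one_mul]
  -- vectors
  let v12 : S.W 2 := ⟨S.e 2, S.e_mem_W le_rfl h2⟩
  let w12 : S.W 2 := ⟨S.f 2, S.f_mem_W le_rfl h2⟩
  have pef : ∀ j, j < 4 - 1 → polar Q (S.e j) (S.f j) = 1 := fun j hj => by rw [S.pef j j hj hj, if_pos rfl]
  have pfe : ∀ j, j < 4 - 1 → polar Q (S.f j) (S.e j) = 1 := fun j hj => by rw [polar_comm]; exact pef j hj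
  have pef0 : ∀ i j, i < 4 - 1 → j < 4 - 1 → i ≠ j → polar Q (S.e i) (S.f j) = 0 ∧ polar Q (S.f j) (S.e i) = 0 :=
    fun i j hi hj hij => by
      refine ⟨by rw [S.pef i j hi hj, if_neg hij], ?_⟩
      rw [polar_comm, S.pef i j hi hj, if_neg hij]
  set xA := el Q (S.e 1) (S.e 2) with hxA
  set xB := el Q (S.e 1) (S.f 2) with hxB
  set xA' := el Q (S.f 1) (S.f 2) with hxA'
  set xB' := el Q (S.f 1) (S.e 2) with hxB'
  have hA12 := S.pee 1 2 h1 h2
  have hB12 : polar Q (S.e 1) (S.f 2) = 0 := (pef0 1 2 h1 h2 (by norm_num)).1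
  have hA12' := S.pff 1 2 h1 h2
  have hB12' : polar Q (S.f 1) (S.e 2) = 0 := (pef0 2 1 h2 h1 (by norm_num)).2
  have xAfix : ∀ x, polar Q x (S.e 1) = 0 → polar Q x (S.e 2) = 0 → ap xA x = x := fun x a b =>
    S.el_fix (S.Qe 1 h1) hA12 a b
  have xA0 : ap xA (S.e 0) = S.e 0 ∧ ap xA (S.f 0) = S.f 0 :=
    ⟨xAfix _ (S.pee 0 1 h0 h1) (S.pee 0 2 h0 h2),
      xAfix _ (pef0 1 0 h1 h0 (by norm_num)).2 (pef0 2 0 h2 h0 (by norm_num)).2⟩
  have xAt : t * xA = xA * t := by
    have h := conj_fix xA (xAfix _ (hz 1 h1 z1 hz1).2.2.1 (hz 2 h2 z1 hz1).2.2.1)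
      (xAfix _ (hz 1 h1 z2 hz2).2.2.1 (hz 2 h2 z2 hz2).2.2.1)
    calc t * xA = xA * t * xA⁻¹ * xA := by rw [h]
      _ = xA * t := inv_mul_cancel_right _ _
  have xA2 : xA * xA = 1 := S.invol_el h2q (S.Qe 1 h1) hA12
  -- level zero terms
  have hp00 : ∀ b : S.W 1, b ≠ 0 → Q b.1 = 0 → S.rk ρ 0 b = 1 := fun b hb hQb => by rw [hp0 b hb, if_pos hQb]
  have hL00 : ∀ b : S.W 1, b ≠ 0 → Q b.1 ≠ 0 → S.L ρ 0 b = 0 := fun b hb hQb =>
    S.L_zero_of_rk ρ b (by rw [hp0 b hb, if_neg hQb])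
  have stay : ∀ g : Om Q, ap g (S.e 0) = S.e 0 → ap g (S.f 0) = S.f 0 → ∀ b : S.W 1, ap g b.1 ∈ S.W 1 := by
    intro g a c b j hj
    obtain rfl : j = 0 := Nat.lt_one_iff.mp hj
    refine ⟨?_, ?_⟩
    · rw [← a, show polar Q (ap g (S.e 0)) (ap g b.1) = polar Q (S.e 0) b.1 from polar_app g.1 _ _]
      exact (b.2 0 hj).1
    · rw [← c, show polar Q (ap g (S.f 0)) (ap g b.1) = polar Q (S.f 0) b.1 from polar_app g.1 _ _]
      exact (b.2 0 hj).2
  have moved0 : ∀ g : Om Q, ap g (S.e 0) = S.e 0 → ap g (S.f 0) = S.f 0 → ∀ b : S.W 1, ap g b.1 ≠ b.1 →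
      LinearMap.trace ℂ V (ρ g * S.L ρ 0 b) = 0 := by
    intro g a c b hne
    refine S.trace_moved ρ hQn h5 h0 (g := g) (c := 1) (fun j hj => absurd hj (Nat.not_lt_zero j))
      (by rw [one_smul, a]) b fun heq => hne ?_
    have h := congrArg Subtype.val heq
    change (1 : F)⁻¹ • S.pr 1 (ap g b.1) = b.1 at h
    rwa [inv_one, one_smul, S.pr_eq_self (stay g a c b)] at h
  have fixv : ∀ b : S.W 1, ap t b.1 = b.1 → ∃ v, Q v = 1 ∧ polar Q z1 v = 0 ∧ polar Q z2 v = 0 ∧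
      polar Q (S.e 0) v = 0 ∧ polar Q b.1 v = 0 := by
    intro b _
    have key : ∀ x y u w : F, polar Q b.1 (x • S.e 1 + y • S.f 1 + u • S.e 2 + w • S.f 2) = 0 →
        x * y + u * w = 1 → ∃ v, Q v = 1 ∧ polar Q z1 v = 0 ∧ polar Q z2 v = 0 ∧ polar Q (S.e 0) v = 0 ∧
          polar Q b.1 v = 0 := fun x y u w hb hv => by
      refine ⟨x • S.e 1 + y • S.f 1 + u • S.e 2 + w • S.f 2, ?_, ?_, ?_, ?_, hb⟩
      · simp [QuadraticMap.map_add ⇑Q, QuadraticMap.map_smul, polar_add_left, polar_smul_left, polar_smul_right,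
          S.Qe 1 h1, S.Qe 2 h2, S.Qf 1 h1, S.Qf 2 h2, pef 1 h1, pef 2 h2, hA12, hB12, hB12', hA12']
        linear_combination hv
      all_goals
        simp [polar_add_right, polar_smul_right, (hz 1 h1 z1 hz1).2.2.1, (hz 1 h1 z1 hz1).2.2.2,
          (hz 2 h2 z1 hz1).2.2.1, (hz 2 h2 z1 hz1).2.2.2, (hz 1 h1 z2 hz2).2.2.1, (hz 1 h1 z2 hz2).2.2.2,
          (hz 2 h2 z2 hz2).2.2.1, (hz 2 h2 z2 hz2).2.2.2, S.pee 0 1 h0 h1, S.pee 0 2 h0 h2,
          (pef0 0 1 h0 h1 (by norm_num)).1, (pef0 0 2 h0 h2 (by norm_num)).1]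
    rcases hF (polar Q b.1 (S.e 1) + polar Q b.1 (S.f 1)) with ha | ha
    · exact key 1 1 0 0 (by simp [polar_add_right, ha]) (by simp)
    rcases hF (polar Q b.1 (S.e 2)) with hb | hb
    · rcases hF (polar Q b.1 (S.f 2)) with hc | hc
      · exact key 0 0 1 1 (by simp [polar_add_right, hb, hc]) (by simp)
      · exact key 1 1 0 1 (by simp [polar_add_right, hc, ha]; linear_combination h20) (by simp)
    · exact key 1 1 1 0 (by simp [polar_add_right, hb, ha]; linear_combination h20) (by simp)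
  have tstab : ∀ b : S.W 1, ap t b.1 = b.1 → S.rk ρ 0 b = 1 → ρ t * S.L ρ 0 b = S.L ρ 0 b := by
    intro b hb hrk
    obtain ⟨v, hv, a1, a2, a0, ab⟩ := fixv b hb
    have hm := S.refl_pair_mem h2q hz1n (show Q v ≠ 0 by rw [hv]; exact one_ne_zero)
    have hst : S.Stab 0 b t := ⟨fun j hj => by rw [Nat.le_zero.mp hj]; exact (te 0 h0).1, hb⟩
    have hy : S.Stab 0 b ⟨r1 * refl Q v, hm⟩ := by
      have hfix : ∀ x, polar Q x z1 = 0 → polar Q x v = 0 → ap (⟨r1 * refl Q v, hm⟩ : Om Q) x = x :=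
        fun x c1 c2 => by
          show app (r1 * refl Q v) x = x
          rw [app_mul, app_refl_of_ortho c2, hr1, app_refl_of_ortho c1]
      refine ⟨fun j hj => ?_, hfix _ ((tfix _).mp hb).1 ab⟩
      rw [Nat.le_zero.mp hj]
      exact hfix _ (hz 0 h0 z1 hz1).1 a0
    have h := S.one_of_comm ρ h0 hy hst (hrefz v hv a1 a2 hm).symm hrk
    rw [S.stab_scalar ρ h0 hst hrk, h, one_smul]
  have tt2 : ∀ x, ap (t * t) x = x ↔ ap t x = x := by
    intro x
    constructor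
    · intro h
      have h' := apmul t (t * t) x
      rw [t3, h] at h'
      exact h'.symm.trans (app_one x)
    · intro h; rw [apmul, h, h]
  have term0 : ∀ b : S.W 1, b ≠ 0 →
      LinearMap.trace ℂ V (ρ t * S.L ρ 0 b) = LinearMap.trace ℂ V (ρ (t * t) * S.L ρ 0 b) ∧
      LinearMap.trace ℂ V (ρ (t * xA) * S.L ρ 0 b) = LinearMap.trace ℂ V (ρ (t * t * xA) * S.L ρ 0 b) := by
    intro b hb
    by_cases hQb : Q b.1 = 0
    swap
    · simp [hL00 b hb hQb]
    have hrk := hp00 b hb hQb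
    have e0 := te 0 h0
    have tt0 : ap (t * t) (S.e 0) = S.e 0 ∧ ap (t * t) (S.f 0) = S.f 0 := ⟨(tt2 _).mpr e0.1, (tt2 _).mpr e0.2⟩
    constructor
    · by_cases htb : ap t b.1 = b.1
      · rw [map_mul ρ t t, mul_assoc, tstab b htb hrk, tstab b htb hrk]
      · rw [moved0 t e0.1 e0.2 b htb, moved0 (t * t) tt0.1 tt0.2 b fun h => htb ((tt2 _).mp h)]
    · have hc : Commute t xA := xAt
      have cube : ∀ u : Om Q, Commute u xA → u * (u * u) = 1 → (u * xA) * ((u * xA) * (u * xA)) = xA := by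
        intro u hu hu3
        have e : (u * xA) ^ 3 = u ^ 3 * xA ^ 3 := hu.mul_pow 3
        rw [pow_succ', pow_two] at e
        rw [e, pow_succ' u, pow_two u, hu3, one_mul, pow_succ', pow_two, xA2, mul_one]
      have split : ∀ u : Om Q, Commute u xA → u * (u * u) = 1 → (∀ x, ap u x = x ↔ ap t x = x) →
          ap (u * xA) b.1 = b.1 → ap t b.1 = b.1 ∧ ap xA b.1 = b.1 := by
        intro u hu hu3 hut h
        have hx : ap xA b.1 = b.1 := by
          have h' := apmul (u * xA) ((u * xA) * (u * xA)) b.1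
          rwa [cube u hu hu3, apmul (u * xA) (u * xA), h, h, h] at h'
        rw [apmul, hx] at h
        exact ⟨(hut _).mp h, hx⟩
      have htt3 : (t * t) * ((t * t) * (t * t)) = 1 := by
        calc (t * t) * ((t * t) * (t * t)) = (t * (t * t)) * (t * (t * t)) := by group
          _ = 1 := by rw [t3, one_mul]
      have f1 : ap (t * xA) (S.e 0) = S.e 0 ∧ ap (t * xA) (S.f 0) = S.f 0 :=
        ⟨by rw [apmul, xA0.1, e0.1], by rw [apmul, xA0.2, e0.2]⟩
      have f2 : ap (t * t * xA) (S.e 0) = S.e 0 ∧ ap (t * t * xA) (S.f 0) = S.f 0 :=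
        ⟨by rw [apmul, xA0.1, tt0.1], by rw [apmul, xA0.2, tt0.2]⟩
      by_cases hfix : ap t b.1 = b.1 ∧ ap xA b.1 = b.1
      · have hst : S.Stab 0 b xA := ⟨fun j hj => by rw [Nat.le_zero.mp hj]; exact xA0.1, hfix.2⟩
        have h := hfix.2
        rw [hxA, ap_el hQn h5 (S.Qe 1 h1) hA12] at h
        have c1 := congrArg (fun y => polar Q (S.f 1) y) h
        have c2 := congrArg (fun y => polar Q (S.f 2) y) h
        simp [polar_add_right, polar_smul_right, pfe 1 h1, pfe 2 h2, S.Qe 2 h2,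
          (pef0 2 1 h2 h1 (by norm_num)).2, (pef0 1 2 h1 h2 (by norm_num)).2] at c1 c2
        have hx1 := S.fixed_one ρ (i := 0) (c := 0) (by norm_num) b hrk hQb
          (by rw [polar_comm]; exact c2) (by rw [polar_comm]; exact c1) (Or.inr (Or.inl rfl))
        have hxs : ρ xA * S.L ρ 0 b = S.L ρ 0 b := by
          rw [S.stab_scalar ρ h0 hst hrk]
          show LinearMap.trace ℂ V (ρ (el Q (S.e (0 + 1)) (S.e (0 + 2))) * S.L ρ 0 b) • S.L ρ 0 b = _
          rw [hx1, one_smul]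
        rw [map_mul ρ t xA, map_mul ρ (t * t) xA, map_mul ρ t t]
        simp only [mul_assoc, hxs, tstab b hfix.1 hrk]
      · rw [moved0 (t * xA) f1.1 f1.2 b fun h => hfix (split t hc t3 (fun x => Iff.rfl) h),
          moved0 (t * t * xA) f2.1 f2.2 b fun h => hfix (split (t * t) (hc.mul_left hc) htt3 tt2 h)]
  -- the class function seen from level zero
  obtain ⟨w, hwt, hwx⟩ : ∃ w : Om Q, w * t * w⁻¹ = t * t ∧ w * xA * w⁻¹ = xA := by
    have hv : Q (S.e 0 + S.f 0) = 1 := by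
      simp [QuadraticMap.map_add ⇑Q, S.Qe 0 h0, S.Qf 0 h0, pef 0 h0]
    have hm := S.refl_pair_mem h2q hz1n (show Q (S.e 0 + S.f 0) ≠ 0 by rw [hv]; exact one_ne_zero)
    refine ⟨⟨r1 * refl Q (S.e 0 + S.f 0), hm⟩, hrefz _ hv ?_ ?_ hm, ?_⟩
    · simp [polar_add_right, (hz 0 h0 z1 hz1).2.2.1, (hz 0 h0 z1 hz1).2.2.2]
    · simp [polar_add_right, (hz 0 h0 z2 hz2).2.2.1, (hz 0 h0 z2 hz2).2.2.2]
    have hfix : ∀ j, j < 4 - 1 → 0 ≠ j → ap (⟨r1 * refl Q (S.e 0 + S.f 0), hm⟩ : Om Q) (S.e j) = S.e j := by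
      intro j hj hj0
      show app (r1 * refl Q _) _ = _
      rw [app_mul, app_refl_of_ortho (v := S.e 0 + S.f 0) (x := S.e j) (by
        simp [polar_add_right, S.pee j 0 hj h0, (pef0 j 0 hj h0 (Ne.symm hj0)).1]), hr1,
        app_refl_of_ortho (hz j hj z1 hz1).1]
    rw [hxA, el_conj hQn h5 (S.Qe 1 h1) hA12, hfix 1 h1 (by norm_num), hfix 2 h2 (by norm_num)]
  have key1 : ∀ g g' : Om Q, w * g * w⁻¹ = g' →
      (∀ b : S.W 1, b ≠ 0 → LinearMap.trace ℂ V (ρ g * S.L ρ 0 b) = LinearMap.trace ℂ V (ρ g' * S.L ρ 0 b)) →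
      S.tr ρ 1 g = S.tr ρ 1 g' := by
    intro g g' hg hterm
    have h := S.tr_conj ρ (Nat.zero_le (4 - 1)) (g := w) (fun j hj => absurd hj (Nat.not_lt_zero j)) g
    rw [hg, S.tr_eq_sum ρ hQn h5 h0, S.tr_eq_sum ρ hQn h5 h0,
      ← Finset.add_sum_erase Finset.univ _ (Finset.mem_univ (0 : S.W (0 + 1))),
      ← Finset.add_sum_erase Finset.univ (fun b => LinearMap.trace ℂ V (ρ g * S.L ρ 0 b))
        (Finset.mem_univ (0 : S.W (0 + 1))), ← S.tr_succ ρ hQn h5 h0, ← S.tr_succ ρ hQn h5 h0,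
      Finset.sum_congr rfl (fun b hb => hterm b (Finset.ne_of_mem_erase hb))] at h
    exact (add_right_cancel h).symm
  have inv1 : S.tr ρ 1 t = S.tr ρ 1 (t * t) := key1 _ _ hwt fun b hb => (term0 b hb).1
  have inv2 : S.tr ρ 1 (t * xA) = S.tr ρ 1 (t * t * xA) :=
    key1 _ _ (by
      calc w * (t * xA) * w⁻¹ = w * t * w⁻¹ * (w * xA * w⁻¹) := by group
        _ = t * t * xA := by rw [hwt, hwx]) fun b hb => (term0 b hb).2
  -- level one
  have hflag1 : ∀ g : Om Q, ap g (S.e 0) = S.e 0 → S.Flag 1 g := fun g a j hj => by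
    rw [Nat.lt_one_iff.mp hj]; exact ⟨1, by rw [one_smul, a]⟩
  have bfix : ∀ b : S.W 2, ap t b.1 = b.1 → Q b.1 = 0 → b = 0 ∨ b = v12 ∨ b = w12 := by
    intro b htb hQb
    obtain ⟨hb1, hb2⟩ := (tfix _).mp htb
    set z := S.pr 3 b.1 with hzdef
    have hzW : z ∈ S.W 3 := S.pr_mem (show 3 ≤ 4 - 1 by norm_num) _
    have hdec := S.toHyp.decomp b.2
    change b.1 = polar Q (S.f 2) b.1 • S.e 2 + polar Q (S.e 2) b.1 • S.f 2 + z at hdec
    have hz0 : z = 0 := hzker z hzW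
      (by rw [hzdef, S.toHyp.polar_pr (show 3 ≤ 4 - 1 by norm_num) _ hz1]; exact hb1)
      (by rw [hzdef, S.toHyp.polar_pr (show 3 ≤ 4 - 1 by norm_num) _ hz2]; exact hb2)
    rw [hz0, add_zero] at hdec
    rw [hdec, QuadraticMap.map_add ⇑Q, QuadraticMap.map_smul, QuadraticMap.map_smul, polar_smul_left,
      polar_smul_right, pef 2 h2, S.Qe 2 h2, S.Qf 2 h2] at hQb
    rcases hF (polar Q (S.f 2) b.1) with ha | ha <;> rcases hF (polar Q (S.e 2) b.1) with hc | hc <;>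
      rw [ha, hc] at hdec
    · exact Or.inl (Subtype.ext (by rw [hdec]; simp))
    · exact Or.inr (Or.inr (Subtype.ext (by rw [hdec]; simp [w12])))
    · exact Or.inr (Or.inl (Subtype.ext (by rw [hdec]; simp [v12])))
    · rw [ha, hc] at hQb; simp at hQb
  have hvw : v12 ≠ w12 := fun h => by
    have h' := congrArg (fun b : S.W 2 => polar Q (S.e 2) b.1) h
    simp [v12, w12, S.pee 2 2 h2 h2, pef 2 h2] at h'
  have hv0 : v12 ≠ 0 := fun h => S.toHyp.e_ne hQn h2 (congrArg Subtype.val h)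
  have hw0 : w12 ≠ 0 := fun h => by
    have h' := congrArg (fun b : S.W 2 => polar Q (S.e 2) b.1) h
    simp [w12, pef 2 h2, polar_zero_right] at h'
  have hL0 : S.L ρ 1 (0 : S.W 2) = 0 := S.L_zero_of_rk ρ 0 (by rw [← S.dimE_succ ρ hQn h5 h1, hE2])
  have mov1 : ∀ u : Om Q, (∀ x, ap u x = x ↔ ap t x = x) → ∀ b : S.W 2, b ≠ v12 → b ≠ w12 →
      LinearMap.trace ℂ V (ρ u * S.L ρ 1 b) = 0 := by
    intro u hu b hbv hbw
    by_cases hb : b = 0
    · rw [hb, hL0, mul_zero, map_zero]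
    by_cases hQb : Q b.1 = 0
    swap
    · rw [S.L_zero_of_rk ρ b (by rw [hp1 b hb, if_neg hQb]), mul_zero, map_zero]
    refine S.trace_moved ρ hQn h5 h1 (g := u) (c := 1) (hflag1 u ((hu _).mpr (te 0 h0).1))
      (by rw [one_smul, (hu _).mpr (te 1 h1).1]) b fun heq => ?_
    have h := congrArg Subtype.val heq
    change (1 : F)⁻¹ • S.pr 2 (ap u b.1) = b.1 at h
    have hstay : ap u b.1 ∈ S.W 2 := fun j hj => by
      refine ⟨?_, ?_⟩
      · rw [← (hu _).mpr (te j (by omega)).1, show polar Q (ap u (S.e j)) (ap u b.1) = polar Q (S.e j) b.1 from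
          polar_app u.1 _ _]
        exact (b.2 j hj).1
      · rw [← (hu _).mpr (te j (by omega)).2, show polar Q (ap u (S.f j)) (ap u b.1) = polar Q (S.f j) b.1 from
          polar_app u.1 _ _]
        exact (b.2 j hj).2
    rw [inv_one, one_smul, S.pr_eq_self hstay] at h
    rcases bfix b ((hu _).mp h) hQb with h' | h' | h'
    exacts [hb h', hbv h', hbw h']
  set P := S.L ρ 1 v12 with hP
  set R := S.L ρ 1 w12 with hR
  set μ := LinearMap.trace ℂ V (ρ t * P) with hμ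
  set ν := LinearMap.trace ℂ V (ρ t * R) with hν
  have hrkv : S.rk ρ 1 v12 = 1 := by rw [hp1 v12 hv0, if_pos (S.Qe 2 h2)]
  have hrkw : S.rk ρ 1 w12 = 1 := by rw [hp1 w12 hw0, if_pos (S.Qf 2 h2)]
  have stv : S.Stab 1 v12 t := ⟨fun j hj => (te j (by omega)).1, (te 2 h2).1⟩
  have stw : S.Stab 1 w12 t := ⟨fun j hj => (te j (by omega)).1, (te 2 h2).2⟩
  have sP : ρ t * P = μ • P := S.stab_scalar ρ h1 stv hrkv
  have sR : ρ t * R = ν • R := S.stab_scalar ρ h1 stw hrkw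
  have tP : LinearMap.trace ℂ V P = 1 := by rw [hP, ← S.rk_eq_trace ρ hQn h5 h1, hrkv, Nat.cast_one]
  have tR : LinearMap.trace ℂ V R = 1 := by rw [hR, ← S.rk_eq_trace ρ hQn h5 h1, hrkw, Nat.cast_one]
  have sP2 : ρ (t * t) * P = (μ * μ) • P := by rw [map_mul, mul_assoc, sP, mul_smul_comm, sP, smul_smul]
  have sR2 : ρ (t * t) * R = (ν * ν) • R := by rw [map_mul, mul_assoc, sR, mul_smul_comm, sR, smul_smul]
  have hcube : ∀ (X : Module.End ℂ V) (a : ℂ), ρ t * X = a • X → LinearMap.trace ℂ V X = 1 → a * (a * a) = 1 := by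
    intro X a h htr
    have h3 : ρ (t * (t * t)) * X = (a * (a * a)) • X := by
      rw [map_mul, map_mul, mul_assoc, mul_assoc, h, mul_smul_comm, h, smul_smul, mul_smul_comm, h, smul_smul]
      congr 1
      ring
    rw [t3, map_one, one_mul] at h3
    have := congrArg (LinearMap.trace ℂ V) h3
    rw [map_smul, htr, smul_eq_mul, mul_one] at this
    exact this.symm
  have trt : S.tr ρ 1 t = μ + ν ∧ S.tr ρ 1 (t * t) = μ * μ + ν * ν := by
    constructor
    · rw [S.tr_eq_sum ρ hQn h5 h1, sum_two _ v12 w12 hvw (mov1 t fun x => Iff.rfl)]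
    · rw [S.tr_eq_sum ρ hQn h5 h1, sum_two _ v12 w12 hvw (mov1 (t * t) tt2), ← hP, ← hR, sP2, sR2, map_smul,
        map_smul, tP, tR, smul_eq_mul, smul_eq_mul, mul_one, mul_one]
  have hsig : ∀ b : S.W 2, ρ xA * S.L ρ 1 b = chi F (polar Q b.1 (S.e 2)) • S.L ρ 1 b := fun b =>
    S.T_mul_L ρ hQn h5 h1 v12 b
  have hchiv : chi F (polar Q v12.1 (S.e 2)) = 1 := by
    show chi F (polar Q (S.e 2) (S.e 2)) = 1
    rw [S.pee 2 2 h2 h2, AddChar.map_zero_eq_one]
  have hchiw : chi F (polar Q w12.1 (S.e 2)) = -1 := by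
    show chi F (polar Q (S.f 2) (S.e 2)) = -1
    rw [pfe 2 h2, chi_one_two h2q]
  have trx : ∀ u : Om Q, (∀ x, ap u x = x ↔ ap t x = x) →
      S.tr ρ 1 (u * xA) = LinearMap.trace ℂ V (ρ u * P) - LinearMap.trace ℂ V (ρ u * R) := by
    intro u hu
    rw [S.tr_eq_sum ρ hQn h5 h1, sum_two _ v12 w12 hvw fun b hb hb' => by
      rw [map_mul ρ u xA, mul_assoc, hsig, mul_smul_comm, map_smul, mov1 u hu b hb hb', smul_zero],
      map_mul ρ u xA, mul_assoc, mul_assoc, hsig, hsig, hchiv, hchiw, one_smul, ← hP, ← hR, mul_smul_comm, map_smul,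
      neg_smul, one_smul, sub_eq_add_neg]
  rw [trx t (fun x => Iff.rfl), trx (t * t) tt2, sP2, sR2, map_smul, map_smul, tP, tR, smul_eq_mul, smul_eq_mul,
    mul_one, mul_one] at inv2
  rw [trt.1, trt.2] at inv1
  have hμ1 : μ = 1 := by
    have hc := hcube P μ sP tP
    have h' : μ = μ * μ := by linear_combination (1 / 2 : ℂ) * inv1 + (1 / 2 : ℂ) * inv2
    rwa [← h', ← h'] at hc
  have hν1 : ν = 1 := by
    have hc := hcube R ν sR tR
    have h' : ν = ν * ν := by linear_combination (1 / 2 : ℂ) * inv1 - (1 / 2 : ℂ) * inv2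
    rwa [← h', ← h'] at hc
  rw [hμ1, one_smul] at sP
  rw [hν1, one_smul] at sR
  -- the fixed space of the rotation
  set E := S.E ρ 1 with hE
  have hEE : E * E = E := S.E_idem ρ hQn h5 1
  have hcom : ∀ g : Om Q, ap g (S.e 0) = S.e 0 → ρ g * E = E * ρ g := fun g a =>
    S.E_comm ρ hQn h5 (show 1 ≤ 4 - 1 by norm_num) (hflag1 g a)
  have hEL : ∀ b : S.W 2, E * S.L ρ 1 b = S.L ρ 1 b ∧ S.L ρ 1 b * E = S.L ρ 1 b := by
    intro b
    constructor
    · show E * (E * _) = E * _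
      rw [← mul_assoc, hEE]
    · show E * _ * E = E * _
      rw [mul_assoc, ← (S.pj_comm_E ρ hQn h5 h1 b).eq, ← mul_assoc, hEE]
  have Xmul : ∀ g h : Om Q, ap h (S.e 0) = S.e 0 → ρ (g * h) * E = ρ g * E * (ρ h * E) := fun g h a => by
    rw [map_mul, hcom h a, mul_assoc (ρ g) E, ← mul_assoc E E, hEE, mul_assoc, hcom h a]
  set Z := (3 : ℂ)⁻¹ • (E + ρ t * E + ρ (t * t) * E) with hZdef
  have te0 : ap t (S.e 0) = S.e 0 := (te 0 h0).1
  have tte0 : ap (t * t) (S.e 0) = S.e 0 := (tt2 _).mpr te0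
  have tZ : LinearMap.trace ℂ V Z = 3 := by
    have e0 : LinearMap.trace ℂ V E = 5 := by
      rw [SLMinDeg.trace_eq_finrank_range _ hEE]
      exact_mod_cast hE1
    rw [hZdef, map_smul, map_add, map_add, e0, show LinearMap.trace ℂ V (ρ t * E) = μ + ν from trt.1,
      show LinearMap.trace ℂ V (ρ (t * t) * E) = μ * μ + ν * ν from trt.2, hμ1, hν1, smul_eq_mul]
    norm_num
  have hZZ : Z * Z = Z := by
    have h4 : t * t * (t * t) = t := by
      calc t * t * (t * t) = t * (t * (t * t)) := by group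
        _ = t := by rw [t3, mul_one]
    have m1 : ρ t * E * E = ρ t * E := by rw [mul_assoc, hEE]
    have m2 : ρ (t * t) * E * E = ρ (t * t) * E := by rw [mul_assoc, hEE]
    have m3 : E * (ρ t * E) = ρ t * E := by rw [← mul_assoc, ← hcom t te0, m1]
    have m4 : E * (ρ (t * t) * E) = ρ (t * t) * E := by rw [← mul_assoc, ← hcom _ tte0, m2]
    have m5 : ρ t * E * (ρ t * E) = ρ (t * t) * E := (Xmul t t te0).symm
    have m6 : ρ t * E * (ρ (t * t) * E) = E := by rw [← Xmul t _ tte0, t3, map_one, one_mul]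
    have m7 : ρ (t * t) * E * (ρ t * E) = E := by rw [← Xmul _ t te0, mul_assoc, t3, map_one, one_mul]
    have m8 : ρ (t * t) * E * (ρ (t * t) * E) = ρ t * E := by rw [← Xmul _ _ tte0, h4]
    simp only [hZdef, smul_mul_smul_comm, add_mul, mul_add, hEE, m1, m2, m3, m4, m5, m6, m7, m8]
    module
  have hXZ : ∀ X : Module.End ℂ V, E * X = X → X * E = X → ρ t * X = X → X * ρ t = X → X * Z = X ∧ Z * X = X := by
    intro X a b c d
    have c2 : ρ (t * t) * X = X := by rw [map_mul, mul_assoc, c, c]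
    have d2 : X * ρ (t * t) = X := by rw [map_mul, ← mul_assoc, d, d]
    constructor
    · simp only [hZdef, mul_smul_comm, mul_add, ← mul_assoc, d, d2, b]
      module
    · simp only [hZdef, smul_mul_assoc, add_mul, mul_assoc, a, c, c2]
      module
  have hPt : ∀ (b : S.W 2), ap t b.1 = b.1 → ρ t * S.L ρ 1 b = S.L ρ 1 b * ρ t := by
    intro b hb
    have h := S.L_move ρ hQn h5 h1 (g := t) (c := 1) (hflag1 t te0) (by rw [one_smul, (te 1 h1).1]) b
    rwa [show S.bmap h1 t 1 b = b from Subtype.ext (by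
      show (1 : F)⁻¹ • S.pr 2 (ap t b.1) = b.1
      rw [hb, S.pr_eq_self b.2, inv_one, one_smul])] at h
  have hPZ := hXZ P (hEL _).1 (hEL _).2 sP (by rw [← hPt v12 (te 2 h2).1]; exact sP)
  have hRZ := hXZ R (hEL _).1 (hEL _).2 sR (by rw [← hPt w12 (te 2 h2).2]; exact sR)
  -- the exchange of each pair
  have hQa : ∀ j, j < 4 - 1 → Q (S.e j + S.f j) = 1 := fun j hj => by
    simp [QuadraticMap.map_add ⇑Q, S.Qe j hj, S.Qf j hj, pef j hj]
  let g : Om Q := ⟨refl Q (S.e 1 + S.f 1) * refl Q (S.e 2 + S.f 2), S.refl_pair_mem h2q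
    (by rw [hQa 1 h1]; exact one_ne_zero) (by rw [hQa 2 h2]; exact one_ne_zero)⟩
  have gap : ∀ x, ap g x = x - polar Q x (S.e 2 + S.f 2) • (S.e 2 + S.f 2) -
      polar Q x (S.e 1 + S.f 1) • (S.e 1 + S.f 1) := by
    intro x
    show app (refl Q _ * refl Q _) x = _
    rw [app_mul, hapr _ (hQa 2 h2), hapr _ (hQa 1 h1), polar_sub_left, polar_smul_left]
    simp [polar_add_left, polar_add_right, S.pee 2 1 h2 h1, S.pff 2 1 h2 h1,
      (pef0 2 1 h2 h1 (by norm_num)).1, (pef0 1 2 h1 h2 (by norm_num)).2]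
  have ge1 : ap g (S.e 1) = S.f 1 ∧ ap g (S.f 1) = S.e 1 := by
    constructor <;>
      simp [gap, polar_add_right, hA12, hA12', hB12, hB12', S.pee 1 1 h1 h1, S.pff 1 1 h1 h1, pef 1 h1, pfe 1 h1,
        hneg]
  have ge2 : ap g (S.e 2) = S.f 2 ∧ ap g (S.f 2) = S.e 2 := by
    constructor <;>
      simp [gap, polar_add_right, S.pee 2 1 h2 h1, S.pff 2 1 h2 h1, S.pee 2 2 h2 h2, S.pff 2 2 h2 h2, pef 2 h2,
        pfe 2 h2, (pef0 2 1 h2 h1 (by norm_num)).1, (pef0 1 2 h1 h2 (by norm_num)).2, hneg]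
  have gfix : ∀ x, polar Q x (S.e 1) = 0 → polar Q x (S.f 1) = 0 → polar Q x (S.e 2) = 0 →
      polar Q x (S.f 2) = 0 → ap g x = x := fun x a b c d => by simp [gap, polar_add_right, a, b, c, d]
  have ge0 : ap g (S.e 0) = S.e 0 := gfix _ (S.pee 0 1 h0 h1) (pef0 0 1 h0 h1 (by norm_num)).1
    (S.pee 0 2 h0 h2) (pef0 0 2 h0 h2 (by norm_num)).1
  have gt : g * t = t * g := by
    have h := conj_fix g
      (gfix _ (hz 1 h1 z1 hz1).2.2.1 (hz 1 h1 z1 hz1).2.2.2 (hz 2 h2 z1 hz1).2.2.1 (hz 2 h2 z1 hz1).2.2.2)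
      (gfix _ (hz 1 h1 z2 hz2).2.2.1 (hz 1 h1 z2 hz2).2.2.2 (hz 2 h2 z2 hz2).2.2.1 (hz 2 h2 z2 hz2).2.2.2)
    calc g * t = g * t * g⁻¹ * g := (inv_mul_cancel_right _ _).symm
      _ = t * g := by rw [h]
  have gg : g * g = 1 := by
    refine Subtype.ext ?_
    show refl Q (S.e 1 + S.f 1) * refl Q (S.e 2 + S.f 2) * (refl Q (S.e 1 + S.f 1) * refl Q (S.e 2 + S.f 2)) = 1
    have hc : refl Q (S.e 2 + S.f 2) * refl Q (S.e 1 + S.f 1) = refl Q (S.e 1 + S.f 1) * refl Q (S.e 2 + S.f 2) := by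
      have h := refl_conj (refl Q (S.e 2 + S.f 2)) (S.e 1 + S.f 1)
      rw [app_refl_of_ortho (Q := Q) (v := S.e 2 + S.f 2) (x := S.e 1 + S.f 1)
        (by simp [polar_add_left, polar_add_right, hA12, hA12', hB12, hB12'])] at h
      exact mul_inv_eq_iff_eq_mul.mp h
    rw [← mul_assoc, mul_assoc (refl Q (S.e 1 + S.f 1)), hc, ← mul_assoc, refl_mul_self, one_mul, refl_mul_self]
  have hgi : g⁻¹ = g := inv_eq_of_mul_eq_one_right gg
  let cj : Module.End ℂ V → Module.End ℂ V := fun X => ρ g * X * ρ g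
  have rgg : ρ g * ρ g = 1 := by rw [← map_mul, gg, map_one]
  have cmul : ∀ X Y, cj (X * Y) = cj X * cj Y := fun X Y => by
    show ρ g * (X * Y) * ρ g = ρ g * X * ρ g * (ρ g * Y * ρ g)
    simp only [mul_assoc]
    rw [← mul_assoc (ρ g) (ρ g), rgg, one_mul]
  have ccj : ∀ X, cj (cj X) = X := fun X => by
    show ρ g * (ρ g * X * ρ g) * ρ g = X
    simp only [mul_assoc, rgg, mul_one]
    rw [← mul_assoc, rgg, one_mul]
  have ctr : ∀ X, LinearMap.trace ℂ V (cj X) = LinearMap.trace ℂ V X := fun X => by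
    show LinearMap.trace ℂ V (ρ g * X * ρ g) = _
    rw [LinearMap.trace_mul_comm, ← mul_assoc, rgg, one_mul]
  have cE : cj E = E := by
    show ρ g * E * ρ g = E
    rw [hcom g ge0, mul_assoc, rgg, mul_one]
  have cel : ∀ u a, Q u = 0 → polar Q u a = 0 → cj (ρ (el Q u a) * E) = ρ (el Q (ap g u) (ap g a)) * E := by
    intro u a hu ha
    have hc1 : cj (ρ (el Q u a)) = ρ (el Q (ap g u) (ap g a)) := by
      show ρ g * ρ (el Q u a) * ρ g = _
      rw [← el_conj hQn h5 hu ha g, hgi, map_mul, map_mul]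
    rw [cmul, hc1, cE]
  set P' := cj P with hP'
  set R' := cj R with hR'
  have PP : P * P = P := S.L_idem ρ hQn h5 h1 _
  have RR : R * R = R := S.L_idem ρ hQn h5 h1 _
  have PR : P * R = 0 ∧ R * P = 0 :=
    ⟨by rw [hP, hR, S.L_mul_L ρ hQn h5 h1, if_neg hvw], by rw [hP, hR, S.L_mul_L ρ hQn h5 h1, if_neg hvw.symm]⟩
  have E' : ∀ X, E * X = X → X * E = X → E * cj X = cj X ∧ cj X * E = cj X := fun X a b =>
    ⟨by conv_lhs => rw [← cE, ← cmul, a], by conv_lhs => rw [← cE, ← cmul, b]⟩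
  obtain ⟨EP', P'E⟩ := E' P (hEL _).1 (hEL _).2
  obtain ⟨ER', R'E⟩ := E' R (hEL _).1 (hEL _).2
  rw [← hP'] at EP' P'E
  rw [← hR'] at ER' R'E
  have P'P' : P' * P' = P' := by rw [hP', ← cmul, PP]
  have R'R' : R' * R' = R' := by rw [hR', ← cmul, RR]
  have tP' : LinearMap.trace ℂ V P' = 1 := by rw [hP', ctr, tP]
  have tR' : LinearMap.trace ℂ V R' = 1 := by rw [hR', ctr, tR]
  have ct : cj (ρ t) = ρ t := by
    show ρ g * ρ t * ρ g = ρ t
    rw [← map_mul, gt, map_mul, mul_assoc, rgg, mul_one]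
  have sP' : ρ t * P' = P' ∧ P' * ρ t = P' :=
    ⟨by conv_lhs => rw [hP', ← ct, ← cmul, sP],
      by conv_lhs => rw [hP', ← ct, ← cmul, ← hPt v12 (te 2 h2).1, sP]⟩
  have sR' : ρ t * R' = R' ∧ R' * ρ t = R' :=
    ⟨by conv_lhs => rw [hR', ← ct, ← cmul, sR],
      by conv_lhs => rw [hR', ← ct, ← cmul, ← hPt w12 (te 2 h2).2, sR]⟩
  -- the four reflections
  have refop : ∀ (p : S.W 2), p = v12 ∨ p = w12 → ρ (el Q (S.e 1) p.1) * E = (2 : ℂ) • S.L ρ 1 p - E := by
    intro p hp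
    have hT : ∀ b, ρ (el Q (S.e 1) p.1) * S.L ρ 1 b = chi F (polar Q b.1 p.1) • S.L ρ 1 b :=
      fun b => S.T_mul_L ρ hQn h5 h1 p b
    have hp2 : Q p.1 = 0 := by rcases hp with rfl | rfl; exacts [S.Qe 2 h2, S.Qf 2 h2]
    have key : ∀ b, ρ (el Q (S.e 1) p.1) * S.L ρ 1 b =
        (if b = p then (2 : ℂ) • S.L ρ 1 b else 0) - S.L ρ 1 b := by
      intro b
      rw [hT]
      split_ifs with hb
      · rw [hb, polar_self', hp2, mul_zero, AddChar.map_zero_eq_one, two_smul, one_smul, add_sub_cancel_right]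
      · by_cases hb0 : b = 0
        · rw [hb0, hL0, smul_zero, sub_zero]
        by_cases hQb : Q b.1 = 0
        swap
        · rw [S.L_zero_of_rk ρ b (by rw [hp1 b hb0, if_neg hQb]), smul_zero, sub_zero]
        have hne : polar Q b.1 p.1 = 1 := by
          refine (hF _).resolve_left fun h => ?_
          have hdec := S.toHyp.decomp b.2
          set z := S.pr 3 b.1 with hzdef
          change b.1 = polar Q (S.f 2) b.1 • S.e 2 + polar Q (S.e 2) b.1 • S.f 2 + z at hdec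
          have hzW : z ∈ S.W 3 := S.pr_mem (show 3 ≤ 4 - 1 by norm_num) _
          have hQb' := hQb
          rw [hdec, S.toHyp.Q_split h2 _ _ hzW] at hQb'
          have hpz : polar Q (S.f 2) b.1 * polar Q (S.e 2) b.1 = 0 := by
            rcases hp with rfl | rfl
            · change polar Q b.1 (S.e 2) = 0 at h
              rw [polar_comm (f := ⇑Q) (S.e 2), h, mul_zero]
            · change polar Q b.1 (S.f 2) = 0 at h
              rw [polar_comm (f := ⇑Q) (S.f 2), h, zero_mul]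
          rw [hpz, zero_add] at hQb'
          have hz0 : z = 0 := by
            have hcone : Nat.card {x : S.W 3 // Q x.1 = 0} = 1 := by
              have h' : (Nat.card {x : S.W 3 // Q x.1 = 0} : ℤ) = _ := S.cone_base
              rw [h2q] at h'
              norm_num at h'
              rw [Nat.card_eq_fintype_card]
              exact_mod_cast h'
            haveI := (Nat.card_eq_one_iff_unique.mp hcone).1
            exact congrArg (fun x : {x : S.W 3 // Q x.1 = 0} => x.1.1)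
              (Subsingleton.elim (⟨⟨z, hzW⟩, hQb'⟩ : {x : S.W 3 // Q x.1 = 0}) ⟨0, by simp⟩)
          rcases bfix b ((tfix _).mpr ⟨by
            rw [hdec, hz0]; simp [polar_add_left, polar_smul_left, (hz 2 h2 z1 hz1).1, (hz 2 h2 z1 hz1).2.1], by
            rw [hdec, hz0]; simp [polar_add_left, polar_smul_left, (hz 2 h2 z2 hz2).1, (hz 2 h2 z2 hz2).2.1]⟩)
            hQb with h' | h' | h'
          · exact hb0 h'
          · rcases hp with rfl | rfl
            · exact hb h'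
            · rw [h'] at h; change polar Q (S.e 2) (S.f 2) = 0 at h
              rw [pef 2 h2] at h; exact one_ne_zero h
          · rcases hp with rfl | rfl
            · rw [h'] at h; change polar Q (S.f 2) (S.e 2) = 0 at h
              rw [pfe 2 h2] at h; exact one_ne_zero h
            · exact hb h'
        rw [hne, chi_one_two h2q, neg_smul, one_smul, zero_sub]
    rw [hE, ← S.sum_L ρ hQn h5 h1, Finset.mul_sum, Finset.sum_congr rfl (fun b _ => key b), Finset.sum_sub_distrib,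
      Finset.sum_ite_eq', if_pos (Finset.mem_univ _)]
  have opA : ρ xA * E = (2 : ℂ) • P - E := refop v12 (Or.inl rfl)
  have opB : ρ xB * E = (2 : ℂ) • R - E := refop w12 (Or.inr rfl)
  have cop : ∀ X, cj ((2 : ℂ) • X - E) = (2 : ℂ) • cj X - E := fun X => by
    show ρ g * ((2 : ℂ) • X - E) * ρ g = _
    rw [mul_sub, sub_mul, mul_smul_comm, smul_mul_assoc]
    conv_rhs => rw [← cE]
  have opA' : ρ xA' * E = (2 : ℂ) • P' - E := by
    have h := cel _ _ (S.Qe 1 h1) hA12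
    rw [ge1.1, ge2.1, ← hxA, opA, cop] at h
    exact h.symm
  have opB' : ρ xB' * E = (2 : ℂ) • R' - E := by
    have h := cel _ _ (S.Qe 1 h1) hB12
    rw [ge1.1, ge2.2, ← hxB, opB, cop] at h
    exact h.symm
  have fixe0 : ∀ u a, Q u = 0 → polar Q u a = 0 → polar Q (S.e 0) u = 0 → polar Q (S.e 0) a = 0 →
      ap (el Q u a) (S.e 0) = S.e 0 := fun u a hu ha a1 a2 => S.el_fix hu ha a1 a2
  have xA'0 : ap xA' (S.e 0) = S.e 0 :=
    fixe0 _ _ (S.Qf 1 h1) hA12' (pef0 0 1 h0 h1 (by norm_num)).1 (pef0 0 2 h0 h2 (by norm_num)).1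
  have xB0 : ap xB (S.e 0) = S.e 0 :=
    fixe0 _ _ (S.Qe 1 h1) hB12 (S.pee 0 1 h0 h1) (pef0 0 2 h0 h2 (by norm_num)).1
  have xB'0 : ap xB' (S.e 0) = S.e 0 :=
    fixe0 _ _ (S.Qf 1 h1) hB12' (pef0 0 1 h0 h1 (by norm_num)).1 (S.pee 0 2 h0 h2)
  have braidA : ρ xA * E * (ρ xA' * E) * (ρ xA * E) = ρ xA' * E * (ρ xA * E) * (ρ xA' * E) := by
    rw [← Xmul _ _ xA'0, ← Xmul _ _ xA0.1, ← Xmul _ _ xA0.1, ← Xmul _ _ xA'0]
    congr 2
    exact S.el_braid h2q (S.Qe 1 h1) (S.Qe 2 h2) (S.Qf 1 h1) (S.Qf 2 h2) hA12 hA12' (pef 1 h1) (pef 2 h2) hB12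
      (pef0 2 1 h2 h1 (by norm_num)).1
  have braidB : ρ xB * E * (ρ xB' * E) * (ρ xB * E) = ρ xB' * E * (ρ xB * E) * (ρ xB' * E) := by
    rw [← Xmul _ _ xB'0, ← Xmul _ _ xB0, ← Xmul _ _ xB0, ← Xmul _ _ xB'0]
    congr 2
    exact S.el_braid h2q (S.Qe 1 h1) (S.Qf 2 h2) (S.Qf 1 h1) (S.Qe 2 h2) hB12 hB12' (pef 1 h1) (pfe 2 h2) hA12
      (by rw [polar_comm]; exact hA12')
  have sq : ∀ X, X * X = X → E * X = X → X * E = X → ((2 : ℂ) • X - E) * ((2 : ℂ) • X - E) = E := by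
    intro X a b c
    simp only [sub_mul, mul_sub, smul_mul_assoc, mul_smul_comm, smul_smul, a, b, c, hEE]
    module
  have commA'B : P' * R = R * P' := by
    have h : xA' * xB = xB * xA' := by
      rw [hxA', hxB, ← S.el_symm h2q (S.Qf 1 h1) (S.Qf 2 h2) hA12', ← S.el_symm h2q (S.Qe 1 h1) (S.Qf 2 h2) hB12]
      exact el_comm' hQn h5 (S.Qf 2 h2) (by rw [polar_comm]; exact hA12') (by rw [polar_comm]; exact hB12)
    have h' := congrArg (fun u => ρ u * E) h
    simp only [Xmul _ _ xB0, Xmul _ _ xA'0, opA', opB] at h'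
    simp only [sub_mul, mul_sub, smul_mul_assoc, mul_smul_comm, smul_sub, smul_smul, EP', P'E, (hEL w12).1,
      (hEL w12).2, hR, hEE] at h'
    rw [hR]
    refine smul_right_injective _ (show (4 : ℂ) ≠ 0 by norm_num) ?_
    show (4 : ℂ) • _ = (4 : ℂ) • _
    linear_combination (norm := module) h'
  have notPR : P ≠ R := fun h => by
    rw [← h, PP] at PR
    rw [PR.1, map_zero] at tP
    exact zero_ne_one tP
  have hP'R : P' * R = 0 ∧ R * P' = 0 := by
    refine (lines_commute P'P' RR tP' tR commA'B).resolve_right fun h => notPR ?_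
    have hc : ρ xA * E * (ρ xB * E) = ρ xB * E * (ρ xA * E) := by
      rw [← Xmul _ _ xB0, ← Xmul _ _ xA0.1, hxA, hxB, el_comm' hQn h5 (S.Qe 1 h1) hA12 hB12]
    have hb := braidA
    rw [opA', h, ← opB] at hb
    have hB2 : ρ xB * E * (ρ xB * E) = E := by rw [opB]; exact sq R RR (hEL _).1 (hEL _).2
    have hA2 : ρ xA * E * (ρ xA * E) = E := by rw [opA]; exact sq P PP (hEL _).1 (hEL _).2
    rw [hc, mul_assoc, hA2, mul_assoc (ρ xB * E) (ρ xA * E), hc, ← mul_assoc (ρ xB * E), hB2] at hb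
    have eA : ρ xB * E * E = ρ xB * E := by rw [mul_assoc, hEE]
    have eB : E * (ρ xA * E) = ρ xA * E := by rw [← mul_assoc, ← hcom xA xA0.1, mul_assoc, hEE]
    rw [eA, eB, opA, opB] at hb
    refine (smul_right_injective _ (show (2 : ℂ) ≠ 0 by norm_num) ?_).symm
    exact sub_left_inj.mp hb
  have hPR' : P * R' = 0 ∧ R' * P = 0 := by
    have c0 : cj 0 = 0 := by show ρ g * 0 * ρ g = 0; simp
    constructor
    · have h := congrArg cj hP'R.1
      rwa [cmul, hP', ccj, ← hR', c0] at h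
    · have h := congrArg cj hP'R.2
      rwa [cmul, hP', ccj, ← hR', c0] at h
  have hP'R' : P' * R' = 0 ∧ R' * P' = 0 := by
    have c0 : cj 0 = 0 := by show ρ g * 0 * ρ g = 0; simp
    constructor
    · rw [hP', hR', ← cmul, PR.1, c0]
    · rw [hP', hR', ← cmul, PR.2, c0]
  -- the pairs are proper
  have distinct : ∀ p p' : S.W 2, p ≠ 0 → Q p.1 = 0 → S.rk ρ 1 p = 1 → Q p'.1 = 0 →
      polar Q p.1 p'.1 = 1 → polar Q p.1 z1 = 0 → polar Q p'.1 z1 = 0 → polar Q p'.1 z2 = 0 →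
      ρ (el Q (S.f 1) p'.1) * E = ρ (el Q (S.e 1) p.1) * E → False := by
    intro p p' hp0 hQp hrk hQp' hpp hpz hp'z hp'z2 heq
    have hup : polar Q (S.e 1) p.1 = 0 := (S.perp_e (by norm_num) p.2).1
    have hup' : polar Q (S.f 1) p'.1 = 0 := (S.perp_f (by norm_num) p'.2).1
    set y := el Q (S.e 1) z1 with hy
    have huz : polar Q (S.e 1) z1 = 0 := (hz 1 h1 z1 hz1).1
    set x := el Q (S.e 1) p.1 with hx
    set x' := el Q (S.f 1) p'.1 with hx'
    have e0p : polar Q (S.e 0) p.1 = 0 ∧ polar Q (S.e 0) p'.1 = 0 :=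
      ⟨(S.perp_e (by norm_num) p.2).1, (S.perp_e (by norm_num) p'.2).1⟩
    have y0 : ap y (S.e 0) = S.e 0 := fixe0 _ _ (S.Qe 1 h1) huz (S.pee 0 1 h0 h1) (hz 0 h0 z1 hz1).1
    have x'0 : ap x' (S.e 0) = S.e 0 := fixe0 _ _ (S.Qf 1 h1) hup' (pef0 0 1 h0 h1 (by norm_num)).1 e0p.2
    have x0' : ap x (S.e 0) = S.e 0 := fixe0 _ _ (S.Qe 1 h1) hup (S.pee 0 1 h0 h1) e0p.1
    set h := x' * y * x'⁻¹ * y with hh
    have i2 : x'⁻¹ = x' := inv_eq_of_mul_eq_one_right (S.invol_el h2q (S.Qf 1 h1) hup')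
    have hone : ρ h * E = E := by
      have hcx : x * y * x * y = 1 := by
        calc x * y * x * y = x * (y * x) * y := by group
          _ = x * (x * y) * y := by rw [hx, hy, el_comm' hQn h5 (S.Qe 1 h1) huz hup]
          _ = (x * x) * (y * y) := by group
          _ = 1 := by rw [hx, hy, S.invol_el h2q (S.Qe 1 h1) hup, S.invol_el h2q (S.Qe 1 h1) huz, one_mul]
      rw [hh, i2, Xmul _ _ y0, Xmul _ _ x'0, Xmul _ _ y0, heq, ← Xmul _ _ y0, ← Xmul _ _ x0', ← Xmul _ _ y0, hcx,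
        map_one, one_mul]
    have hel : h = el Q (S.e 1 + p'.1) z1 * y := by
      rw [hh, hy, el_conj hQn h5 (S.Qe 1 h1) huz, hx', ap_el hQn h5 (S.Qf 1 h1) hup',
        ap_el hQn h5 (S.Qf 1 h1) hup']
      simp [pef 1 h1, (hz 1 h1 z1 hz1).2.2.2, polar_comm (f := ⇑Q) z1 p'.1, hp'z, hQp',
        (S.perp_e (show 1 < 2 by norm_num) p'.2).1]
    have hu1 : Q (S.e 1 + p'.1) = 0 := by
      simp [QuadraticMap.map_add ⇑Q, S.Qe 1 h1, hQp', (S.perp_e (show 1 < 2 by norm_num) p'.2).1]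
    have hu2 : polar Q (S.e 1 + p'.1) z1 = 0 := by rw [polar_add_left, huz, hp'z, add_zero]
    have he1 : ap h (S.e 1) = S.e 1 := by
      rw [hel, apmul, hy, S.el_fix (S.Qe 1 h1) huz (S.pee 1 1 h1 h1) huz]
      exact S.el_fix hu1 hu2 (by
        rw [polar_add_right, S.pee 1 1 h1 h1, (S.perp_e (show 1 < 2 by norm_num) p'.2).1, add_zero]) huz
    have he0 : ap h (S.e 0) = S.e 0 := by
      rw [hel, apmul, y0]
      exact S.el_fix hu1 hu2 (by rw [polar_add_right, S.pee 0 1 h0 h1, e0p.2, add_zero]) (hz 0 h0 z1 hz1).1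
    have hb : ap h p.1 = p.1 + z1 + (-1 : F) • (S.e 1 + p'.1) := by
      rw [hel, apmul, hy, S.el_fix (S.Qe 1 h1) huz (by rw [polar_comm]; exact hup) hpz, ap_el hQn h5 hu1 hu2]
      simp [polar_add_right, polar_comm (f := ⇑Q) p.1 (S.e 1), hup, hpp, hpz, hQ1]
    have hmove : LinearMap.trace ℂ V (ρ h * S.L ρ 1 p) = 0 := by
      refine S.trace_moved ρ hQn h5 h1 (g := h) (c := 1) (hflag1 h he0) (by rw [one_smul, he1]) p fun heq' => ?_
      have h' := congrArg (fun b : S.W 2 => polar Q b.1 z2) heq'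
      change polar Q ((1 : F)⁻¹ • S.pr 2 (ap h p.1)) z2 = polar Q p.1 z2 at h'
      rw [inv_one, one_smul, S.toHyp.polar_pr (show 2 ≤ 4 - 1 by norm_num) _ (S.W_anti (by norm_num) hz2), hb] at h'
      simp [polar_add_left, polar_smul_left, hz12, (hz 1 h1 z2 hz2).1] at h'
      rw [show polar Q p'.1 z2 = 0 from hp'z2] at h'
      exact one_ne_zero (by linear_combination h')
    rw [← (hEL p).1, ← mul_assoc, hone, (hEL p).1, ← S.rk_eq_trace ρ hQn h5 h1, hrk] at hmove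
    simp at hmove
  have hPP' : P ≠ P' := fun h => distinct v12 w12 hv0 (S.Qe 2 h2) hrkv (S.Qf 2 h2) (pef 2 h2)
    (hz 2 h2 z1 hz1).1 (hz 2 h2 z1 hz1).2.1 (hz 2 h2 z2 hz2).2.1 (by
      show ρ xA' * E = ρ xA * E
      rw [opA, opA', ← h])
  have hRR' : R ≠ R' := fun h => distinct w12 v12 hw0 (S.Qf 2 h2) hrkw (S.Qe 2 h2) (pfe 2 h2)
    (hz 2 h2 z1 hz1).2.1 (hz 2 h2 z1 hz1).1 (hz 2 h2 z2 hz2).1 (by
      show ρ xB' * E = ρ xB * E
      rw [opB, opB', ← h])
  rw [opA, opA'] at braidA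
  rw [opB, opB'] at braidB
  exact two_pairs_false PP P'P' RR R'R' tP tP' tR tR'
    (braid_quarter hEE PP P'P' (hEL _).2 (hEL _).1 P'E EP' tP tP' hPP' braidA)
    (braid_quarter hEE RR R'R' (hEL _).2 (hEL _).1 R'E ER' tR tR' hRR' braidB)
    PR hPR' hP'R hP'R' hZZ tZ hPZ (hXZ P' EP' P'E sP'.1 sP'.2) hRZ (hXZ R' ER' R'E sR'.1 sR'.2)

end EvenFrame

end CfsgLib.OrthDeg
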