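import Cfsg.Agent.Lib.OrthDeg.EStd
import Cfsg.Agent.Lib.OrthDeg.EMinusTwo

set_option autoImplicit false
set_option linter.unusedSectionVars false
set_option linter.unusedSimpArgs false

/-! The standard frame of minus type, and the bottom layer. -/

namespace CfsgLib.OrthDeg

open QuadraticMap CfsgLib.Orth

namespace EvenFrame

variable {ι : Type} [Fintype ι] [DecidableEq ι] {F : Type*} [Field F] [Fintype F] [DecidableEq F]
variable {Q : QuadraticForm F (ι → F)} {n : ℕ} (S : EvenFrame Q n (-1))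
variable {V : Type*} [AddCommGroup V] [Module ℂ V] [FiniteDimensional ℂ V] (ρ : Representation ℂ (Om Q) V)

include S

/-- The bottom layer of minus type. -/
theorem minus_bottom (hd : S.Drop ρ (n - 3)) :
    evf (Fintype.card F) (-1) 3 ≤ (S.dimE ρ (n - 3) : ℤ) + 1 := by
  classical
  have := S.hn
  obtain ⟨c, hp, -⟩ := S.single_of_drop ρ hd
  have hl := S.dimE_layer ρ (i := n - 3) (by omega) hp
  have hle := S.cone_le_count rfl (j := n - 3 + 1) (by omega) c
  have hcone := S.cone_card (j := n - 3 + 1) (by omega)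
  rw [show n - (n - 3 + 1) = 2 by omega] at hcone
  rw [show (3 : ℕ) = 2 + 1 from rfl, evf_succ _ _ (by norm_num), ← hcone]
  have h2 : evf (Fintype.card F) (-1) 2 = 0 := by
    simp [evf, bsum]
  rw [h2, zero_add]
  split_ifs at hl <;> push_cast <;> omega

end EvenFrame

variable {F : Type*} [Field F]

/-- The standard hyperbolic system of minus type. -/
noncomputable def minusHyp (m : ℕ) (a b : F) : Hyp (minusQ m F a b) m where
  e i := if h : i < m then Pi.single (Sum.inl (Sum.inl ⟨i, h⟩)) 1 else 0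
  f i := if h : i < m then Pi.single (Sum.inl (Sum.inr ⟨i, h⟩)) 1 else 0
  Qe i hi := by simp [dif_pos hi, minusQ_coe, Cfsg.quadFormMinus, Pi.single_apply]
  Qf i hi := by simp [dif_pos hi, minusQ_coe, Cfsg.quadFormMinus, Pi.single_apply]
  pee i j hi hj := by simp [dif_pos hi, dif_pos hj, polar_minusQ, Pi.single_apply]
  pff i j hi hj := by simp [dif_pos hi, dif_pos hj, polar_minusQ, Pi.single_apply]
  pef i j hi hj := by
    simp [dif_pos hi, dif_pos hj, polar_minusQ, Pi.single_apply, Fin.ext_iff, eq_comm]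
    rw [Finset.sum_eq_single ⟨j, hj⟩]
    · simp
    · intro b _ hb
      rw [if_neg]
      exact fun h => hb (Fin.ext h.symm)
    · simp

theorem mem_minusHyp_bottom (m : ℕ) (a b : F) (x : (Fin m ⊕ Fin m) ⊕ Fin 2 → F) :
    x ∈ (minusHyp m a b).W m ↔ ∀ p : Fin m ⊕ Fin m, x (Sum.inl p) = 0 := by
  constructor
  · intro hx p
    rcases p with i | i
    · have := (hx i i.2).2
      simpa [minusHyp, polar_minusQ, Pi.single_apply] using this
    · have := (hx i i.2).1
      simpa [minusHyp, polar_minusQ, Pi.single_apply] using this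
  · intro hx i hi
    simp [minusHyp, dif_pos hi, polar_minusQ, Pi.single_apply, hx]

theorem minusQ_bottom (m : ℕ) (a b : F) {x : (Fin m ⊕ Fin m) ⊕ Fin 2 → F}
    (hx : x ∈ (minusHyp m a b).W m) :
    minusQ m F a b x = x (Sum.inr 0) ^ 2 + a * x (Sum.inr 0) * x (Sum.inr 1) + b * x (Sum.inr 1) ^ 2 := by
  rw [minusQ_coe]
  simp [Cfsg.quadFormMinus, (mem_minusHyp_bottom m a b x).1 hx]

/-- The bottom as a plane. -/
noncomputable def minusPlane (m : ℕ) (a b : F) : (minusHyp m a b).W m ≃ (Fin 2 → F) where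
  toFun x j := x.1 (Sum.inr j)
  invFun v := ⟨Sum.elim (fun _ => 0) v, (mem_minusHyp_bottom m a b _).2 fun _ => rfl⟩
  left_inv x := Subtype.ext (funext fun p => by
    rcases p with p | p
    · exact ((mem_minusHyp_bottom m a b x.1).1 x.2 p).symm
    · rfl)
  right_inv _ := rfl

variable [Fintype F]

/-- The standard frame of minus type. -/
noncomputable def minusFrame (n : ℕ) (hn : 4 ≤ n) (a b : F)
    (hab : ∀ z₁ z₂ : F, z₁ ^ 2 + a * z₁ * z₂ + b * z₂ ^ 2 = 0 → z₁ = 0 ∧ z₂ = 0) :
    EvenFrame (minusQ (n - 1) F a b) n (-1) where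
  toHyp := minusHyp (n - 1) a b
  nd := CfsgLib.POmega.minusQ_nondegenerate_any hab
  hn := hn
  hι := by simp; omega
  hsign := Or.inr rfl
  hq h := absurd h (by norm_num)
  val c hc := by
    classical
    suffices ∃ x y : F, x ^ 2 + a * x * y + b * y ^ 2 = c by
      obtain ⟨x, y, hxy⟩ := this
      refine ⟨((minusPlane (n - 1) a b).symm ![x, y]).1, ((minusPlane (n - 1) a b).symm ![x, y]).2, ?_⟩
      rw [minusQ_bottom (n - 1) a b ((minusPlane (n - 1) a b).symm ![x, y]).2]
      exact hxy
    by_cases h2 : (2 : F) = 0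
    · have : CharP F 2 := CharTwo.of_one_ne_zero_of_two_eq_zero one_ne_zero h2
      obtain ⟨r, hr⟩ := FiniteField.isSquare_of_char_two (ringChar.eq F 2) c
      exact ⟨r, 0, by rw [hr]; ring⟩
    · obtain ⟨A, rfl⟩ : ∃ A, a = 2 * A := ⟨a / 2, by rw [mul_div_cancel₀ _ h2]⟩
      have hB : b - A ^ 2 ≠ 0 := fun h => one_ne_zero (hab (-A) 1 (by linear_combination h)).2
      obtain ⟨x, y, hxy⟩ := Orth.exists_binary h2 (one_ne_zero (α := F)) hB c
      exact ⟨x - A * y, y, by rw [← hxy]; ring⟩
  card_base := by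
    rw [Nat.card_congr (minusPlane (n - 1) a b), Nat.card_fun, Nat.card_eq_fintype_card,
      Nat.card_eq_fintype_card, Fintype.card_fin]
  cone_base := by
    have h1 : Nat.card {x : (minusHyp (n - 1) a b).W (n - 1) // minusQ (n - 1) F a b x.1 = 0} = 1 := by
      refine Nat.card_eq_one_iff_unique.mpr ⟨⟨fun x y => ?_⟩, ⟨⟨0, by simp⟩⟩⟩
      have key : ∀ x : {x : (minusHyp (n - 1) a b).W (n - 1) // minusQ (n - 1) F a b x.1 = 0}, x.1 = 0 := by
        intro x
        have h := x.2
        rw [minusQ_bottom (n - 1) a b x.1.2] at h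
        obtain ⟨e0, e1⟩ := hab _ _ h
        apply (minusPlane (n - 1) a b).injective
        funext j
        fin_cases j
        · exact e0
        · exact e1
      exact Subtype.ext ((key x).trans (key y).symm)
    rw [h1]
    push_cast
    ring

end CfsgLib.OrthDeg
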