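import Cfsg.Agent.Lib.OrthDeg.ETop
import Cfsg.Agent.Lib.POmega.Wedge

set_option autoImplicit false
set_option linter.unusedSectionVars false
set_option linter.style.haveILetI false
set_option linter.unusedSimpArgs false

/-!
Plus type: the three last pairs carry the exterior square of four-space, so the fixed space of the
radicals above them is a representation of `SL₄` and has at least its smallest degree.
-/

namespace CfsgLib.OrthDeg

open QuadraticMap CfsgLib.Orth

variable {ι : Type} [Fintype ι] [DecidableEq ι] {F : Type*} [Field F] [Fintype F] [DecidableEq F]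
variable {Q : QuadraticForm F (ι → F)} {n : ℕ} (S : EvenFrame Q n 1)
variable {ez fz : ι → F} (hez : ez ∈ S.W (n - 1)) (hfz : fz ∈ S.W (n - 1)) (hQe : Q ez = 0) (hQf : Q fz = 0)
  (hef : polar Q ez fz = 1)

namespace EvenFrame

include S

/-- The six coordinates on the last three pairs. -/
noncomputable def coord (ez fz : ι → F) : (ι → F) →ₗ[F] Fin 6 → F :=
  LinearMap.pi ![Q.polarBilin (S.f (n - 3)), Q.polarBilin (S.f (n - 2)), Q.polarBilin fz, Q.polarBilin ez,
    -Q.polarBilin (S.e (n - 2)), Q.polarBilin (S.e (n - 3))]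

/-- The vector with given coordinates. -/
noncomputable def emb (ez fz : ι → F) : (Fin 6 → F) →ₗ[F] ι → F :=
  Fintype.linearCombination F ![S.e (n - 3), S.e (n - 2), ez, fz, -S.f (n - 2), S.f (n - 3)]

theorem emb_apply (ez fz : ι → F) (v : Fin 6 → F) : S.emb ez fz v =
    v 0 • S.e (n - 3) + v 1 • S.e (n - 2) + v 2 • ez + v 3 • fz + v 4 • (-S.f (n - 2)) + v 5 • S.f (n - 3) := by
  simp [emb, Fintype.linearCombination_apply, Fin.sum_univ_six]

theorem coord_apply (ez fz x : ι → F) : S.coord ez fz x =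
    ![polar Q (S.f (n - 3)) x, polar Q (S.f (n - 2)) x, polar Q fz x, polar Q ez x,
      -polar Q (S.e (n - 2)) x, polar Q (S.e (n - 3)) x] := by
  funext i
  fin_cases i <;> simp [coord]

/-- The linear map induced by a matrix of four-space. -/
noncomputable def wmap (ez fz : ι → F) (M : Matrix (Fin 4) (Fin 4) F) : (ι → F) →ₗ[F] ι → F :=
  LinearMap.id - (S.emb ez fz).comp (S.coord ez fz) +
    (S.emb ez fz).comp ((Matrix.mulVecLin (POmega.wedge M)).comp (S.coord ez fz))

include hez hfz hQe hQf hef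

theorem six :
    polar Q ez ez = 0 ∧ polar Q fz fz = 0 ∧ polar Q fz ez = 1 ∧
    (∀ j, j < n - 1 → polar Q (S.e j) ez = 0 ∧ polar Q (S.f j) ez = 0 ∧ polar Q (S.e j) fz = 0 ∧
      polar Q (S.f j) fz = 0 ∧ polar Q ez (S.e j) = 0 ∧ polar Q ez (S.f j) = 0 ∧ polar Q fz (S.e j) = 0 ∧
      polar Q fz (S.f j) = 0) :=
  ⟨by rw [polar_self', hQe, mul_zero], by rw [polar_self', hQf, mul_zero], by rw [polar_comm, hef],
    fun j hj => ⟨(S.perp_e hj hez).1, (S.perp_f hj hez).1, (S.perp_e hj hfz).1, (S.perp_f hj hfz).1,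
      (S.perp_e hj hez).2, (S.perp_f hj hez).2, (S.perp_e hj hfz).2, (S.perp_f hj hfz).2⟩⟩

set_option maxHeartbeats 1200000 in
theorem coord_emb (v : Fin 6 → F) : S.coord ez fz (S.emb ez fz v) = v := by
  have := S.hn
  have h3 : n - 3 < n - 1 := by omega
  have h2 : n - 2 < n - 1 := by omega
  obtain ⟨k1, k2, k3, k⟩ := S.six hez hfz hQe hQf hef
  obtain ⟨a1, a2, a3, a4, a5, a6, a7, a8⟩ := k _ h3
  obtain ⟨b1, b2, b3, b4, b5, b6, b7, b8⟩ := k _ h2
  rw [coord_apply, emb_apply]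
  funext i
  fin_cases i <;>
    simp [polar_add_right, polar_smul_right, polar_neg_right, hef, k1, k2, k3, a1, a2, a3, a4, a5, a6, a7, a8,
      b1, b2, b3, b4, b5, b6, b7, b8, S.pee _ _ h3 h3, S.pee _ _ h3 h2, S.pee _ _ h2 h3, S.pee _ _ h2 h2,
      S.pff _ _ h3 h3, S.pff _ _ h3 h2, S.pff _ _ h2 h3, S.pff _ _ h2 h2, S.pef _ _ h3 h3, S.pef _ _ h3 h2,
      S.pef _ _ h2 h3, S.pef _ _ h2 h2, S.toHyp.pfe (i := n - 3) (j := n - 3) h3 h3,
      S.toHyp.pfe (i := n - 3) (j := n - 2) h3 h2, S.toHyp.pfe (i := n - 2) (j := n - 3) h2 h3,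
      S.toHyp.pfe (i := n - 2) (j := n - 2) h2 h2, show n - 3 ≠ n - 2 by omega, show n - 2 ≠ n - 3 by omega]

theorem Q_emb (v : Fin 6 → F) : Q (S.emb ez fz v) = POmega.pf v := by
  have := S.hn
  have h3 : n - 3 < n - 1 := by omega
  have h2 : n - 2 < n - 1 := by omega
  obtain ⟨k1, k2, k3, k⟩ := S.six hez hfz hQe hQf hef
  obtain ⟨a1, a2, a3, a4, a5, a6, a7, a8⟩ := k _ h3
  obtain ⟨b1, b2, b3, b4, b5, b6, b7, b8⟩ := k _ h2
  rw [emb_apply, POmega.pf]
  simp [QuadraticMap.map_add ⇑Q, QuadraticMap.map_smul, QuadraticMap.map_neg, polar_add_left, polar_smul_left,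
    polar_smul_right, polar_neg_left, polar_neg_right, hQe, hQf, hef, k3, a1, a2, a3, a4, a5, a6, a7, a8,
    b1, b2, b3, b4, b5, b6, b7, b8, S.Qe _ h3, S.Qe _ h2, S.Qf _ h3, S.Qf _ h2, S.pee _ _ h3 h2, S.pff _ _ h2 h3,
    S.pff _ _ h3 h2, S.pee _ _ h2 h3,
    S.pef _ _ h3 h3, S.pef _ _ h3 h2, S.pef _ _ h2 h3, S.pef _ _ h2 h2,
    S.toHyp.pfe (i := n - 3) (j := n - 2) h3 h2, S.toHyp.pfe (i := n - 2) (j := n - 3) h2 h3,
    S.toHyp.pfe (i := n - 3) (j := n - 3) h3 h3, S.toHyp.pfe (i := n - 2) (j := n - 2) h2 h2,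
    show n - 3 ≠ n - 2 by omega, show n - 2 ≠ n - 3 by omega]
  ring

theorem emb_perp (v : Fin 6 → F) {y : ι → F} (hy : S.coord ez fz y = 0) : polar Q (S.emb ez fz v) y = 0 := by
  rw [coord_apply] at hy
  have h0 := congrFun hy 0
  have h1 := congrFun hy 1
  have h2 := congrFun hy 2
  have h3 := congrFun hy 3
  have h4 := congrFun hy 4
  have h5 := congrFun hy 5
  simp only [Matrix.cons_val, Pi.zero_apply, neg_eq_zero] at h0 h1 h2 h3 h4 h5
  rw [emb_apply]
  simp [polar_add_left, polar_smul_left, polar_neg_left, h0, h1, h2, h3, h4, h5]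

theorem coord_wmap (M : Matrix (Fin 4) (Fin 4) F) (x : ι → F) :
    S.coord ez fz (S.wmap ez fz M x) = (POmega.wedge M).mulVec (S.coord ez fz x) := by
  simp [wmap, S.coord_emb hez hfz hQe hQf hef]

theorem wmap_mul (M N : Matrix (Fin 4) (Fin 4) F) :
    (S.wmap ez fz M).comp (S.wmap ez fz N) = S.wmap ez fz (M * N) := by
  refine LinearMap.ext fun x => ?_
  rw [LinearMap.comp_apply]
  have h := S.coord_wmap hez hfz hQe hQf hef N x
  simp only [wmap, LinearMap.add_apply, LinearMap.sub_apply, LinearMap.id_apply, LinearMap.comp_apply,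
    Matrix.mulVecLin_apply] at h ⊢
  rw [h, POmega.wedge_mul, ← Matrix.mulVec_mulVec]
  module

theorem wmap_one : S.wmap ez fz 1 = LinearMap.id := by
  refine LinearMap.ext fun x => ?_
  simp [wmap, POmega.wedge_one]

theorem Q_wmap {M : Matrix (Fin 4) (Fin 4) F} (hM : M.det = 1) (x : ι → F) :
    Q (S.wmap ez fz M x) = Q x := by
  set v := S.coord ez fz x with hv
  set y := x - S.emb ez fz v with hy
  have hcy : S.coord ez fz y = 0 := by rw [hy, map_sub, S.coord_emb hez hfz hQe hQf hef, ← hv, sub_self]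
  have e : S.wmap ez fz M x = S.emb ez fz ((POmega.wedge M).mulVec v) + y := by
    simp [wmap, hy, hv]; abel
  have e' : x = S.emb ez fz v + y := by rw [hy]; abel
  conv_rhs => rw [e']
  rw [e, QuadraticMap.map_add ⇑Q, QuadraticMap.map_add ⇑Q (S.emb ez fz v), S.emb_perp hez hfz hQe hQf hef _ hcy,
    S.emb_perp hez hfz hQe hQf hef _ hcy, S.Q_emb hez hfz hQe hQf hef, S.Q_emb hez hfz hQe hQf hef,
    POmega.pf_wedge, hM, one_mul]

/-- The action of `SL₄` on the last three pairs. -/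
noncomputable def slHom : Matrix.SpecialLinearGroup (Fin 4) F →* O Q :=
  MonoidHom.mk' (fun M => mkO (S.wmap ez fz M.1) (S.wmap ez fz (M⁻¹).1)
    (by rw [S.wmap_mul hez hfz hQe hQf hef, ← Matrix.SpecialLinearGroup.coe_mul, mul_inv_cancel]
        exact S.wmap_one hez hfz hQe hQf hef)
    (by rw [S.wmap_mul hez hfz hQe hQf hef, ← Matrix.SpecialLinearGroup.coe_mul, inv_mul_cancel]
        exact S.wmap_one hez hfz hQe hQf hef)
    (S.Q_wmap hez hfz hQe hQf hef M.2))
    fun M N => ext_app fun x => by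
      rw [app_mul, app_mkO, app_mkO, app_mkO, Matrix.SpecialLinearGroup.coe_mul,
        ← S.wmap_mul hez hfz hQe hQf hef]
      rfl

theorem slHom_mem (M : Matrix.SpecialLinearGroup (Fin 4) F) : S.slHom hez hfz hQe hQf hef M ∈ Om Q := by
  have hM : M ∈ commutator (Matrix.SpecialLinearGroup (Fin 4) F) := by
    rw [Cfsg.Agent.Classical.sl_commutator_eq_top (by simp)]; trivial
  have hle : (commutator (Matrix.SpecialLinearGroup (Fin 4) F)).map (S.slHom hez hfz hQe hQf hef) ≤ Om Q := by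
    show Subgroup.map _ ⁅(⊤ : Subgroup (Matrix.SpecialLinearGroup (Fin 4) F)), ⊤⁆ ≤ ⁅(⊤ : Subgroup (O Q)), ⊤⁆
    rw [Subgroup.map_commutator]
    exact Subgroup.commutator_mono le_top le_top
  exact hle ⟨M, hM, rfl⟩

/-- The action of `SL₄`, in `Ω`. -/
noncomputable def slOm : Matrix.SpecialLinearGroup (Fin 4) F →* Om Q :=
  (S.slHom hez hfz hQe hQf hef).codRestrict (Om Q) (S.slHom_mem hez hfz hQe hQf hef)

theorem ap_slOm (M : Matrix.SpecialLinearGroup (Fin 4) F) (x : ι → F) :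
    ap (S.slOm hez hfz hQe hQf hef M) x = S.wmap ez fz M.1 x := by
  show app (S.slHom hez hfz hQe hQf hef M) x = _
  simp [slHom, app_mkO]

theorem flag_slOm (M : Matrix.SpecialLinearGroup (Fin 4) F) :
    S.Flag (n - 3) (S.slOm hez hfz hQe hQf hef M) := fun j hj => by
  have := S.hn
  obtain ⟨k1, k2, k3, k⟩ := S.six hez hfz hQe hQf hef
  obtain ⟨a1, a2, a3, a4, a5, a6, a7, a8⟩ := k j (by omega)
  have h3 : n - 3 < n - 1 := by omega
  have h2 : n - 2 < n - 1 := by omega
  refine ⟨1, ?_⟩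
  have h : S.coord ez fz (S.e j) = 0 := by
    rw [coord_apply]
    funext i
    fin_cases i <;>
      simp [a5, a7, S.pee (n - 3) j h3 (by omega), S.pee (n - 2) j h2 (by omega),
        S.toHyp.pfe (i := n - 3) (j := j) h3 (by omega), S.toHyp.pfe (i := n - 2) (j := j) h2 (by omega),
        show n - 3 ≠ j by omega, show n - 2 ≠ j by omega]
  rw [ap_slOm, one_smul]
  simp [wmap, h]

theorem exists_root : ∃ M : Matrix.SpecialLinearGroup (Fin 4) F,
    S.slOm hez hfz hQe hQf hef M = el Q (S.e (n - 3)) (S.e (n - 2)) := by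
  have := S.hn
  have h3 : n - 3 < n - 1 := by omega
  have h2 : n - 2 < n - 1 := by omega
  obtain ⟨k1, k2, k3, k⟩ := S.six hez hfz hQe hQf hef
  obtain ⟨a1, a2, a3, a4, a5, a6, a7, a8⟩ := k _ h3
  obtain ⟨b1, b2, b3, b4, b5, b6, b7, b8⟩ := k _ h2
  refine ⟨Matrix.SpecialLinearGroup.transvection (show (0 : Fin 4) ≠ 3 by decide) (-1), ?_⟩
  refine Subtype.ext (ext_app fun x => ?_)
  show ap (S.slOm hez hfz hQe hQf hef _) x = ap (el Q _ _) x
  rw [ap_slOm, ap_el S.nd S.five (S.Qe _ h3) (S.pee _ _ h3 h2), S.Qe _ h2]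
  have hw : ∀ v : Fin 6 → F, (POmega.wedge
      (Matrix.SpecialLinearGroup.transvection (show (0 : Fin 4) ≠ 3 by decide) (-1 : F)).1).mulVec v =
      v + ![v 4, v 5, 0, 0, 0, 0] := by
    intro v
    funext r
    rw [POmega.wedge_mulVec]
    fin_cases r <;>
      simp [Fin.sum_univ_six, POmega.pr₁, POmega.pr₂, Matrix.SpecialLinearGroup.transvection, Matrix.transvection,
        Matrix.single, Matrix.one_apply]
  simp only [wmap, LinearMap.add_apply, LinearMap.sub_apply, LinearMap.id_apply, LinearMap.comp_apply,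
    Matrix.mulVecLin_apply, hw, map_add]
  rw [emb_apply (v := ![_, _, _, _, _, _])]
  simp [coord_apply, polar_comm (f := ⇑Q) x]
  module

variable {V : Type*} [AddCommGroup V] [Module ℂ V] [FiniteDimensional ℂ V] (ρ : Representation ℂ (Om Q) V)

theorem plus_bottom (hdr : S.Drop ρ (n - 3)) :
    evf (Fintype.card F) 1 3 ≤ (S.dimE ρ (n - 3) : ℤ) + (0 : ℕ) := by
  classical
  have := S.hn
  set E := S.E ρ (n - 3) with hE
  set φ := S.slOm hez hfz hQe hQf hef with hφ
  set U := LinearMap.range E with hU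
  have hEE : E * E = E := S.E_idem ρ S.nd S.five (n - 3)
  have hcomm : ∀ M, ρ (φ M) * E = E * ρ (φ M) := fun M =>
    S.E_comm ρ S.nd S.five (by omega) (S.flag_slOm hez hfz hQe hQf hef M)
  have hfix : ∀ u ∈ U, E u = u := by
    rintro _ ⟨x, rfl⟩
    exact LinearMap.congr_fun hEE x
  have hinv : ∀ M, ∀ u ∈ U, ρ (φ M) u ∈ U := by
    rintro M _ ⟨x, rfl⟩
    exact ⟨ρ (φ M) x, (LinearMap.congr_fun (hcomm M) x).symm⟩
  let σ : Representation ℂ (Matrix.SpecialLinearGroup (Fin 4) F) U :=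
    { toFun := fun M => (ρ (φ M)).restrict (hinv M)
      map_one' := LinearMap.ext fun u => Subtype.ext (by simp)
      map_mul' := fun M N => LinearMap.ext fun u => Subtype.ext (by simp) }
  have hnt : ∃ M, σ M ≠ 1 := by
    obtain ⟨M, hM⟩ := S.exists_root hez hfz hQe hQf hef
    refine ⟨M, fun h1 => ?_⟩
    obtain ⟨hi, hd⟩ := hdr
    have hxe : S.T (n - 3) (S.xvec hi) = φ M := by
      rw [hφ, hM]
      show el Q (S.e (n - 3)) (S.e (n - 3 + 1)) = _
      rw [show n - 3 + 1 = n - 2 by omega]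
    have hxE : ρ (φ M) * E = E := LinearMap.ext fun x => by
      have h := congrArg Subtype.val (LinearMap.congr_fun h1 ⟨E x, LinearMap.mem_range_self E x⟩)
      exact h
    have htr : S.tr ρ (n - 3) (S.T (n - 3) (S.xvec hi)) = (S.dimE ρ (n - 3) : ℂ) := by
      rw [Hyp.tr, hxe, ← hE, hxE]
      exact SLMinDeg.trace_eq_finrank_range _ hEE
    rw [htr, sub_self] at hd
    exact pow_ne_zero _ (Nat.cast_ne_zero.mpr Fintype.card_ne_zero) hd.symm
  have hq := S.hq rfl
  have hb := SLMinDeg.nontrivial_bound (G := Matrix.SpecialLinearGroup (Fin 4) F)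
    (SLMinDeg.weilDeg (Fintype.card F) 4) (fun W _ _ _ τ hirr hW => by
      haveI := hirr
      refine SLMinDeg.degree_ge 4 (by norm_num) (by unfold SLMinDeg.Exceptional; simp; omega) W τ hirr ?_
      have h0 : 0 < Module.finrank ℂ W := by
        haveI := Characters.nontrivial_of_irreducible τ
        exact Module.finrank_pos
      by_contra hle
      obtain ⟨g, hg⟩ := hW
      exact hg (SLMinDeg.exception_free (Cfsg.Agent.Classical.sl_commutator_eq_top (by simp)) τ (by omega) g))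
    U σ hnt
  have e : (SLMinDeg.weilDeg (Fintype.card F) 4 : ℤ) = evf (Fintype.card F) 1 3 := by
    simp [SLMinDeg.weilDeg, evf, bsum, Finset.sum_range_succ, Finset.sum_Ico_succ_top]
    ring
  rw [← e, Nat.cast_zero, add_zero]
  exact_mod_cast hb

end EvenFrame

end CfsgLib.OrthDeg
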