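import Cfsg.Agent.Lib.OrthDeg.EPlus
import Cfsg.Agent.Lib.POmega.Forms
import Cfsg.Agent.Lib.CharBound.Irreducible

set_option autoImplicit false
set_option linter.unusedSimpArgs false

/-! The standard frame of plus type. -/

namespace CfsgLib.OrthDeg

open QuadraticMap CfsgLib.Orth

variable {F : Type*} [Field F]

/-- The standard hyperbolic system of plus type. -/
noncomputable def plusHyp (n : ℕ) : Hyp (plusQ n F) n where
  e i := if h : i < n then Pi.single (Sum.inl ⟨i, h⟩) 1 else 0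
  f i := if h : i < n then Pi.single (Sum.inr ⟨i, h⟩) 1 else 0
  Qe i hi := by simp [dif_pos hi, plusQ_coe, Cfsg.quadFormPlus, Pi.single_apply]
  Qf i hi := by simp [dif_pos hi, plusQ_coe, Cfsg.quadFormPlus, Pi.single_apply]
  pee i j hi hj := by simp [dif_pos hi, dif_pos hj, polar_plusQ, Pi.single_apply]
  pff i j hi hj := by simp [dif_pos hi, dif_pos hj, polar_plusQ, Pi.single_apply]
  pef i j hi hj := by
    simp [dif_pos hi, dif_pos hj, polar_plusQ, Pi.single_apply, Fin.ext_iff, eq_comm]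
    rw [Finset.sum_eq_single ⟨j, hj⟩]
    · simp
    · intro b _ hb
      rw [if_neg]
      exact fun h => hb (Fin.ext h.symm)
    · simp

theorem plusHyp_bottom (n : ℕ) (x : Fin n ⊕ Fin n → F) (hx : x ∈ (plusHyp n).W n) : x = 0 := funext fun p => by
  rcases p with i | i
  · have := (hx i i.2).2
    simpa [plusHyp, polar_plusQ, Pi.single_apply] using this
  · have := (hx i i.2).1
    simpa [plusHyp, polar_plusQ, Pi.single_apply] using this

variable [Fintype F]

theorem plusHyp_card_bottom (n : ℕ) :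
    Nat.card ((plusHyp (F := F) n).W n) = 1 ∧
      Nat.card {x : (plusHyp (F := F) n).W n // plusQ n F x.1 = 0} = 1 := by
  refine ⟨Nat.card_eq_one_iff_unique.mpr ⟨⟨fun a b => Subtype.ext ?_⟩, ⟨0⟩⟩,
    Nat.card_eq_one_iff_unique.mpr ⟨⟨fun a b => Subtype.ext (Subtype.ext ?_)⟩, ⟨⟨0, by simp⟩⟩⟩⟩
  · rw [plusHyp_bottom n a.1 a.2, plusHyp_bottom n b.1 b.2]
  · rw [plusHyp_bottom n a.1.1 a.1.2, plusHyp_bottom n b.1.1 b.1.2]

/-- The standard frame of plus type. -/
noncomputable def plusFrame (n : ℕ) (hn : 4 ≤ n) (hq : 3 < Fintype.card F) : EvenFrame (plusQ n F) n 1 where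
  e := (plusHyp n).e
  f := (plusHyp n).f
  Qe i hi := (plusHyp n).Qe i (by omega)
  Qf i hi := (plusHyp n).Qf i (by omega)
  pee i j hi hj := (plusHyp n).pee i j (by omega) (by omega)
  pff i j hi hj := (plusHyp n).pff i j (by omega) (by omega)
  pef i j hi hj := (plusHyp n).pef i j (by omega) (by omega)
  nd := plusQ_nondegenerate n
  hn := hn
  hι := by simp; omega
  hsign := Or.inl rfl
  hq _ := hq
  val c _ := ⟨(plusHyp n).e (n - 1) + c • (plusHyp n).f (n - 1),
    add_mem ((plusHyp n).e_mem_W le_rfl (by omega))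
      (Submodule.smul_mem _ c ((plusHyp n).f_mem_W le_rfl (by omega))), by
    simp [QuadraticMap.map_add ⇑(plusQ n F), QuadraticMap.map_smul, polar_smul_right,
      (plusHyp n).Qe (n - 1) (show n - 1 < n by omega), (plusHyp n).Qf (n - 1) (show n - 1 < n by omega),
      (plusHyp n).pef (n - 1) (n - 1) (show n - 1 < n by omega) (show n - 1 < n by omega)]⟩
  card_base := by
    show Nat.card ((plusHyp n).W (n - 1)) = _
    rw [(plusHyp n).card_W (i := n - 1) (by omega), show n - 1 + 1 = n by omega, (plusHyp_card_bottom n).1]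
    ring
  cone_base := by
    show (Nat.card {x : (plusHyp n).W (n - 1) // plusQ n F x.1 = 0} : ℤ) = _
    rw [(plusHyp n).card_value' (i := n - 1) (by omega) 0, show n - 1 + 1 = n by omega,
      (plusHyp_card_bottom n).1, (plusHyp_card_bottom n).2]
    push_cast [Nat.cast_sub (Fintype.card_pos (α := F))]
    ring

/-- Division form of the bound. -/
theorem bound_div {q k n A : ℕ} {ε : ℤ} (hq : 2 ≤ q) (hn : 1 ≤ n) (hε : ε = 1 ∨ ε = -1)
    (hA : (A : ℤ) = ((q : ℤ) ^ n - ε) * ((q : ℤ) ^ (n - 1) + ε * q)) (h : evf q ε n ≤ (k : ℤ)) :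
    A / (q ^ 2 - 1) ≤ k := by
  refine Nat.div_le_of_le_mul ?_
  have hq2 : 1 ≤ q ^ 2 := Nat.one_le_pow _ _ (by omega)
  have h1 : ((q : ℤ) * q - 1) * evf q ε n ≤ ((q : ℤ) * q - 1) * k := mul_le_mul_of_nonneg_left h (by
    have : (2 : ℤ) ≤ q := by exact_mod_cast hq
    nlinarith)
  rw [evf_mul_factor (by omega) hε hn, ← hA] at h1
  zify [hq2]
  rw [pow_two]
  exact h1

end CfsgLib.OrthDeg
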