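import Cfsg.Agent.Lib.OrthDeg.EFrame

set_option autoImplicit false
set_option linter.unusedSectionVars false
set_option linter.style.haveILetI false

/-!
A level whose drop is the smallest one has all its lines over one value; the long root element of the
next level fixes such lines trivially, so the drop passes on.
-/

namespace CfsgLib.OrthDeg

open QuadraticMap CfsgLib.Orth CfsgLib.KnownSimple.ModulePerm

variable {ι : Type} [Fintype ι] [DecidableEq ι] {F : Type*} [Field F] [Fintype F] [DecidableEq F]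
variable {Q : QuadraticForm F (ι → F)} {n : ℕ} {ε : ℤ} (S : EvenFrame Q n ε)
variable {V : Type*} [AddCommGroup V] [Module ℂ V] [FiniteDimensional ℂ V] (ρ : Representation ℂ (Om Q) V)

namespace EvenFrame

include S

/-- The layers of level `i` are the vectors of value `c`, each of dimension one. -/
def Single (i : ℕ) (c : F) : Prop :=
  ∀ b : S.W (i + 1), b ≠ 0 → S.rk ρ i b = if Q b.1 = c then 1 else 0

/-- The drop of the long root element of level `i` is the smallest possible. -/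
def Drop (i : ℕ) : Prop := ∃ hi : i + 1 < n - 1,
  (S.dimE ρ i : ℂ) - S.tr ρ i (S.T i (S.xvec hi)) = (Fintype.card F : ℂ) ^ (2 * (n - (i + 1)) - 1)

theorem single_of_drop {i : ℕ} (h : S.Drop ρ i) :
    ∃ c : F, S.Single ρ i c ∧ (3 < Fintype.card F → c = 0) := by
  classical
  obtain ⟨hi, h⟩ := h
  have h' := S.drop_eq ρ hi
  rw [h] at h'
  have hq0 : (Fintype.card F : ℂ) ^ (2 * (n - (i + 1)) - 1) ≠ 0 :=
    pow_ne_zero _ (Nat.cast_ne_zero.mpr Fintype.card_ne_zero)
  have hsum : ∑ c : F, S.rk ρ i (S.bstd hi c) = 1 := by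
    have : ((∑ c : F, S.rk ρ i (S.bstd hi c) : ℕ) : ℂ) = (1 : ℕ) := by
      apply mul_left_cancel₀ hq0
      rw [← h', Nat.cast_one, mul_one]
    exact_mod_cast this
  obtain ⟨c, hc⟩ : ∃ c : F, S.rk ρ i (S.bstd hi c) ≠ 0 := by
    by_contra hno
    push Not at hno
    rw [Finset.sum_eq_zero fun c _ => hno c] at hsum
    exact zero_ne_one hsum
  have hle : S.rk ρ i (S.bstd hi c) ≤ 1 := by
    refine le_of_le_of_eq ?_ hsum
    exact Finset.single_le_sum (f := fun x => S.rk ρ i (S.bstd hi x)) (fun x _ => Nat.zero_le _) (Finset.mem_univ c)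
  have hne : ∀ d : F, d ≠ c → S.rk ρ i (S.bstd hi d) = 0 := fun d hd => by
    have h2 := Finset.sum_le_sum_of_subset (f := fun x => S.rk ρ i (S.bstd hi x))
      (Finset.subset_univ ({d, c} : Finset F))
    rw [Finset.sum_pair hd, hsum] at h2
    omega
  refine ⟨c, fun b hb => ?_, fun hq => ?_⟩
  · rw [S.rk_eq ρ hi b hb]
    split_ifs with hQ
    · rw [hQ]; omega
    · exact hne _ hQ
  · by_contra hc0
    obtain ⟨t, ht0, ht1⟩ := exists_sq_ne_one hq
    have hne' : t * t * c ≠ c := fun h => ht1 (mul_right_cancel₀ hc0 (by rw [one_mul]; exact h))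
    have := hne _ hne'
    rw [S.rk_sq ρ hi c t ht0] at this
    exact hc this

theorem L_zero_of_rk {i : ℕ} (b : S.W (i + 1)) (h : S.rk ρ i b = 0) : S.L ρ i b = 0 :=
  LinearMap.range_eq_bot.mp (Submodule.finrank_eq_zero.mp h)

/-- The value class of a level, the zero vector removed. -/
theorem card_class_value {i : ℕ} (c : F) (P : S.W (i + 1) → Prop) [DecidablePred P] (h0 : P 0) :
    ((Finset.univ.erase (0 : S.W (i + 1))).filter fun b => Q b.1 = c ∧ P b).card + (if c = 0 then 1 else 0) =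
      Nat.card {b : S.W (i + 1) // Q b.1 = c ∧ P b} := by
  rw [Nat.card_eq_fintype_card, Fintype.card_subtype, Finset.filter_erase]
  split_ifs with hc
  · rw [Finset.card_erase_add_one]
    simp [hc, h0]
  · rw [add_zero, Finset.erase_eq_of_notMem]
    simp [h0, Ne.symm hc]

theorem dimE_layer {i : ℕ} (hi : i + 1 < n - 1) {c : F} (hp : S.Single ρ i c) :
    S.dimE ρ i + (if c = 0 then 1 else 0) = S.dimE ρ (i + 1) + Nat.card {b : S.W (i + 1) // Q b.1 = c} := by
  classical
  have h := S.card_class_value (i := i) c (fun _ => True) trivial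
  simp only [and_true] at h
  rw [S.dimE_eq_sum ρ S.nd S.five (by omega), S.dimE_succ ρ S.nd S.five (by omega),
    ← Finset.add_sum_erase Finset.univ _ (Finset.mem_univ (0 : S.W (i + 1))),
    Finset.sum_congr rfl (fun b hb => hp b (Finset.ne_of_mem_erase hb)), Finset.sum_boole, Nat.cast_id,
    add_assoc, h]

/-! ### Trivial action on a fixed line -/

/-- The elements fixing the flag up to level `i` and the vector `b`. -/
def Stab (i : ℕ) (b : S.W (i + 1)) (g : Om Q) : Prop :=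
  (∀ j, j ≤ i → ap g (S.e j) = S.e j) ∧ ap g b.1 = b.1

theorem stab_inv {i : ℕ} {b : S.W (i + 1)} {g : Om Q} (h : S.Stab i b g) : S.Stab i b g⁻¹ := by
  have key : ∀ x, ap g x = x → ap g⁻¹ x = x := fun x hx => by
    show app g.1⁻¹ x = x
    conv_lhs => rw [← hx]
    exact app_inv_app g.1 x
  exact ⟨fun j hj => key _ (h.1 j hj), key _ h.2⟩

theorem stab_scalar {i : ℕ} (hi : i < n - 1) {b : S.W (i + 1)} {g : Om Q} (hg : S.Stab i b g)
    (hrk : S.rk ρ i b = 1) :
    ρ g * S.L ρ i b = LinearMap.trace ℂ V (ρ g * S.L ρ i b) • S.L ρ i b := by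
  have hflag : S.Flag i g := fun j hj => ⟨1, by rw [one_smul, hg.1 j hj.le]⟩
  have hc : ap g (S.e i) = (1 : F) • S.e i := by rw [one_smul, hg.1 i le_rfl]
  have hb : S.bmap hi g 1 b = b := Subtype.ext (by
    show (1 : F)⁻¹ • S.pr (i + 1) (ap g b.1) = b.1
    rw [hg.2, S.pr_eq_self b.2, inv_one, one_smul])
  have h := S.L_move ρ S.nd S.five hi hflag hc b
  rw [hb] at h
  exact SLMinDeg.mul_eq_trace_smul _ _ (S.L_idem ρ S.nd S.five hi b)
    (by rw [← S.rk_eq_trace ρ S.nd S.five hi, hrk, Nat.cast_one]) h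

/-- Commutators in the stabiliser fix the line pointwise. -/
theorem one_of_comm {i : ℕ} (hi : i < n - 1) {b : S.W (i + 1)} {g y x : Om Q} (hg : S.Stab i b g)
    (hy : S.Stab i b y) (e : y * x = g * y * g⁻¹) (hrk : S.rk ρ i b = 1) :
    LinearMap.trace ℂ V (ρ x * S.L ρ i b) = 1 := by
  set L := S.L ρ i b
  set sg := LinearMap.trace ℂ V (ρ g * L)
  set sg' := LinearMap.trace ℂ V (ρ g⁻¹ * L)
  set sy := LinearMap.trace ℂ V (ρ y * L)
  set sy' := LinearMap.trace ℂ V (ρ y⁻¹ * L)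
  have e1 : ρ g * L = sg • L := S.stab_scalar ρ hi hg hrk
  have e1' : ρ g⁻¹ * L = sg' • L := S.stab_scalar ρ hi (S.stab_inv hg) hrk
  have e2 : ρ y * L = sy • L := S.stab_scalar ρ hi hy hrk
  have e2' : ρ y⁻¹ * L = sy' • L := S.stab_scalar ρ hi (S.stab_inv hy) hrk
  have htr : LinearMap.trace ℂ V L = 1 := by rw [← S.rk_eq_trace ρ S.nd S.five hi, hrk, Nat.cast_one]
  have hL : L ≠ 0 := fun h => by rw [h, map_zero] at htr; exact zero_ne_one htr
  have hone : ∀ (z : Om Q) (a a' : ℂ), ρ z * L = a • L → ρ z⁻¹ * L = a' • L → a' * a = 1 := fun z a a' h h' => by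
    refine smul_left_injective ℂ hL ?_
    show (a' * a) • L = (1 : ℂ) • L
    rw [one_smul, mul_comm, ← smul_smul, ← h', ← mul_smul_comm, ← h, ← mul_assoc, ← map_mul, inv_mul_cancel,
      map_one, one_mul]
  have h3 : ρ x * L = L := by
    have : x = y⁻¹ * (g * y * g⁻¹) := by rw [← e, inv_mul_cancel_left]
    simp only [this, map_mul, mul_assoc, e1', e2, e1, e2', mul_smul_comm, smul_smul]
    rw [show sg' * (sy * (sg * sy')) = (sg' * sg) * (sy' * sy) by ring, hone g sg sg' e1 e1', hone y sy sy' e2 e2',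
      one_mul, one_smul]
  rw [h3, htr]

theorem el_fix {u a x : ι → F} (hu : Q u = 0) (ha : polar Q u a = 0) (h1 : polar Q x u = 0) (h2 : polar Q x a = 0) :
    ap (el Q u a) x = x := by
  rw [ap_el S.nd S.five hu ha, h1, h2]; simp

theorem stab_el {i : ℕ} (hi : i < n - 1) {b : S.W (i + 1)} {u a : S.W (i + 1)} (hu : Q u.1 = 0)
    (ha : polar Q u.1 a.1 = 0) (h1 : polar Q b.1 u.1 = 0) (h2 : polar Q b.1 a.1 = 0) :
    S.Stab i b (el Q u.1 a.1) :=
  ⟨fun j hj => S.el_fix hu ha (S.perp_e (by omega) u.2).1 (S.perp_e (by omega) a.2).1,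
    S.el_fix hu ha h1 h2⟩

theorem translation {i : ℕ} (hi : i < n - 1) (b u a a0 w : S.W (i + 1)) (hrk : S.rk ρ i b = 1)
    (hu : Q u.1 = 0) (ha : Q a.1 = 0) (hua : polar Q u.1 a.1 = 0) (hbu : polar Q b.1 u.1 = 0)
    (hba : polar Q b.1 a.1 = 0) (hu0 : polar Q u.1 a0.1 = 0) (ha0 : polar Q a.1 a0.1 = 0)
    (hb0 : polar Q b.1 a0.1 = 0) (huw : polar Q u.1 w.1 = 0) (haw : polar Q a.1 w.1 = 0)
    (hbw : polar Q b.1 w.1 = 0) (hne : polar Q a0.1 w.1 ≠ 0) :
    LinearMap.trace ℂ V (ρ (el Q u.1 a.1) * S.L ρ i b) = 1 := by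
  have hQ := S.nd
  have h5 := S.five
  set t := -(polar Q a0.1 w.1)⁻¹ with ht
  have hw' : polar Q a.1 (t • w.1) = 0 := by rw [polar_smul_right, haw, smul_zero]
  refine S.one_of_comm ρ hi (g := el Q a.1 (t • w).1) (y := el Q u.1 a0.1)
    (S.stab_el hi ha hw' hba (by show polar Q b.1 (t • w.1) = 0; rw [polar_smul_right, hbw, smul_zero]))
    (S.stab_el hi hu hu0 hbu hb0) ?_ hrk
  show _ = el Q a.1 (t • w.1) * el Q u.1 a0.1 * (el Q a.1 (t • w.1))⁻¹
  rw [el_conj hQ h5 hu hu0, S.el_fix ha hw' hua (by rw [polar_smul_right, huw, smul_zero]),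
    el_add hQ h5 hu hu0 hua]
  congr 1
  rw [ap_el hQ h5 ha hw', polar_comm (f := ⇑Q) a0.1 a.1, ha0, polar_smul_right, ht, smul_eq_mul, neg_mul,
    inv_mul_cancel₀ hne]
  simp

theorem scaling {i : ℕ} (hi : i < n - 1) (hq : 3 < Fintype.card F) (v : Fin 3 → S.W (i + 1))
    (hl : LinearIndependent F fun k => (v k).1) (hz : ∀ k l, polar Q (v k).1 (v l).1 = 0)
    (hQv : ∀ k, Q (v k).1 = 0) (hrk : S.rk ρ i (v 0) = 1) :
    LinearMap.trace ℂ V (ρ (el Q (v 1).1 (v 2).1) * S.L ρ i (v 0)) = 1 := by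
  have hQn := S.nd
  have h5 := S.five
  obtain ⟨c, hc0, hc1⟩ := exists_sq_ne_one hq
  let w : Fin 3 → F := ![1, 1, c]
  have hw : ∀ k, w k ≠ 0 := fun k => by fin_cases k <;> simp [w, hc0]
  have hfe : polar Q (S.f i) (S.e i) = 1 := by rw [S.pfe (i := i) (j := i) hi hi, if_pos rfl]
  have hli : ∀ z : Fin 3 → F, (∀ k, z k ≠ 0) →
      LinearIndependent F (fun o : Option (Fin 3) => o.elim (S.e i) fun k => z k • (v k).1) := by
    intro z hz'
    rw [Fintype.linearIndependent_iff]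
    intro g hg
    rw [Fintype.sum_option] at hg
    have h1 := congrArg (fun y => Q.polarBilin (S.f i) y) hg
    simp only [map_add, map_sum, map_smul, map_zero] at h1
    have h0 : ∀ k, Q.polarBilin (S.f i) (z k • (v k).1) = 0 := fun k => by
      rw [map_smul]; exact smul_eq_zero_of_right _ (S.perp_f (Nat.lt_succ_self i) (v k).2).1
    have hg0 : g none = 0 := by
      simpa [h0, polar_smul_right, (S.perp_f (Nat.lt_succ_self i) (v _).2).1, hfe] using h1
    rw [hg0, zero_smul, zero_add] at hg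
    have h2 := Fintype.linearIndependent_iff.mp hl (fun k => g (some k) * z k) (by
      simpa [smul_smul] using hg)
    rintro (_ | k)
    · exact hg0
    · exact (mul_eq_zero.mp (h2 k)).resolve_right (hz' k)
  have hmem : ∀ z : Fin 3 → F, ∀ o : Option (Fin 3), (o.elim (S.e i) fun k => z k • (v k).1) ∈ S.W i := by
    rintro z (_ | k)
    · exact S.e_mem_W le_rfl hi
    · exact (S.W i).smul_mem _ (S.W_anti (Nat.le_succ i) (v k).2)
  obtain ⟨g0, hg0e, hg0v⟩ := S.toHyp.flag_map hQn (show i ≤ n - 1 by omega)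
    (fun o : Option (Fin 3) => o.elim (S.e i) fun k => (1 : F) • (v k).1)
    (fun o : Option (Fin 3) => o.elim (S.e i) fun k => w k • (v k).1)
    (hmem fun _ => 1) (hmem w) (hli _ fun _ => one_ne_zero) (hli w hw)
    (by rintro (_ | k) <;> simp [QuadraticMap.map_smul, hQv])
    (by
      rintro (_ | k) (_ | l) <;>
        simp [polar_smul_left, polar_smul_right, hz, (S.perp_e (Nat.lt_succ_self i) (v _).2).1,
          (S.perp_e (Nat.lt_succ_self i) (v _).2).2])
  let g : Om Q := ⟨g0 * g0, S.sq_mem g0⟩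
  have hg2 : ∀ k, ap g (v k).1 = (w k * w k) • (v k).1 := fun k => by
    have h := hg0v (some k)
    simp only [Option.elim, one_smul] at h
    show app (g0 * g0) _ = _
    rw [app_mul, h, map_smul, h, smul_smul]
  have hgs : S.Stab i (v 0) g := by
    refine ⟨fun j hj => ?_, by rw [hg2]; simp [w]⟩
    show app (g0 * g0) _ = _
    rcases Nat.lt_or_eq_of_le hj with hj | rfl
    · rw [app_mul, hg0e j hj, hg0e j hj]
    · have h := hg0v none
      simp only [Option.elim] at h
      rw [app_mul, h, h]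
  set t := (c * c - 1)⁻¹ with ht
  refine S.one_of_comm ρ hi hgs (y := el Q (v 1).1 (t • v 2).1)
    (S.stab_el hi (hQv 1) (by show polar Q (v 1).1 (t • (v 2).1) = 0; rw [polar_smul_right, hz, smul_zero])
      (hz 0 1) (by show polar Q (v 0).1 (t • (v 2).1) = 0; rw [polar_smul_right, hz, smul_zero])) ?_ hrk
  have hp : ∀ s : F, polar Q (v 1).1 (s • (v 2).1) = 0 := fun s => by rw [polar_smul_right, hz, smul_zero]
  show el Q (v 1).1 (t • (v 2).1) * _ = g * el Q (v 1).1 (t • (v 2).1) * g⁻¹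
  rw [el_conj hQn h5 (hQv 1) (hp t), map_smul, hg2, hg2, el_add hQn h5 (hQv 1) (hp t) (hz 1 2), smul_smul]
  have hne : c * c - 1 ≠ 0 := sub_ne_zero.mpr hc1
  congr 1
  · simp [w]
  · simp only [w, Matrix.cons_val]
    conv_lhs => arg 2; rw [← one_smul F (v 2).1]
    rw [← add_smul]
    congr 1
    rw [ht]
    linear_combination -(mul_inv_cancel₀ hne)

theorem finrank_W {j : ℕ} (hj : j ≤ n - 1) : Module.finrank F (S.W j) = 2 * (n - j) := by
  have h := Module.natCard_eq_pow_finrank (K := F) (V := S.W j)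
  rw [S.card_W hj, ← Nat.card_eq_fintype_card] at h
  exact (Nat.pow_right_injective (by rw [Nat.card_eq_fintype_card]; exact Fintype.one_lt_card) h).symm

/-- The vectors of a level orthogonal to given ones. -/
noncomputable def perpT {i k : ℕ} (v : Fin k → S.W (i + 1)) : Submodule F (S.W (i + 1)) :=
  LinearMap.ker (LinearMap.pi fun l => S.bil i (v l))

theorem mem_perpT {i k : ℕ} {v : Fin k → S.W (i + 1)} {x : S.W (i + 1)} :
    x ∈ S.perpT v ↔ ∀ l, polar Q (v l).1 x.1 = 0 := by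
  rw [perpT, LinearMap.mem_ker]
  exact ⟨fun h l => congrFun h l, fun h => funext h⟩

theorem finrank_perpT {i k : ℕ} (hi : i + 1 ≤ n - 1) (v : Fin k → S.W (i + 1)) :
    2 * (n - (i + 1)) ≤ Module.finrank F (S.perpT v) + k := by
  have h := LinearMap.finrank_range_add_finrank_ker (LinearMap.pi fun l => S.bil i (v l))
  have h' := Submodule.finrank_le (LinearMap.range (LinearMap.pi fun l => S.bil i (v l)))
  rw [Module.finrank_fin_fun] at h'
  have e : Module.finrank F (S.W (i + 1)) = _ := S.finrank_W hi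
  rw [perpT]
  omega

theorem exists_moving {i k : ℕ} (hi : i + 1 ≤ n - 1) (v : Fin k → S.W (i + 1)) (hk : k < n - (i + 1)) :
    ∃ a0 w : S.W (i + 1), (∀ l, polar Q (v l).1 a0.1 = 0) ∧ (∀ l, polar Q (v l).1 w.1 = 0) ∧
      polar Q a0.1 w.1 ≠ 0 := by
  by_contra hno
  push Not at hno
  have hnd : LinearMap.BilinForm.Nondegenerate (S.bil i) :=
    ⟨fun a ha => S.toHyp.bil_nd S.nd S.five (by omega) a fun b => by rw [S.toHyp.bil_symm i]; exact ha b,
      fun a ha => S.toHyp.bil_nd S.nd S.five (by omega) a ha⟩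
  have hle : S.perpT v ≤ LinearMap.BilinForm.orthogonal (S.bil i) (S.perpT v) := fun x hx =>
    LinearMap.BilinForm.mem_orthogonal_iff.2 fun y hy => hno y x (S.mem_perpT.mp hy) (S.mem_perpT.mp hx)
  have h1 := Submodule.finrank_mono hle
  rw [LinearMap.BilinForm.finrank_orthogonal hnd, S.finrank_W hi] at h1
  have h2 := S.finrank_perpT hi v
  omega

theorem fixed_count {i : ℕ} (hi : i + 2 < n - 1) (c : F) :
    Nat.card {b : S.W (i + 1) // Q b.1 = c ∧ polar Q (S.e (i + 1)) b.1 = 0 ∧ polar Q (S.e (i + 2)) b.1 = 0} =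
      Fintype.card F * (Fintype.card F * Nat.card {w : S.W (i + 3) // Q w.1 = c}) := by
  classical
  have step : ∀ j, j < n - 1 → ∀ P : (ι → F) → Prop,
      Nat.card {x : S.W j // polar Q (S.e j) x.1 = 0 ∧ P (S.pr (j + 1) x.1)} =
        Fintype.card F * Nat.card {w : S.W (j + 1) // P w.1} := by
    intro j hj P
    rw [← Nat.card_eq_fintype_card (α := F), ← Nat.card_prod]
    refine Nat.card_congr
      { toFun := fun x => (polar Q (S.f j) x.1.1, ⟨(S.toHyp.splitEquiv hj x.1).2.2, x.2.2⟩)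
        invFun := fun p => ⟨(S.toHyp.splitEquiv hj).symm (p.1, 0, p.2.1), ⟨(S.toHyp.polar_split hj _ _ p.2.1.2).2, by
          have h := (S.toHyp.splitEquiv hj).apply_symm_apply (p.1, 0, p.2.1)
          have h' : S.pr (j + 1) ((S.toHyp.splitEquiv hj).symm (p.1, 0, p.2.1)).1 = p.2.1.1 :=
            congrArg (fun z => z.2.2.1) h
          rw [h']
          exact p.2.2⟩⟩
        left_inv := fun x => Subtype.ext ?_
        right_inv := fun p => ?_ }
    · refine Eq.trans ?_ ((S.toHyp.splitEquiv hj).symm_apply_apply x.1)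
      refine congrArg (S.toHyp.splitEquiv hj).symm (Prod.ext rfl (Prod.ext ?_ rfl))
      exact x.2.1.symm
    · have h := (S.toHyp.splitEquiv hj).apply_symm_apply (p.1, 0, p.2.1)
      refine Prod.ext ?_ (Subtype.ext ?_)
      · exact congrArg (fun z => z.1) h
      · exact congrArg (fun z => z.2.2) h
  have key : ∀ (j : ℕ), j < n - 1 → ∀ x ∈ S.W j, polar Q (S.e j) x = 0 →
      Q (S.pr (j + 1) x) = Q x ∧ ∀ l, j < l → l < n - 1 → polar Q (S.e l) (S.pr (j + 1) x) = polar Q (S.e l) x := by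
    intro j hj x hx h0
    have hp := S.toHyp.pr_perp (k := j + 1) hj x fun l hl => by
      rcases Nat.lt_succ_iff_lt_or_eq.mp hl with h | rfl
      exacts [(S.perp_e h hx).1, h0]
    exact ⟨hp.2.1, fun l _ hl => hp.2.2 l hl⟩
  have e1 : Nat.card {b : S.W (i + 1) // Q b.1 = c ∧ polar Q (S.e (i + 1)) b.1 = 0 ∧ polar Q (S.e (i + 2)) b.1 = 0} =
      Nat.card {x : S.W (i + 1) // polar Q (S.e (i + 1)) x.1 = 0 ∧
        (fun y => Q y = c ∧ polar Q (S.e (i + 2)) y = 0) (S.pr (i + 1 + 1) x.1)} :=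
    Nat.card_congr (Equiv.subtypeEquivRight fun x => by
      constructor
      · rintro ⟨h1, h2, h3⟩
        obtain ⟨k1, k2⟩ := key _ (by omega) x.1 x.2 h2
        exact ⟨h2, k1.trans h1, (k2 _ (by omega) hi).trans h3⟩
      · rintro ⟨h2, h1, h3⟩
        obtain ⟨k1, k2⟩ := key _ (by omega) x.1 x.2 h2
        exact ⟨k1.symm.trans h1, h2, (k2 _ (by omega) hi).symm.trans h3⟩)
  have e2 : Nat.card {w : S.W (i + 1 + 1) // (fun y => Q y = c ∧ polar Q (S.e (i + 2)) y = 0) w.1} =
      Nat.card {x : S.W (i + 2) // polar Q (S.e (i + 2)) x.1 = 0 ∧ (fun y => Q y = c) (S.pr (i + 2 + 1) x.1)} :=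
    Nat.card_congr (Equiv.subtypeEquivRight fun x => by
      constructor
      · rintro ⟨h1, h2⟩
        exact ⟨h2, (key (i + 2) hi x.1 x.2 h2).1.trans h1⟩
      · rintro ⟨h2, h1⟩
        exact ⟨(key (i + 2) hi x.1 x.2 h2).1.symm.trans h1, h2⟩)
  rw [e1, step (i + 1) (by omega) (fun y => Q y = c ∧ polar Q (S.e (i + 2)) y = 0), e2,
    step (i + 2) hi (fun y => Q y = c)]

theorem fixed_one {i : ℕ} (hi : i + 2 < n - 1) {c : F} (b : S.W (i + 1)) (hrk : S.rk ρ i b = 1)
    (hQb : Q b.1 = c) (h1 : polar Q (S.e (i + 1)) b.1 = 0) (h2 : polar Q (S.e (i + 2)) b.1 = 0)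
    (hcase : 4 ≤ n - (i + 1) ∨ c = 0 ∨ ((2 : F) ≠ 0 ∧ ε = -1)) :
    LinearMap.trace ℂ V (ρ (el Q (S.e (i + 1)) (S.e (i + 2))) * S.L ρ i b) = 1 := by
  classical
  have hi1 : i + 1 < n - 1 := by omega
  let u : S.W (i + 1) := S.xvec hi1
  let a : S.W (i + 1) := ⟨S.e (i + 2), S.e_mem_W (by omega) hi⟩
  have hu : Q u.1 = 0 := S.Qe _ hi1
  have ha : Q a.1 = 0 := S.Qe _ hi
  have hua : polar Q u.1 a.1 = 0 := S.pee _ _ hi1 hi
  have hau : polar Q a.1 u.1 = 0 := S.pee _ _ hi hi1
  have hu2 : polar Q u.1 u.1 = 0 := S.pee _ _ hi1 hi1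
  have ha2 : polar Q a.1 a.1 = 0 := S.pee _ _ hi hi
  have hbu : polar Q b.1 u.1 = 0 := by rw [polar_comm]; exact h1
  have hba : polar Q b.1 a.1 = 0 := by rw [polar_comm]; exact h2
  show LinearMap.trace ℂ V (ρ (el Q u.1 a.1) * S.L ρ i b) = 1
  by_cases h4 : 4 ≤ n - (i + 1)
  · obtain ⟨a0, w, k0, kw, hne⟩ := S.exists_moving hi1.le ![u, a, b] (by omega)
    exact S.translation ρ (by omega) b u a a0 w hrk hu ha hua hbu hba (k0 0) (k0 1) (k0 2) (kw 0) (kw 1) (kw 2) hne
  have hm : n - (i + 1) = 3 := by omega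
  have hfu : polar Q (S.f (i + 1)) u.1 = 1 := by
    show polar Q (S.f (i + 1)) (S.e (i + 1)) = 1
    simp [S.pfe (i := i + 1) (j := i + 1) hi1 hi1]
  have hfa : polar Q (S.f (i + 1)) a.1 = 0 := by
    show polar Q (S.f (i + 1)) (S.e (i + 2)) = 0
    simp [S.pfe (i := i + 1) (j := i + 2) hi1 hi]
  have hga : polar Q (S.f (i + 2)) a.1 = 1 := by
    show polar Q (S.f (i + 2)) (S.e (i + 2)) = 1
    simp [S.pfe (i := i + 2) (j := i + 2) hi hi]
  have hliua : LinearIndependent F ![u.1, a.1] := Hyp.li_pair (fun h => by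
      rw [h, polar_zero_right] at hga; exact zero_ne_one hga) (φ := Q.polarBilin (S.f (i + 1)))
    (by show polar Q (S.f (i + 1)) u.1 ≠ 0; rw [hfu]; exact one_ne_zero) hfa
  by_cases hspan : b.1 ∈ Submodule.span F {u.1, a.1}
  · obtain ⟨p, q, hpq⟩ := Submodule.mem_span_pair.mp hspan
    obtain ⟨a0, w, k0, kw, hne⟩ := S.exists_moving hi1.le ![u, a] (by omega)
    have hperp : ∀ x : ι → F, polar Q u.1 x = 0 → polar Q a.1 x = 0 → polar Q b.1 x = 0 := fun x e1 e2 => by
      rw [← hpq, polar_add_left, polar_smul_left, polar_smul_left, e1, e2]; simp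
    exact S.translation ρ (by omega) b u a a0 w hrk hu ha hua hbu hba (k0 0) (k0 1) (hperp _ (k0 0) (k0 1))
      (kw 0) (kw 1) (hperp _ (kw 0) (kw 1)) hne
  have hcase' : c = 0 ∨ ((2 : F) ≠ 0 ∧ ε = -1) := hcase.resolve_left h4
  rcases S.hsign with hε | hε
  · have hc : c = 0 := hcase'.resolve_right fun h => by have := h.2; omega
    have hq := S.hq hε
    have hQb0 : Q b.1 = 0 := hQb.trans hc
    have hb2 : polar Q b.1 b.1 = 0 := by rw [polar_self', hQb0, mul_zero]
    have hv : (fun l => (![b, u, a] l).1) = ![b.1, u.1, a.1] := by funext l; fin_cases l <;> rfl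
    have hl3 : LinearIndependent F ![b.1, u.1, a.1] := by
      refine linearIndependent_finCons.mpr ⟨hliua, ?_⟩
      rwa [Matrix.range_cons, Matrix.range_cons, Matrix.range_empty, Set.union_empty, Set.singleton_union]
    exact S.scaling ρ (by omega) hq ![b, u, a] (by rw [hv]; exact hl3)
      (by intro l l'; fin_cases l <;> fin_cases l'; exacts [hb2, hbu, hba, h1, hu2, hua, h2, hau, ha2])
      (by intro l; fin_cases l; exacts [hQb0, hu, ha]) hrk
  -- minus type: the fixed cone is the span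
  have hcount := S.fixed_count hi (0 : F)
  rw [show i + 3 = n - 1 by omega] at hcount
  have hbase : Nat.card {w : S.W (n - 1) // Q w.1 = 0} = 1 := by
    subst hε
    have := S.cone_base
    omega
  rw [hbase, mul_one] at hcount
  set X := {x : S.W (i + 1) // Q x.1 = 0 ∧ polar Q (S.e (i + 1)) x.1 = 0 ∧ polar Q (S.e (i + 2)) x.1 = 0}
  by_cases h2c : (2 : F) = 0
  · have hc : c = 0 := hcase'.resolve_right fun h => h.1 h2c
    exfalso
    let φ : Option (F × F) → X := fun o => o.elim ⟨b, hQb.trans hc, h1, h2⟩ fun p => ⟨p.1 • u + p.2 • a, by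
      refine ⟨?_, ?_, ?_⟩
      · show Q (p.1 • u.1 + p.2 • a.1) = 0
        simp [QuadraticMap.map_add ⇑Q, QuadraticMap.map_smul, polar_smul_left, polar_smul_right, hu, ha, hua]
      · show polar Q u.1 (p.1 • u.1 + p.2 • a.1) = 0
        simp [polar_add_right, polar_smul_right, hu2, hua]
      · show polar Q a.1 (p.1 • u.1 + p.2 • a.1) = 0
        simp [polar_add_right, polar_smul_right, hau, ha2]⟩
    have hφ : Function.Injective φ := by
      rintro (_ | p) (_ | p') h
      · rfl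
      · exact absurd (Submodule.mem_span_pair.mpr ⟨p'.1, p'.2, (congrArg (fun x : X => x.1.1) h).symm⟩) hspan
      · exact absurd (Submodule.mem_span_pair.mpr ⟨p.1, p.2, congrArg (fun x : X => x.1.1) h⟩) hspan
      · have h' : p.1 • u.1 + p.2 • a.1 = p'.1 • u.1 + p'.2 • a.1 := congrArg (fun x : X => x.1.1) h
        obtain ⟨r1, r2⟩ := LinearIndependent.pair_iff.mp hliua (p.1 - p'.1) (p.2 - p'.2)
          (by linear_combination (norm := module) h')
        rw [sub_eq_zero] at r1 r2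
        exact congrArg some (Prod.ext r1 r2)
    have := Nat.card_le_card_of_injective φ hφ
    rw [hcount, Nat.card_eq_fintype_card, Fintype.card_option, Fintype.card_prod] at this
    omega
  · by_contra htr
    have hiso : ∀ x y : S.W (i + 1), (∀ l, polar Q ((![u, a, b] : Fin 3 → S.W (i + 1)) l).1 x.1 = 0) →
        (∀ l, polar Q ((![u, a, b] : Fin 3 → S.W (i + 1)) l).1 y.1 = 0) → polar Q x.1 y.1 = 0 := by
      intro x y kx ky
      by_contra hne
      exact htr (S.translation ρ (by omega) b u a x y hrk hu ha hua hbu hba (kx 0) (kx 1) (kx 2) (ky 0) (ky 1)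
        (ky 2) hne)
    have hsub : ∀ x : S.perpT ![u, a, b], Q x.1.1 = 0 ∧ polar Q (S.e (i + 1)) x.1.1 = 0 ∧
        polar Q (S.e (i + 2)) x.1.1 = 0 := fun x => by
      have k := S.mem_perpT.mp x.2
      refine ⟨?_, k 0, k 1⟩
      have h := hiso x.1 x.1 k k
      rw [polar_self'] at h
      exact (mul_eq_zero.mp h).resolve_left h2c
    have hle := Nat.card_le_card_of_injective
      (fun x : S.perpT ![u, a, b] => (⟨x.1, hsub x⟩ : X))
      (fun x y h => Subtype.ext (congrArg (fun z : X => z.1) h))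
    rw [hcount, Module.natCard_eq_pow_finrank (K := F), Nat.card_eq_fintype_card] at hle
    have h3 := S.finrank_perpT hi1.le ![u, a, b]
    have h4' : Fintype.card F ^ 3 ≤ Fintype.card F * Fintype.card F :=
      le_trans (Nat.pow_le_pow_right Fintype.card_pos (by omega)) hle
    have h5 : 2 ≤ Fintype.card F := Fintype.one_lt_card
    rw [pow_succ, pow_two] at h4'
    have h6 := Nat.mul_le_mul_left (Fintype.card F * Fintype.card F) h5
    have h7 := Nat.mul_pos (Fintype.card_pos (α := F)) (Fintype.card_pos (α := F))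
    omega

theorem tr_conj {i : ℕ} (hi : i ≤ n - 1) {g : Om Q} (hg : S.Flag i g) (x : Om Q) :
    S.tr ρ i (g * x * g⁻¹) = S.tr ρ i x := by
  have h := S.toHyp.E_comm ρ S.nd S.five hi hg
  have h' : ρ g⁻¹ * S.E ρ i = S.E ρ i * ρ g⁻¹ := by
    calc ρ g⁻¹ * S.E ρ i = ρ g⁻¹ * (S.E ρ i * ρ g) * ρ g⁻¹ := by
          rw [mul_assoc (ρ g⁻¹), mul_assoc, ← map_mul, mul_inv_cancel, map_one, mul_one]
      _ = S.E ρ i * ρ g⁻¹ := by rw [← h, ← mul_assoc, ← map_mul, inv_mul_cancel, map_one, one_mul]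
  rw [Hyp.tr, Hyp.tr, map_mul ρ, map_mul ρ, mul_assoc, h', ← mul_assoc, LinearMap.trace_mul_comm, ← mul_assoc,
    ← mul_assoc, ← map_mul ρ, inv_mul_cancel, map_one ρ, one_mul]

/-- The drop passes to the next level. -/
theorem drop_succ {i : ℕ} (hi : i + 2 < n - 1) (h : S.Drop ρ i) {c : F} (hp : S.Single ρ i c)
    (hcase : 4 ≤ n - (i + 1) ∨ c = 0 ∨ ((2 : F) ≠ 0 ∧ ε = -1)) : S.Drop ρ (i + 1) := by
  classical
  obtain ⟨hi1, h⟩ := h
  refine ⟨hi, ?_⟩
  have hQn := S.nd
  have hfive := S.five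
  have him : i < n - 1 := by omega
  set x' := S.T (i + 1) (S.xvec hi) with hx'
  -- conjugate long root elements
  have hconj : S.tr ρ i x' = S.tr ρ i (S.T i (S.xvec hi1)) := by
    obtain ⟨g, hgf, hg, -⟩ := S.exists_flag (i := i) (by omega)
      ![S.e i, S.e (i + 1)] ![S.e (i + 1), S.e (i + 2)]
      (by intro l; fin_cases l <;> exact S.e_mem_W (by omega) (by omega))
      (by intro l; fin_cases l <;> exact S.e_mem_W (by omega) (by omega))
      (Hyp.li_pair (S.toHyp.e_ne hQn (by omega)) (φ := Q.polarBilin (S.f i))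
        (by show polar Q (S.f i) (S.e i) ≠ 0; simp [S.pfe (i := i) (j := i) him him])
        (by show polar Q (S.f i) (S.e (i + 1)) = 0; simp [S.pfe (i := i) (j := i + 1) him hi1]))
      (Hyp.li_pair (S.toHyp.e_ne hQn hi) (φ := Q.polarBilin (S.f (i + 1)))
        (by show polar Q (S.f (i + 1)) (S.e (i + 1)) ≠ 0; simp [S.pfe (i := i + 1) (j := i + 1) hi1 hi1])
        (by show polar Q (S.f (i + 1)) (S.e (i + 2)) = 0; simp [S.pfe (i := i + 1) (j := i + 2) hi1 hi]))
      (by intro l; fin_cases l <;> simp [S.Qe i him, S.Qe (i + 1) hi1, S.Qe (i + 2) hi])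
      (by intro l l'; fin_cases l <;> fin_cases l' <;>
            simp [S.pee i i him him, S.pee i (i + 1) him hi1, S.pee (i + 1) i hi1 him,
              S.pee (i + 1) (i + 1) hi1 hi1, S.pee (i + 1) (i + 2) hi1 hi, S.pee (i + 2) (i + 1) hi hi1,
              S.pee (i + 2) (i + 2) hi hi])
      (by intro l y hy; fin_cases l <;> exact S.e_perp_base (by omega) y hy)
    rw [← S.tr_conj ρ him.le hgf (S.T i (S.xvec hi1)), Hyp.T,
      el_conj hQn hfive (S.Qe i him) (show polar Q (S.e i) (S.xvec hi1).1 = 0 from S.pee i (i + 1) him hi1), show ap g (S.e i) = S.e (i + 1) from hg 0,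
      show ap g (S.xvec hi1).1 = S.e (i + 2) from hg 1]
    rfl
  have hflag : S.Flag i x' := fun j hj => ⟨1, by
    rw [one_smul, hx', S.toHyp.ap_T_e hQn hfive hi1 _ (by omega)]⟩
  have hce : ap x' (S.e i) = (1 : F) • S.e i := by
    rw [one_smul, hx', S.toHyp.ap_T_e hQn hfive hi1 _ (by omega)]
  have hxb : ∀ b : S.W (i + 1), (S.bmap him x' 1 b).1 =
      b.1 + polar Q b.1 (S.e (i + 1)) • S.e (i + 2) - polar Q b.1 (S.e (i + 2)) • S.e (i + 1) := by
    intro b
    have hap : ap x' b.1 = b.1 + polar Q b.1 (S.e (i + 1)) • S.e (i + 2) - polar Q b.1 (S.e (i + 2)) • S.e (i + 1) := by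
      rw [hx', Hyp.T, show (S.xvec hi).1 = S.e (i + 2) from rfl, ap_el hQn hfive (S.Qe _ hi1) (S.pee _ _ hi1 hi)]
      show _ + _ • S.e (i + 2) + (-polar Q b.1 (S.e (i + 2)) - Q (S.e (i + 2)) * _) • _ = _
      rw [S.Qe _ hi, zero_mul, sub_zero, neg_smul, ← sub_eq_add_neg]
    show (1 : F)⁻¹ • S.pr (i + 1) (ap x' b.1) = _
    rw [hap, inv_one, one_smul, S.pr_eq_self]
    exact sub_mem (add_mem b.2 ((S.W _).smul_mem _ (S.e_mem_W (by omega) hi)))
      ((S.W _).smul_mem _ (S.e_mem_W le_rfl hi1))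
  have hterm : ∀ b : S.W (i + 1), b ≠ 0 → LinearMap.trace ℂ V (ρ x' * S.L ρ i b) =
      if Q b.1 = c ∧ polar Q (S.e (i + 1)) b.1 = 0 ∧ polar Q (S.e (i + 2)) b.1 = 0 then 1 else 0 := by
    intro b hb
    split_ifs with hc
    · exact S.fixed_one ρ hi b (by rw [hp b hb, if_pos hc.1]) hc.1 hc.2.1 hc.2.2 hcase
    · by_cases hQb : Q b.1 = c
      · refine S.trace_moved ρ hQn hfive him hflag hce b fun heq => hc ⟨hQb, ?_⟩
        have he := congrArg Subtype.val heq
        rw [hxb b] at he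
        have h2 := congrArg (fun y => polar Q (S.f (i + 1)) y) he
        have h3 := congrArg (fun y => polar Q (S.f (i + 2)) y) he
        simp [sub_eq_add_neg, polar_add_right, polar_smul_right, polar_neg_right, S.pfe (i := i + 1) (j := i + 1) hi1 hi1,
          S.pfe (i := i + 1) (j := i + 2) hi1 hi] at h2
        simp [sub_eq_add_neg, polar_add_right, polar_smul_right, polar_neg_right, S.pfe (i := i + 2) (j := i + 2) hi hi,
          S.pfe (i := i + 2) (j := i + 1) hi hi1] at h3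
        exact ⟨by rw [polar_comm]; exact h3, by rw [polar_comm]; exact h2⟩
      · rw [S.L_zero_of_rk ρ b (by rw [hp b hb, if_neg hQb]), mul_zero, map_zero]
  have hcnt := S.card_class_value (i := i) c
    (fun b => polar Q (S.e (i + 1)) b.1 = 0 ∧ polar Q (S.e (i + 2)) b.1 = 0)
    (by simp [polar_zero_right])
  rw [S.fixed_count hi] at hcnt
  have hsum : S.tr ρ i x' + ((if c = 0 then 1 else 0 : ℕ) : ℂ) = S.tr ρ (i + 1) x' +
      ((Fintype.card F * (Fintype.card F * Nat.card {w : S.W (i + 3) // Q w.1 = c}) : ℕ) : ℂ) := by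
    rw [S.tr_eq_sum ρ hQn hfive him, S.tr_succ ρ hQn hfive him,
      ← Finset.add_sum_erase Finset.univ _ (Finset.mem_univ (0 : S.W (i + 1))), add_assoc]
    congr 1
    rw [Finset.sum_congr rfl fun b hb => hterm b (Finset.ne_of_mem_erase hb), Finset.sum_boole, ← Nat.cast_add]
    congr 1
  have hd := S.dimE_layer ρ hi1 hp
  rw [S.toHyp.card_value' (i := i + 1) hi1 c, S.toHyp.card_value' (i := i + 2) hi c,
    S.card_W (j := i + 1 + 1) (by omega), S.card_W (j := i + 2 + 1) (by omega)] at hd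
  have hd' := congrArg (fun z : ℕ => (z : ℂ)) hd
  push_cast [Nat.cast_sub (Fintype.card_pos (α := F))] at hd'
  push_cast at hsum
  rw [hconj] at hsum
  show _ = (Fintype.card F : ℂ) ^ (2 * (n - (i + 1 + 1)) - 1)
  rw [show i + 1 + 1 = i + 2 from rfl, show i + 2 + 1 = i + 3 from rfl] at *
  obtain ⟨m, hm⟩ : ∃ m, n - (i + 3) = m := ⟨_, rfl⟩
  rw [show n - (i + 2) = m + 1 by omega] at hd' ⊢
  rw [show n - (i + 1) = m + 2 by omega, show 2 * (m + 2) - 1 = 2 * m + 3 by omega] at h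
  rw [hm] at hd'
  rw [show 2 * (m + 1) - 1 = 2 * m + 1 by omega]
  linear_combination h + hsum - hd'

end EvenFrame

end CfsgLib.OrthDeg
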