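import Cfsg.Agent.Lib.OrthDeg.OddSteps
import Cfsg.Agent.Lib.POmega.Simple
import Cfsg.Agent.Lib.Characters.Values
import Cfsg.Agent.Lib.SLMinDeg.Main

set_option autoImplicit false
set_option linter.unusedSectionVars false
set_option linter.style.haveILetI false

/-!
Below the bound the drop at a long root element is the smallest one at every level, and the class
sum of the long root element forces the degree to be one less than the bound.
-/

namespace CfsgLib.OrthDeg

open QuadraticMap CfsgLib.Orth CfsgLib.KnownSimple.ModulePerm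

theorem bsum_ge {q : ℕ} (hq : 1 ≤ q) (n : ℕ) : n ≤ bsum q n := by
  induction n with
  | zero => simp [bsum]
  | succ n ih =>
    rw [bsum_succ]
    have := Nat.one_le_pow (2 * n) q hq
    omega

theorem top_arith_moved {q n : ℕ} (hq : 5 ≤ q) (hn : 1 ≤ n) :
    2 * bsum q n ≤ (q - 1) * (q - 1) * q ^ (2 * (n - 1) - 1) ∨ n = 1 := by
  rcases Nat.lt_or_ge n 2 with h | h
  · right; omega
  left
  obtain ⟨m, rfl⟩ : ∃ m, n = m + 2 := ⟨n - 2, by omega⟩
  obtain ⟨r, rfl⟩ : ∃ r, q = r + 5 := ⟨q - 5, by omega⟩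
  have h1 := bsum_mul (r + 5) (m + 2) (by omega)
  rw [show 2 * (m + 2 - 1) - 1 = 2 * m + 1 by omega, show r + 5 - 1 = r + 4 by omega]
  rw [show (r + 5) * (r + 5) - 1 = r * r + 10 * r + 24 by ring_nf; omega,
    show 2 * (m + 2) = 2 * m + 1 + 3 by ring, pow_add] at h1
  set P := (r + 5) ^ (2 * m + 1) with hP
  refine Nat.le_of_mul_le_mul_left ?_ (show 0 < r * r + 10 * r + 24 by omega)
  have h2 : 2 * ((r + 5) ^ 3) ≤ (r * r + 10 * r + 24) * ((r + 4) * (r + 4)) := by nlinarith
  calc (r * r + 10 * r + 24) * (2 * bsum (r + 5) (m + 2)) ≤ 2 * (P * (r + 5) ^ 3) := by linarith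
    _ = 2 * (r + 5) ^ 3 * P := by ring
    _ ≤ (r * r + 10 * r + 24) * ((r + 4) * (r + 4)) * P := Nat.mul_le_mul_right _ h2
    _ = _ := by ring

theorem top_arith_cone {q n : ℕ} (hq : 5 ≤ q) (hn : 2 ≤ n) : bsum q n + 2 ≤ 2 * q ^ (2 * (n - 1)) := by
  obtain ⟨m, rfl⟩ : ∃ m, n = m + 2 := ⟨n - 2, by omega⟩
  rw [show m + 2 - 1 = m + 1 by omega, bsum_succ]
  have h1 := bsum_mul q (m + 1) (by omega)
  have h2 : 24 ≤ q * q - 1 := by
    have : 25 ≤ q * q := Nat.mul_le_mul hq hq
    omega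
  have h3 := Nat.mul_le_mul_right (bsum q (m + 1)) h2
  have h4 := bsum_ge (show 1 ≤ q by omega) (m + 1)
  omega

/-- The divisibility by the class of a long root element leaves one value below the bound. -/
theorem degree_eq_pred {p r q n k : ℕ} (hp : p.Prime) (hqp : q = p ^ r) (hq : 5 ≤ q) (hn : 3 ≤ n)
    (hk : k < bsum q n) (hk2 : bsum q n ≤ k + n)
    (hdvd : k ∣ bsum q n * (q ^ (2 * (n - 1)) - 1) * q ^ (2 * (n - 1))) : k + 1 = bsum q n := by
  by_contra hne
  obtain ⟨j, hj⟩ : ∃ j, bsum q n = k + j := ⟨bsum q n - k, by omega⟩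
  have hj2 : 2 ≤ j := by omega
  have hjn : j ≤ n := by omega
  obtain ⟨m, rfl⟩ : ∃ m, n = m + 1 := ⟨n - 1, by omega⟩
  rw [Nat.add_sub_cancel] at hdvd
  have hqq : 25 ≤ q * q := Nat.mul_le_mul hq hq
  have hB : bsum q (m + 1) = q * q * bsum q m + 1 := bsum_succ' q m
  have hB' := bsum_mul q m (by omega)
  have hBn := bsum_mul q (m + 1) (by omega)
  obtain ⟨R, hR⟩ : ∃ R, q * q = R + 1 := ⟨q * q - 1, by omega⟩
  rw [hR, Nat.add_sub_cancel] at hB' hBn
  rw [hR] at hB
  have hpow : q ^ (2 * m) - 1 = R * bsum q m := by omega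
  rw [hpow, hj] at hdvd
  -- multiply by `q²`
  have h1 : k ∣ q ^ (2 * (m + 1)) * (j * (R * (j - 1))) := by
    have h2 : (R + 1) * ((k + j) * (R * bsum q m) * q ^ (2 * m)) =
        q ^ (2 * m) * R * (k + j) * ((R + 1) * bsum q m) := by ring
    have h3 : k ∣ q ^ (2 * m) * R * (k + j) * (k + (j - 1)) := by
      have := dvd_mul_of_dvd_right hdvd (R + 1)
      rw [h2, show (R + 1) * bsum q m = k + (j - 1) by omega] at this
      exact this
    have h4 : k ∣ q ^ (2 * m) * R * j * (j - 1) := by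
      have e : q ^ (2 * m) * R * (k + j) * (k + (j - 1)) =
          k * (q ^ (2 * m) * R * (k + (j - 1) + j)) + q ^ (2 * m) * R * j * (j - 1) := by ring
      rw [e] at h3
      exact (Nat.dvd_add_right (Dvd.intro _ rfl)).mp h3
    refine dvd_trans h4 ⟨q * q, ?_⟩
    rw [show 2 * (m + 1) = 2 * m + 1 + 1 by ring, pow_succ, pow_succ]
    ring
  set g := Nat.gcd k (q ^ (2 * (m + 1))) with hg
  have hkg : k ∣ g * (j * (R * (j - 1))) := dvd_gcd_mul_iff_dvd_mul.mpr h1
  have hgk : g ∣ k := Nat.gcd_dvd_left _ _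
  have hgq : g ∣ q ^ (2 * (m + 1)) := Nat.gcd_dvd_right _ _
  have hk1 : q ^ (2 * m) ≤ k + m := by
    have : bsum q (m + 1) = bsum q m + q ^ (2 * m) := bsum_succ q m
    have := bsum_ge (show 1 ≤ q by omega) m
    omega
  have hRpos : 24 ≤ R := by omega
  have hpos : 0 < j * (R * (j - 1)) := Nat.mul_pos (by omega) (Nat.mul_pos (by omega) (by omega))
  have hg0 : 0 < g := Nat.pos_of_ne_zero fun h0 => by
    rw [h0] at hgq
    have := Nat.eq_zero_of_zero_dvd hgq
    have := Nat.one_le_pow (2 * (m + 1)) q (by omega)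
    omega
  have hbound : k ≤ g * (j * (R * (j - 1))) := Nat.le_of_dvd (Nat.mul_pos hg0 hpos) hkg
  rcases Nat.lt_or_ge (j - 1) (R + 1) with hsmall | hbig
  · -- `g ∣ j - 1`
    have hgj : g ∣ j - 1 := by
      have hkj : (R + 1) * bsum q m = k + (j - 1) := by omega
      rw [hqp, ← pow_mul] at hgq
      obtain ⟨a, -, ha⟩ := (Nat.dvd_prime_pow hp).mp hgq
      have hq2 : R + 1 = p ^ (2 * r) := by rw [← hR, hqp, ← pow_add]; ring_nf
      rcases Nat.le_total a (2 * r) with har | har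
      · have : g ∣ R + 1 := by rw [hq2, ha]; exact pow_dvd_pow p har
        refine (Nat.dvd_add_right hgk).mp ?_
        rw [← hkj]
        exact dvd_mul_of_dvd_left this _
      · have : R + 1 ∣ g := by rw [hq2, ha]; exact pow_dvd_pow p har
        have h5 : R + 1 ∣ j - 1 := (Nat.dvd_add_right (dvd_trans this hgk)).mp (hkj ▸ Dvd.intro _ rfl)
        have := Nat.le_of_dvd (by omega) h5
        omega
    have hgle : g ≤ m := le_trans (Nat.le_of_dvd (by omega) hgj) (by omega)
    have h6 : g * (j * (R * (j - 1))) ≤ R * ((m + 1) * m * m) := by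
      calc g * (j * (R * (j - 1))) ≤ m * ((m + 1) * (R * m)) :=
            Nat.mul_le_mul hgle (Nat.mul_le_mul hjn (Nat.mul_le_mul_left _ (by omega)))
        _ = _ := by ring
    have h7 : ∀ m, 2 ≤ m → (m + 1) * m * m + 1 ≤ q ^ (2 * (m - 1)) := by
      intro m hm
      induction m, hm using Nat.le_induction with
      | base =>
        norm_num
        calc 13 ≤ q * q := by omega
          _ = q ^ 2 := by ring
      | succ m hm ih =>
        rw [show q ^ (2 * (m + 1 - 1)) = q ^ (2 * (m - 1)) * (q * q) by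
          rw [show 2 * (m + 1 - 1) = 2 * (m - 1) + 1 + 1 by omega, pow_succ, pow_succ, mul_assoc]]
        refine le_trans ?_ (Nat.mul_le_mul ih hqq)
        have h2m : (m + 1 + 1) * (m + 1) * (m + 1) ≤ 2 * (m + 1) * (2 * m) * (2 * m) :=
          Nat.mul_le_mul (Nat.mul_le_mul (by omega) (by omega)) (by omega)
        nlinarith
    have h8 := h7 m (by omega)
    have h9 : (R + 1) * q ^ (2 * (m - 1)) = q ^ (2 * m) := by
      rw [← hR, show 2 * m = 2 * (m - 1) + 1 + 1 by omega, pow_succ, pow_succ]; ring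
    have h10 := Nat.mul_le_mul_left (R + 1) h8
    rw [h9] at h10
    have h11 : (R + 1) * ((m + 1) * m * m + 1) = R * ((m + 1) * m * m) + ((m + 1) * m * m + R + 1) := by ring
    have h12 : m ≤ (m + 1) * m * m := Nat.le_mul_of_pos_left m (Nat.mul_pos (by omega) (by omega))
    omega
  · -- `n` is large
    have hgj : g ∣ j * R + 1 := by
      have e : q ^ (2 * (m + 1)) = R * k + (j * R + 1) := by rw [← hBn, hj]; ring
      rw [e] at hgq
      exact (Nat.dvd_add_right (dvd_mul_of_dvd_right hgk R)).mp hgq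
    have hgle : g ≤ (m + 1) * (R + 1) := le_trans (Nat.le_of_dvd (by omega) hgj) (by
      have := Nat.mul_le_mul_right R hjn
      rw [mul_add, mul_one]; omega)
    have h6 : g * (j * (R * (j - 1))) + m ≤ (R + 1) * (R + 1) * ((m + 1) * (m + 1) * (m + 1)) + m := by
      refine Nat.add_le_add_right ?_ m
      calc g * (j * (R * (j - 1))) ≤ (m + 1) * (R + 1) * ((m + 1) * ((R + 1) * (m + 1))) :=
            Nat.mul_le_mul hgle (Nat.mul_le_mul hjn (Nat.mul_le_mul (Nat.le_succ R) (by omega)))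
        _ = _ := by ring
    have h7 : ∀ m, 5 ≤ m → (m + 1) * (m + 1) * (m + 1) + m < q ^ (2 * (m - 2)) := by
      intro m hm
      induction m, hm using Nat.le_induction with
      | base =>
        calc _ < 5 ^ 6 := by norm_num
          _ ≤ q ^ 6 := Nat.pow_le_pow_left hq 6
          _ = _ := by norm_num
      | succ m hm ih =>
        rw [show q ^ (2 * (m + 1 - 2)) = q ^ (2 * (m - 2)) * (q * q) by
          rw [show 2 * (m + 1 - 2) = 2 * (m - 2) + 1 + 1 by omega, pow_succ, pow_succ, mul_assoc]]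
        refine lt_of_lt_of_le ?_ (Nat.mul_le_mul (Nat.succ_le_iff.mpr ih) hqq)
        nlinarith
    have h8 := h7 m (by omega)
    have h9 : (R + 1) * (R + 1) * q ^ (2 * (m - 2)) = q ^ (2 * m) := by
      rw [← hR, show 2 * m = 2 * (m - 2) + 1 + 1 + 1 + 1 by omega, pow_succ, pow_succ, pow_succ, pow_succ]; ring
    have h8' : (m + 1) * (m + 1) * (m + 1) + m + 1 ≤ q ^ (2 * (m - 2)) := h8
    have h10 := Nat.mul_le_mul_left ((R + 1) * (R + 1)) h8'
    rw [h9] at h10
    have h11 : (R + 1) * (R + 1) * ((m + 1) * (m + 1) * (m + 1) + m + 1) =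
        (R + 1) * (R + 1) * ((m + 1) * (m + 1) * (m + 1)) + (R + 1) * (R + 1) * (m + 1) := by ring
    have h12 : m + 1 ≤ (R + 1) * (R + 1) * (m + 1) := Nat.le_mul_of_pos_left _ (by positivity)
    omega

variable {ι : Type} [Fintype ι] [DecidableEq ι] {F : Type*} [Field F] [Fintype F]
variable {Q : QuadraticForm F (ι → F)} {n : ℕ} (S : OddFrame Q n)

namespace OddFrame

include S

theorem five_le_q (hq : 3 < Fintype.card F) : 5 ≤ Fintype.card F := by
  have hodd := FiniteField.odd_card_of_char_ne_two (F := F) fun hch => by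
    have : CharP F 2 := ringChar.of_eq hch
    exact S.h2 CharTwo.two_eq_zero
  omega

/-- The number of pairs spanning a totally singular plane with given first vector. -/
theorem card_second {u : ι → F} (hu : Q u = 0) (hu0 : u ≠ 0) :
    Nat.card {a : ι → F // Q a = 0 ∧ polar Q u a = 0 ∧ a ∉ Submodule.span F {u}} =
      Fintype.card F * (Fintype.card F ^ (2 * (n - 1)) - 1) := by
  classical
  have h0 : 0 < n := by have := S.n3; omega
  obtain ⟨g, hg⟩ := POmega.exists_O_map S.nd ![S.e 0] ![u]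
    (linearIndependent_unique_iff.mpr (S.toHyp.e_ne S.nd h0)) (linearIndependent_unique_iff.mpr hu0)
    (fun i => by fin_cases i; simp [S.Qe 0 h0, hu])
    (fun i j => by fin_cases i; fin_cases j; simp [polar_self', S.Qe 0 h0, hu])
  have hg0 : app g (S.e 0) = u := hg 0
  have e : {a : ι → F // Q a = 0 ∧ polar Q u a = 0 ∧ a ∉ Submodule.span F {u}} ≃
      {x : S.W 0 // polar Q (S.e 0) x.1 = 0 ∧ Q (S.pr 1 x.1) = 0 ∧ S.pr 1 x.1 ≠ 0} := by
    refine
      { toFun := fun a => ⟨⟨app g⁻¹ a.1, S.mem_W_zero _⟩, ?_⟩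
        invFun := fun x => ⟨app g x.1.1, ?_⟩
        left_inv := fun a => Subtype.ext (app_app_inv g a.1)
        right_inv := fun x => Subtype.ext (Subtype.ext (app_inv_app g x.1.1)) }
    · obtain ⟨hQa, hua, hspan⟩ := a.2
      have hp : polar Q (S.e 0) (app g⁻¹ a.1) = 0 := by
        rw [← polar_app g, app_app_inv, hg0, hua]
      refine ⟨hp, ?_, fun h => hspan ?_⟩
      · rw [(S.toHyp.pr_perp (k := 1) h0 _ fun l hl => by rw [Nat.lt_one_iff.mp hl, hp]).2.1, Q_app, hQa]
      · have hd := S.toHyp.decomp (i := 0) (S.mem_W_zero (app g⁻¹ a.1))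
        rw [h, hp, zero_smul, add_zero, add_zero] at hd
        refine Submodule.mem_span_singleton.mpr ⟨polar Q (S.f 0) (app g⁻¹ a.1), ?_⟩
        have h' := congrArg (app g) hd
        rw [app_app_inv, map_smul, hg0] at h'
        exact h'.symm
    · obtain ⟨hp, hQx, hne⟩ := x.2
      refine ⟨?_, ?_, fun h => hne ?_⟩
      · rw [Q_app, ← (S.toHyp.pr_perp (k := 1) h0 x.1.1 fun l hl => by rw [Nat.lt_one_iff.mp hl, hp]).2.1, hQx]
      · rw [← hg0, polar_app, hp]
      · obtain ⟨c, hc⟩ := Submodule.mem_span_singleton.mp h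
        rw [← hg0, ← map_smul] at hc
        rw [← app_injective g hc, map_smul, S.toHyp.pr_e h0 (Nat.lt_one_iff.mpr rfl), smul_zero]
  have e' : {x : S.W 0 // polar Q (S.e 0) x.1 = 0 ∧ Q (S.pr 1 x.1) = 0 ∧ S.pr 1 x.1 ≠ 0} ≃
      F × {w : S.W 1 // Q w.1 = 0 ∧ w.1 ≠ 0} :=
    { toFun := fun x => (polar Q (S.f 0) x.1.1, ⟨(S.toHyp.splitEquiv h0 x.1).2.2, x.2.2⟩)
      invFun := fun p => ⟨(S.toHyp.splitEquiv h0).symm (p.1, 0, p.2.1), ⟨(S.toHyp.polar_split h0 _ _ p.2.1.2).2, by
        have h' : S.pr 1 ((S.toHyp.splitEquiv h0).symm (p.1, 0, p.2.1)).1 = p.2.1.1 :=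
          congrArg (fun z => z.2.2.1) ((S.toHyp.splitEquiv h0).apply_symm_apply (p.1, 0, p.2.1))
        rw [h']
        exact p.2.2⟩⟩
      left_inv := fun x => Subtype.ext (by
        refine Eq.trans ?_ ((S.toHyp.splitEquiv h0).symm_apply_apply x.1)
        refine congrArg (S.toHyp.splitEquiv h0).symm (Prod.ext rfl (Prod.ext ?_ rfl))
        exact x.2.1.symm)
      right_inv := fun p => by
        have h := (S.toHyp.splitEquiv h0).apply_symm_apply (p.1, 0, p.2.1)
        refine Prod.ext ?_ (Subtype.ext ?_)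
        · exact congrArg (fun z => z.1) h
        · exact congrArg (fun z => z.2.2) h }
  rw [Nat.card_congr (e.trans e'), Nat.card_prod, Nat.card_eq_fintype_card (α := F),
    ← S.cone_card (j := 1) (by omega)]
  congr 1
  rw [Nat.card_eq_fintype_card, Nat.card_eq_fintype_card, Fintype.card_subtype, Fintype.card_subtype,
    ← Finset.card_erase_of_mem (a := (0 : S.W 1)) (by simp)]
  congr 1
  ext w
  simp only [Finset.mem_filter, Finset.mem_erase, Finset.mem_univ, true_and]
  rw [and_comm]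
  exact and_congr_left fun _ => ⟨fun h h0 => h (by rw [h0]; rfl), fun h h0 => h (Subtype.ext h0)⟩

omit S in
/-- Matrices of determinant one. -/
theorem card_det_one : Nat.card {p : (F × F) × (F × F) // p.1.1 * p.2.2 - p.1.2 * p.2.1 = 1} =
    (Fintype.card F * Fintype.card F - 1) * Fintype.card F := by
  classical
  have e : {p : (F × F) × (F × F) // p.1.1 * p.2.2 - p.1.2 * p.2.1 = 1} ≃
      Σ v : {v : F × F // v ≠ 0}, {w : F × F // v.1.1 * w.2 - v.1.2 * w.1 = 1} :=
    { toFun := fun p => ⟨⟨p.1.1, fun h => by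
          have h' := p.2
          rw [h] at h'
          simp at h'⟩, ⟨p.1.2, p.2⟩⟩
      invFun := fun s => ⟨(s.1.1, s.2.1), s.2.2⟩
      left_inv := fun p => rfl
      right_inv := fun s => rfl }
  have hfib : ∀ v : {v : F × F // v ≠ 0}, Nat.card {w : F × F // v.1.1 * w.2 - v.1.2 * w.1 = 1} =
      Fintype.card F := by
    rintro ⟨⟨p, q⟩, hv⟩
    rw [← Nat.card_eq_fintype_card (α := F)]
    by_cases hp : p = 0
    · subst hp
      have hq : q ≠ 0 := fun h => hv (by rw [h]; rfl)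
      exact Nat.card_congr
        { toFun := fun w => w.1.2
          invFun := fun s => ⟨(-q⁻¹, s), by simp [hq]⟩
          left_inv := fun w => Subtype.ext (Prod.ext (by
            have h : (0 : F) * w.1.2 - q * w.1.1 = 1 := w.2
            rw [zero_mul, zero_sub] at h
            show -q⁻¹ = w.1.1
            rw [neg_eq_iff_eq_neg, inv_eq_of_mul_eq_one_right (by rw [mul_neg]; exact h)]) rfl)
          right_inv := fun s => rfl }
    · exact Nat.card_congr
        { toFun := fun w => w.1.1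
          invFun := fun r => ⟨(r, p⁻¹ * (1 + q * r)), by
            show p * (p⁻¹ * (1 + q * r)) - q * r = 1
            rw [← mul_assoc, mul_inv_cancel₀ hp, one_mul, add_sub_cancel_right]⟩
          left_inv := fun w => Subtype.ext (Prod.ext rfl (by
            have h : p * w.1.2 - q * w.1.1 = 1 := w.2
            show p⁻¹ * (1 + q * w.1.1) = w.1.2
            rw [inv_mul_eq_iff_eq_mul₀ hp]
            linear_combination -h))
          right_inv := fun r => rfl }
  rw [Nat.card_congr e, Nat.card_sigma, Finset.sum_congr rfl fun v _ => hfib v, Finset.sum_const, smul_eq_mul,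
    Finset.card_univ, Fintype.card_subtype_compl, Fintype.card_subtype_eq, Fintype.card_prod]

/-- The long root element. -/
noncomputable def x₀ : Om Q := el Q (S.e 0) (S.e 1)

/-- The class of a long root element. -/
theorem card_class :
    Nat.card {y : Om Q // IsConj S.x₀ y} =
      bsum (Fintype.card F) n * (Fintype.card F ^ (2 * (n - 1)) - 1) := by
  classical
  have := S.n3
  have h0 : 0 < n := by omega
  have h1 : 1 < n := by omega
  have hQn := S.nd
  have h5 := S.five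
  have h01 := S.pee 0 1 h0 h1
  let P := {p : (ι → F) × (ι → F) //
    (Q p.1 = 0 ∧ p.1 ≠ 0) ∧ (Q p.2 = 0 ∧ polar Q p.1 p.2 = 0 ∧ p.2 ∉ Submodule.span F {p.1})}
  have hli : ∀ p : P, LinearIndependent F ![p.1.2, p.1.1] := fun p =>
    LinearIndependent.pair_iff.mpr fun s t h => by
      have hs : s = 0 := by
        by_contra hs
        refine p.2.2.2.2 (Submodule.mem_span_singleton.mpr ⟨-(s⁻¹ * t), ?_⟩)
        have h' := congrArg (fun y => s⁻¹ • y) h
        simp only [smul_add, smul_smul, inv_mul_cancel₀ hs, one_smul, smul_zero] at h'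
        rw [neg_smul, eq_neg_of_add_eq_zero_left h']
      subst hs
      rw [zero_smul, zero_add, smul_eq_zero] at h
      exact ⟨rfl, h.resolve_right p.2.1.2⟩
  have hmove : ∀ p : P, ∃ g : Om Q, ap g (S.e 0) = p.1.1 ∧ ap g (S.e 1) = p.1.2 := by
    intro p
    obtain ⟨g, -, hg, -⟩ := S.exists_flag (i := 0) (k := n - 1) (Nat.zero_le n) (by omega)
      ![S.e 1, S.e 0] ![p.1.2, p.1.1] (fun _ => S.mem_W_zero _) (fun _ => S.mem_W_zero _)
      (Hyp.li_pair (S.toHyp.e_ne hQn h0) (φ := Q.polarBilin (S.f 1))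
        (by show polar Q (S.f 1) (S.e 1) ≠ 0; simp [S.pfe (i := 1) (j := 1) h1 h1])
        (by show polar Q (S.f 1) (S.e 0) = 0; simp [S.pfe (i := 1) (j := 0) h1 h0]))
      (hli p)
      (by intro l; fin_cases l <;> simp [S.Qe 0 h0, S.Qe 1 h1, p.2.1.1, p.2.2.1])
      (by
        intro l l'
        have hp21 : polar Q p.1.2 p.1.1 = 0 := by rw [polar_comm]; exact p.2.2.2.1
        have e10 : polar Q (S.e 1) (S.e 0) = 0 := S.pee 1 0 h1 h0
        have a2 : polar Q p.1.2 p.1.2 = 0 := by rw [polar_self', p.2.2.1, mul_zero]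
        have a1 : polar Q p.1.1 p.1.1 = 0 := by rw [polar_self', p.2.1.1, mul_zero]
        fin_cases l <;> fin_cases l'
        exacts [(S.pee 1 1 h1 h1).trans a2.symm, e10.trans hp21.symm, h01.trans p.2.2.2.1.symm,
          (S.pee 0 0 h0 h0).trans a1.symm])
      (by
        have hk : n - 1 < n := by omega
        intro l; fin_cases l
        · refine ⟨S.pee _ _ hk h1, ?_, (S.x0_perp h1).2.2.1⟩
          show polar Q (S.f (n - 1)) (S.e 1) = 0
          rw [S.pfe (i := n - 1) (j := 1) hk h1, if_neg (by omega)]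
        · refine ⟨S.pee _ _ hk h0, ?_, (S.x0_perp h0).2.2.1⟩
          show polar Q (S.f (n - 1)) (S.e 0) = 0
          rw [S.pfe (i := n - 1) (j := 0) hk h0, if_neg (by omega)])
    exact ⟨g, hg 1, hg 0⟩
  have hconj : ∀ g : Om Q, g * S.x₀ * g⁻¹ = el Q (ap g (S.e 0)) (ap g (S.e 1)) :=
    fun g => el_conj hQn h5 (S.Qe 0 h0) h01 g
  have hcls : ∀ p : P, IsConj S.x₀ (el Q p.1.1 p.1.2) := fun p => by
    obtain ⟨g, hg0, hg1⟩ := hmove p
    exact isConj_iff.mpr ⟨g, by rw [hconj, hg0, hg1]⟩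
  let φ : P → {y : Om Q // IsConj S.x₀ y} := fun p => ⟨_, hcls p⟩
  -- the fibre over `x₀`
  have hcoord : ∀ p : P, el Q p.1.1 p.1.2 = S.x₀ → ∃ M : {p : (F × F) × (F × F) // p.1.1 * p.2.2 - p.1.2 * p.2.1 = 1},
      p.1.1 = M.1.1.1 • S.e 0 + M.1.1.2 • S.e 1 ∧ p.1.2 = M.1.2.1 • S.e 0 + M.1.2.2 • S.e 1 := by
    intro p he
    have hact : ∀ z, polar Q z p.1.1 • p.1.2 - polar Q z p.1.2 • p.1.1 =
        polar Q z (S.e 0) • S.e 1 - polar Q z (S.e 1) • S.e 0 := by
      intro z
      have h := congrArg (fun y => ap y z - z) he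
      simp only [x₀] at h
      rw [ap_el hQn h5 p.2.1.1 p.2.2.2.1, ap_el hQn h5 (S.Qe 0 h0) h01] at h
      simp only [p.2.2.1, S.Qe 1 h1, zero_mul, sub_zero] at h
      linear_combination (norm := module) h
    have hspan1 : p.1.1 ∉ Submodule.span F {p.1.2} := fun h => by
      obtain ⟨c, hc⟩ := Submodule.mem_span_singleton.mp h
      have := LinearIndependent.pair_iff.mp (hli p) c (-1) (by rw [hc]; simp)
      exact one_ne_zero (neg_eq_zero.mp this.2)
    obtain ⟨z, hz2, hz1⟩ := Orth.exists_polar_eq_zero_one hQn hspan1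
    have e2 := hact z
    rw [polar_comm (f := ⇑Q) z p.1.1, hz1, polar_comm (f := ⇑Q) z p.1.2, hz2, one_smul, zero_smul, sub_zero] at e2
    obtain ⟨w, hw1, hw2⟩ := Orth.exists_polar_eq_zero_one hQn p.2.2.2.2
    have e1 := hact w
    rw [polar_comm (f := ⇑Q) w p.1.1, hw1, polar_comm (f := ⇑Q) w p.1.2, hw2, one_smul, zero_smul, zero_sub] at e1
    have h1' : p.1.1 = polar Q w (S.e 1) • S.e 0 + (-polar Q w (S.e 0)) • S.e 1 := by
      rw [← neg_neg p.1.1, e1]; module
    have h2' : p.1.2 = (-polar Q z (S.e 1)) • S.e 0 + polar Q z (S.e 0) • S.e 1 := by rw [e2]; module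
    refine ⟨⟨((polar Q w (S.e 1), -polar Q w (S.e 0)), (-polar Q z (S.e 1), polar Q z (S.e 0))), ?_⟩, h1', h2'⟩
    rw [h1', h2', el_plane hQn h5 (S.Qe 0 h0) (S.Qe 1 h1) h01] at he
    have h := congrArg (fun y => polar Q (S.f 1) (ap y (S.f 0))) he
    simp only [x₀] at h
    have hd : ∀ d : F, polar Q (S.e 0) (d • S.e 1) = 0 := fun d => by rw [polar_smul_right, h01, smul_zero]
    rw [ap_el hQn h5 (S.Qe 0 h0) (hd _), ap_el hQn h5 (S.Qe 0 h0) h01] at h
    simpa [polar_add_right, polar_smul_right, polar_smul_left, QuadraticMap.map_smul, S.Qe 1 h1,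
      S.pfe (i := 0) (j := 0) h0 h0, S.pfe (i := 0) (j := 1) h0 h1, S.pfe (i := 1) (j := 0) h1 h0,
      S.pfe (i := 1) (j := 1) h1 h1, S.pff 1 0 h1 h0, S.pef 0 0 h0 h0, S.pef 1 0 h1 h0] using h
  have hM : ∀ M : {p : (F × F) × (F × F) // p.1.1 * p.2.2 - p.1.2 * p.2.1 = 1},
      (Q (M.1.1.1 • S.e 0 + M.1.1.2 • S.e 1) = 0 ∧ M.1.1.1 • S.e 0 + M.1.1.2 • S.e 1 ≠ 0) ∧
      (Q (M.1.2.1 • S.e 0 + M.1.2.2 • S.e 1) = 0 ∧
        polar Q (M.1.1.1 • S.e 0 + M.1.1.2 • S.e 1) (M.1.2.1 • S.e 0 + M.1.2.2 • S.e 1) = 0 ∧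
        M.1.2.1 • S.e 0 + M.1.2.2 • S.e 1 ∉ Submodule.span F {M.1.1.1 • S.e 0 + M.1.1.2 • S.e 1}) := by
    rintro ⟨⟨⟨p, q⟩, r, s⟩, hdet⟩
    have hd' : p * s - q * r = 1 := hdet
    have hc : ∀ a b : F, polar Q (S.f 0) (a • S.e 0 + b • S.e 1) = a ∧ polar Q (S.f 1) (a • S.e 0 + b • S.e 1) = b :=
      fun a b => by
        simp [polar_add_right, polar_smul_right, S.pfe (i := 0) (j := 0) h0 h0, S.pfe (i := 0) (j := 1) h0 h1,
          S.pfe (i := 1) (j := 0) h1 h0, S.pfe (i := 1) (j := 1) h1 h1]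
    have hQ0 : ∀ a b : F, Q (a • S.e 0 + b • S.e 1) = 0 := fun a b => by
      simp [QuadraticMap.map_add ⇑Q, QuadraticMap.map_smul, polar_smul_left, polar_smul_right, S.Qe 0 h0,
        S.Qe 1 h1, h01]
    refine ⟨⟨hQ0 p q, fun h => ?_⟩, hQ0 r s, ?_, fun h => ?_⟩
    · have := hc p q
      simp only [show p • S.e 0 + q • S.e 1 = 0 from h, polar_zero_right] at this
      rw [← this.1, ← this.2] at hd'
      simp at hd'
    · simp [polar_add_left, polar_add_right, polar_smul_left, polar_smul_right, S.pee 0 0 h0 h0, h01,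
        S.pee 1 0 h1 h0, S.pee 1 1 h1 h1]
    · obtain ⟨c, hcc⟩ := Submodule.mem_span_singleton.mp h
      have hcc' : c • (p • S.e 0 + q • S.e 1) = r • S.e 0 + s • S.e 1 := hcc
      have a := congrArg (fun y => polar Q (S.f 0) y) hcc'
      have b := congrArg (fun y => polar Q (S.f 1) y) hcc'
      simp only [polar_smul_right, (hc _ _).1, (hc _ _).2, smul_eq_mul] at a b
      rw [← a, ← b] at hd'
      ring_nf at hd'
      exact zero_ne_one hd'
  let Φ : {p : (F × F) × (F × F) // p.1.1 * p.2.2 - p.1.2 * p.2.1 = 1} → {p : P // el Q p.1.1 p.1.2 = S.x₀} :=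
    fun M => ⟨⟨(M.1.1.1 • S.e 0 + M.1.1.2 • S.e 1, M.1.2.1 • S.e 0 + M.1.2.2 • S.e 1), hM M⟩,
      (el_plane hQn h5 (S.Qe 0 h0) (S.Qe 1 h1) h01 _ _ _ _).trans (by rw [M.2, one_smul]; rfl)⟩
  have hΦ : Function.Bijective Φ := by
    refine ⟨fun M M' h => ?_, fun p => ?_⟩
    · have h' := congrArg (fun p : {p : P // el Q p.1.1 p.1.2 = S.x₀} =>
        ((polar Q (S.f 0) p.1.1.1, polar Q (S.f 1) p.1.1.1), (polar Q (S.f 0) p.1.1.2, polar Q (S.f 1) p.1.1.2))) h
      refine Subtype.ext ?_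
      simpa [Φ, polar_add_right, polar_smul_right, S.pfe (i := 0) (j := 0) h0 h0, S.pfe (i := 0) (j := 1) h0 h1,
        S.pfe (i := 1) (j := 0) h1 h0, S.pfe (i := 1) (j := 1) h1 h1] using h'
    · obtain ⟨M, hM1, hM2⟩ := hcoord p.1 p.2
      exact ⟨M, Subtype.ext (Subtype.ext (Prod.ext hM1.symm hM2.symm))⟩
  -- all fibres agree
  have hfib : ∀ y : {y : Om Q // IsConj S.x₀ y}, Nat.card {p : P // φ p = y} =
      (Fintype.card F * Fintype.card F - 1) * Fintype.card F := by
    intro y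
    obtain ⟨g, hg⟩ := isConj_iff.mp y.2
    rw [← card_det_one, Nat.card_congr (Equiv.ofBijective Φ hΦ)]
    have hmem : ∀ (h : Om Q) (p : P),
        (Q (ap h p.1.1) = 0 ∧ ap h p.1.1 ≠ 0) ∧ (Q (ap h p.1.2) = 0 ∧ polar Q (ap h p.1.1) (ap h p.1.2) = 0 ∧
          ap h p.1.2 ∉ Submodule.span F {ap h p.1.1}) := by
      intro h p
      refine ⟨⟨by rw [Q_app, p.2.1.1], fun h' => p.2.1.2 (app_injective h.1 (by rw [map_zero]; exact h'))⟩,
        by rw [Q_app, p.2.2.1], by rw [polar_app, p.2.2.2.1], fun h' => ?_⟩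
      obtain ⟨c, hc⟩ := Submodule.mem_span_singleton.mp h'
      exact p.2.2.2.2 (Submodule.mem_span_singleton.mpr ⟨c, app_injective h.1 (by rw [map_smul]; exact hc)⟩)
    refine Nat.card_congr
      { toFun := fun p => ⟨⟨(ap g⁻¹ p.1.1.1, ap g⁻¹ p.1.1.2), hmem _ p.1⟩, ?_⟩
        invFun := fun p => ⟨⟨(ap g p.1.1.1, ap g p.1.1.2), hmem _ p.1⟩, ?_⟩
        left_inv := fun p => Subtype.ext (Subtype.ext (Prod.ext (app_app_inv g.1 _) (app_app_inv g.1 _)))
        right_inv := fun p => Subtype.ext (Subtype.ext (Prod.ext (app_inv_app g.1 _) (app_inv_app g.1 _))) }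
    · show el Q (ap g⁻¹ p.1.1.1) (ap g⁻¹ p.1.1.2) = S.x₀
      have hp : el Q p.1.1.1 p.1.1.2 = y.1 := congrArg Subtype.val p.2
      rw [← el_conj hQn h5 p.1.2.1.1 p.1.2.2.2.1 g⁻¹, hp, ← hg]
      group
    · refine Subtype.ext ?_
      show el Q (ap g p.1.1.1) (ap g p.1.1.2) = y.1
      rw [← el_conj hQn h5 p.1.2.1.1 p.1.2.2.2.1 g, p.2, hg]
  have hP : Nat.card P = (Fintype.card F ^ (2 * n) - 1) * (Fintype.card F * (Fintype.card F ^ (2 * (n - 1)) - 1)) := by
    let U := {u : ι → F // Q u = 0 ∧ u ≠ 0}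
    have e : P ≃ Σ u : U, {a : ι → F // Q a = 0 ∧ polar Q u.1 a = 0 ∧ a ∉ Submodule.span F {u.1}} :=
      { toFun := fun p => ⟨⟨p.1.1, p.2.1⟩, ⟨p.1.2, p.2.2⟩⟩
        invFun := fun s => ⟨(s.1.1, s.2.1), ⟨s.1.2, s.2.2⟩⟩
        left_inv := fun p => rfl
        right_inv := fun s => rfl }
    rw [Nat.card_congr e, Nat.card_sigma, Finset.sum_congr rfl fun u _ => S.card_second u.2.1 u.2.2,
      Finset.sum_const, smul_eq_mul, Finset.card_univ]
    congr 1
    have := S.cone_card (j := 0) (Nat.zero_le n)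
    rw [Nat.sub_zero] at this
    rw [← this, Nat.card_eq_fintype_card, Fintype.card_subtype, Fintype.card_subtype,
      ← Finset.card_erase_of_mem (a := (0 : S.W 0)) (by simp)]
    refine Finset.card_bij (fun u _ => (⟨u, S.mem_W_zero u⟩ : S.W 0)) (fun u hu => ?_) (fun u _ v _ h => congrArg Subtype.val h)
      (fun w hw => ⟨w.1, ?_, rfl⟩)
    · simp only [Finset.mem_filter, Finset.mem_univ, true_and, Finset.mem_erase] at hu ⊢
      exact ⟨fun h => hu.2 (congrArg Subtype.val h), hu.1⟩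
    · simp only [Finset.mem_filter, Finset.mem_univ, true_and, Finset.mem_erase] at hw ⊢
      exact ⟨hw.2, fun h => hw.1 (Subtype.ext h)⟩
  have hC : Nat.card P = Nat.card {y : Om Q // IsConj S.x₀ y} *
      ((Fintype.card F * Fintype.card F - 1) * Fintype.card F) := by
    rw [← Nat.card_congr (Equiv.sigmaFiberEquiv φ), Nat.card_sigma, Finset.sum_congr rfl fun y _ => hfib y,
      Finset.sum_const, smul_eq_mul, Finset.card_univ, ← Nat.card_eq_fintype_card]
  have hb := bsum_mul (Fintype.card F) n Fintype.card_pos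
  have hq2 : 2 ≤ Fintype.card F := Fintype.one_lt_card
  set q := Fintype.card F with hqdef
  rw [hP, show q ^ (2 * n) - 1 = (q * q - 1) * bsum q n by omega] at hC
  have hpos : 0 < (q * q - 1) * q := by
    have : 4 ≤ q * q := Nat.mul_le_mul hq2 hq2
    exact Nat.mul_pos (by omega) (by omega)
  refine (Nat.eq_of_mul_eq_mul_right hpos ?_).symm
  rw [← hC]
  ring

variable {V : Type*} [AddCommGroup V] [Module ℂ V] [FiniteDimensional ℂ V] (ρ : Representation ℂ (Om Q) V)

theorem top_drop (h7 : 7 ≤ Fintype.card ι) (hq : 3 < Fintype.card F) (hnt : ∃ g, ρ g ≠ 1)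
    (hk : Module.finrank ℂ V < bsum (Fintype.card F) n) : S.Drop ρ 0 := by
  classical
  have := S.n3
  have h5 := S.five_le_q hq
  have hi : 0 + 1 < n := by omega
  set q := Fintype.card F with hqdef
  set k := Module.finrank ℂ V with hkdef
  set R : F → ℕ := fun c => S.rk ρ 0 (S.bstd hi c) with hR
  have hdrop : (S.dimE ρ 0 : ℂ) - S.tr ρ 0 (S.T 0 (S.xvec hi)) =
      (q : ℂ) ^ (2 * (n - (0 + 1))) * ((∑ c : F, R c : ℕ) : ℂ) := S.drop_eq ρ hi
  have hpos : ∑ c : F, R c ≠ 0 := by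
    intro h0
    rw [h0, Nat.cast_zero, mul_zero, sub_eq_zero, S.dimE_zero ρ S.nd S.five, S.tr_zero ρ S.nd S.five] at hdrop
    have hx : S.T 0 (S.xvec hi) ∈ SLMinDeg.trivialSub ρ :=
      (Characters.char_eq_degree_iff ρ _).mp hdrop.symm
    haveI : (SLMinDeg.trivialSub ρ).Normal :=
      ⟨fun a ha g => by
        show ρ (g * a * g⁻¹) = 1
        rw [map_mul, map_mul, show ρ a = 1 from ha, mul_one, ← map_mul, mul_inv_cancel, map_one]⟩
    rcases POmega.normal_le_center_or_top S.nd h7 (SLMinDeg.trivialSub ρ) with hc | hc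
    · obtain ⟨e, -, he⟩ := POmega.center_scalar S.nd h7 (hc hx)
      have h01 := S.pee 0 1 (by omega) (by omega)
      have h := he (S.f 0)
      change ap (el Q (S.e 0) (S.e 1)) (S.f 0) = e • S.f 0 at h
      rw [ap_el S.nd S.five (S.Qe 0 (by omega)) h01] at h
      have := congrArg (fun y => polar Q (S.f 1) y) h
      simp [polar_add_right, polar_smul_right, S.pff 1 0 (by omega) (by omega),
        S.pfe (i := 0) (j := 0) (by omega) (by omega), S.pfe (i := 1) (j := 0) (by omega) (by omega),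
        S.pfe (i := 1) (j := 1) (by omega) (by omega)] at this
    · obtain ⟨g, hg⟩ := hnt
      exact hg ((hc ▸ Subgroup.mem_top g : g ∈ SLMinDeg.trivialSub ρ))
  have hmoved : (q - 1) * q ^ (2 * (n - (0 + 2)) + 1) * ∑ c : F, R c ≤ k := by
    rw [← S.sum_moved ρ hi, hkdef, ← S.dimE_zero ρ S.nd S.five, S.dimE_eq_sum ρ S.nd S.five (by omega)]
    exact Finset.sum_le_sum_of_subset (Finset.subset_univ _)
  have hns : ∀ c : F, c ≠ 0 → R c = 0 := by
    intro c hc
    by_contra hRc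
    have hsq : q - 1 ≤ 2 * ∑ c : F, R c := by
      have h1 := Finset.card_le_mul_card_image (s := Finset.univ.erase (0 : F)) (f := fun t : F => t * t * c) 2
        (fun y hy => by
          obtain ⟨t, -, rfl⟩ := Finset.mem_image.mp hy
          refine le_trans (Finset.card_le_card (fun s hs => ?_)) (Finset.card_le_two (a := t) (b := -t))
          rw [Finset.mem_filter] at hs
          rcases mul_self_eq_mul_self_iff.mp (mul_right_cancel₀ hc hs.2) with h | h <;> simp [h])
      rw [Finset.card_erase_of_mem (Finset.mem_univ _), Finset.card_univ] at h1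
      refine le_trans h1 (Nat.mul_le_mul_left 2 ?_)
      rw [Finset.card_eq_sum_ones]
      refine le_trans (Finset.sum_le_sum fun y hy => ?_) (Finset.sum_le_sum_of_subset (Finset.subset_univ _))
      obtain ⟨t, ht, rfl⟩ := Finset.mem_image.mp hy
      show 1 ≤ S.rk ρ 0 (S.bstd hi (t * t * c))
      rw [S.rk_sq ρ hi c t (Finset.ne_of_mem_erase ht)]
      exact Nat.one_le_iff_ne_zero.mpr hRc
    rcases top_arith_moved h5 (show 1 ≤ n by omega) with h | h
    · rw [show 2 * (n - 1) - 1 = 2 * (n - (0 + 2)) + 1 by omega] at h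
      have h' := Nat.mul_le_mul_left ((q - 1) * q ^ (2 * (n - (0 + 2)) + 1)) hsq
      have e1 : (q - 1) * q ^ (2 * (n - (0 + 2)) + 1) * (q - 1) =
          (q - 1) * (q - 1) * q ^ (2 * (n - (0 + 2)) + 1) := by ring
      have e2 : (q - 1) * q ^ (2 * (n - (0 + 2)) + 1) * (2 * ∑ c : F, R c) =
          2 * ((q - 1) * q ^ (2 * (n - (0 + 2)) + 1) * ∑ c : F, R c) := by ring
      rw [e1, e2] at h'
      omega
    · omega
  have hsum : ∑ c : F, R c = R 0 := Finset.sum_eq_single 0 (fun c _ hc => hns c hc) (by simp)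
  have hR0 : R 0 = 1 := by
    rw [hsum] at hpos
    by_contra hne
    have h2 : 2 ≤ R 0 := by omega
    have hle : (q ^ (2 * (n - 1)) - 1) * R 0 ≤ k := by
      rw [hkdef, ← S.dimE_zero ρ S.nd S.five, S.dimE_eq_sum ρ S.nd S.five (i := 0) (by omega)]
      refine le_trans (le_of_eq ?_) (Finset.sum_le_sum_of_subset
        (Finset.subset_univ ((Finset.univ.filter fun b : S.W 1 => Q b.1 = 0).erase 0)))
      rw [Finset.sum_congr rfl (g := fun _ => R 0) fun b hb => ?_, Finset.sum_const, smul_eq_mul,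
        Finset.card_erase_of_mem (by simp), ← Fintype.card_subtype, ← Nat.card_eq_fintype_card,
        S.cone_card (j := 1) (by omega)]
      rw [Finset.mem_erase, Finset.mem_filter] at hb
      rw [S.rk_eq ρ hi b hb.1, hb.2.2]
    have := top_arith_cone h5 (show 2 ≤ n by omega)
    have := Nat.mul_le_mul_left (q ^ (2 * (n - 1)) - 1) h2
    omega
  exact ⟨hi, by rw [hdrop, hsum, hR0, Nat.cast_one, mul_one]⟩

theorem all_pure (hq : 3 < Fintype.card F) (h0 : S.Drop ρ 0) {i : ℕ} (hi : i + 1 < n) : S.Pure ρ i := by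
  refine S.pure_of_drop ρ hq ?_
  induction i with
  | zero => exact h0
  | succ i ih => exact S.drop_succ ρ hq hi (ih (by omega))

/-- The degree as a sum over the layers. -/
theorem degree_sum (hp : ∀ i, i + 1 < n → S.Pure ρ i) :
    Module.finrank ℂ V + n = S.dimE ρ (n - 1) + bsum (Fintype.card F) n := by
  suffices ∀ i, i ≤ n - 1 → Module.finrank ℂ V + i + bsum (Fintype.card F) (n - i) =
      S.dimE ρ i + bsum (Fintype.card F) n by
    have h := this (n - 1) le_rfl
    have := S.n3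
    rw [show n - (n - 1) = 1 by omega, show bsum (Fintype.card F) 1 = 1 by simp [bsum]] at h
    omega
  intro i hi
  induction i with
  | zero => rw [S.dimE_zero ρ S.nd S.five, Nat.sub_zero, add_zero]
  | succ i ih =>
    have h1 := S.dimE_layer ρ (i := i) (by omega) (hp i (by omega))
    have h2 := ih (by omega)
    rw [show n - i = n - (i + 1) + 1 by omega, bsum_succ] at h2
    omega

theorem degree_pred (h7 : 7 ≤ Fintype.card ι) (hq : 3 < Fintype.card F) [ρ.IsIrreducible]
    (hnt : ∃ g, ρ g ≠ 1) (hk : Module.finrank ℂ V < bsum (Fintype.card F) n) :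
    (∀ i, i + 1 < n → S.Pure ρ i) ∧ Module.finrank ℂ V + 1 = bsum (Fintype.card F) n ∧
      S.dimE ρ (n - 1) + 1 = n := by
  classical
  have := S.n3
  have h0 := S.top_drop ρ h7 hq hnt hk
  have hp : ∀ i, i + 1 < n → S.Pure ρ i := fun i hi => S.all_pure ρ hq h0 hi
  obtain ⟨hi, hd⟩ := h0
  rw [S.dimE_zero ρ S.nd S.five, S.tr_zero ρ S.nd S.five, show n - (0 + 1) = n - 1 from rfl] at hd
  have hint := Characters.isIntegral_class_mul_char_div ρ S.x₀
  rw [S.card_class] at hint
  set q := Fintype.card F with hqdef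
  set k := Module.finrank ℂ V with hkdef
  have hsum := S.degree_sum ρ hp
  rw [← hkdef, ← hqdef] at hsum
  change (k : ℂ) - ρ.character S.x₀ = (q : ℂ) ^ (2 * (n - 1)) at hd
  set C := bsum q n * (q ^ (2 * (n - 1)) - 1) with hC
  haveI := Characters.nontrivial_of_irreducible ρ
  have hk0 : k ≠ 0 := Module.finrank_pos.ne'
  have hchi : ρ.character S.x₀ = (k : ℂ) - (q : ℂ) ^ (2 * (n - 1)) := by linear_combination -hd
  rw [hchi] at hint
  have hdvd : k ∣ C * q ^ (2 * (n - 1)) := by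
    refine Characters.nat_dvd_of_isIntegral_div hk0 ?_
    have h := (isIntegral_natCast (R := ℤ) (B := ℂ) C).sub hint
    have hk' : (k : ℂ) ≠ 0 := Nat.cast_ne_zero.mpr hk0
    have e : ((C * q ^ (2 * (n - 1)) : ℕ) : ℂ) / (k : ℂ) =
        (C : ℂ) - (C : ℂ) * ((k : ℂ) - (q : ℂ) ^ (2 * (n - 1))) / (k : ℂ) := by
      push_cast
      field_simp
      ring
    rw [e]
    exact h
  obtain ⟨r, hp', hr⟩ := FiniteField.card F (ringChar F)
  have hk1 := degree_eq_pred hp' (show q = _ from hr) (S.five_le_q hq) S.n3 hk (by omega) hdvd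
  exact ⟨hp, hk1, by omega⟩

end OddFrame

end CfsgLib.OrthDeg
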