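import Cfsg.Agent.Lib.OrthDeg.ESteps
import Cfsg.Agent.Lib.OrthDeg.OddTop

set_option autoImplicit false
set_option linter.unusedSectionVars false
set_option linter.style.haveILetI false

/-!
Below the bound the drop at the long root elements is the smallest at every level, and the class of a
long root element excludes every degree but one case.
-/

namespace CfsgLib.OrthDeg

open QuadraticMap CfsgLib.Orth CfsgLib.KnownSimple.ModulePerm

theorem ev_top_moved {q n : ℕ} (hq : 3 ≤ q) (hn : 4 ≤ n) {ε : ℤ} (hε : ε = 1 ∨ ε = -1) :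
    evf q ε n < 2 * (((q : ℤ) - 1) * (q : ℤ) ^ (2 * (n - 2))) := by
  obtain ⟨m, rfl⟩ : ∃ m, n = m + 4 := ⟨n - 4, by omega⟩
  have hq' : (3 : ℤ) ≤ q := by exact_mod_cast hq
  have hf := evf_mul (show 1 ≤ q by omega) ε (n := m + 4) (by omega)
  rw [show 2 * (m + 4) - 1 = m + m + 7 by omega, show m + 4 - 1 = m + 3 by omega] at hf
  rw [show 2 * (m + 4 - 2) = m + m + 4 by omega]
  simp only [pow_add] at hf ⊢
  set P := (q : ℤ) ^ m
  have hP : 1 ≤ P := one_le_pow₀ (by linarith)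
  have h1 : 0 < (q : ℤ) * q - 1 := by nlinarith
  refine lt_of_mul_lt_mul_left ?_ h1.le
  rw [hf]
  have h2 : (0 : ℤ) ≤ ((q : ℤ) * q - 1) * (P * (q : ℤ) ^ 3) := by positivity
  have h3 : (q : ℤ) ≤ 2 * (((q : ℤ) - 1) * ((q : ℤ) * q - 1)) - (q : ℤ) ^ 3 := by nlinarith
  have h4 : (0 : ℤ) ≤ P * P * (q : ℤ) ^ 4 := by positivity
  have h5 := mul_le_mul_of_nonneg_left h3 h4
  have h6 : P * (q : ℤ) ^ 5 ≤ P * P * (q : ℤ) ^ 5 :=
    mul_le_mul_of_nonneg_right (le_mul_of_one_le_left (by linarith) hP) (by positivity)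
  have h7 : (0 : ℤ) < P * (q : ℤ) ^ 3 := by positivity
  rcases hε with rfl | rfl <;> nlinarith

theorem ev_top_two {n : ℕ} (hn : 4 ≤ n) : evf 2 (-1) n < 2 * (coneZ 2 (-1) (n - 1) - 1) := by
  obtain ⟨m, rfl⟩ : ∃ m, n = m + 4 := ⟨n - 4, by omega⟩
  have hf := evf_mul (q := 2) (by norm_num) (-1) (n := m + 4) (by omega)
  rw [coneZ, show 2 * (m + 4) - 1 = m + m + 7 by omega, show m + 4 - 1 = m + 3 by omega] at *
  rw [show 2 * (m + 3) - 1 = m + m + 5 by omega, show m + 3 - 1 = m + 2 by omega]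
  push_cast at *
  simp only [pow_add] at hf ⊢
  have hP : (1 : ℤ) ≤ (2 : ℤ) ^ m := one_le_pow₀ (by norm_num)
  nlinarith

variable {ι : Type} [Fintype ι] [DecidableEq ι] {F : Type*} [Field F] [Fintype F] [DecidableEq F]
variable {Q : QuadraticForm F (ι → F)} {n : ℕ} {ε : ℤ} (S : EvenFrame Q n ε)

namespace EvenFrame

include S

/-- The number of pairs spanning a totally singular plane with given first vector. -/
theorem card_second {u : ι → F} (hu : Q u = 0) (hu0 : u ≠ 0) :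
    Nat.card {a : ι → F // Q a = 0 ∧ polar Q u a = 0 ∧ a ∉ Submodule.span F {u}} =
      Fintype.card F * (Nat.card {x : S.W 1 // Q x.1 = 0} - 1) := by
  classical
  have h0 : 0 < n - 1 := by have := S.hn; omega
  obtain ⟨g, hg⟩ := POmega.exists_O_map S.nd ![S.e 0] ![u]
    (linearIndependent_unique_iff.mpr (S.toHyp.e_ne S.nd h0)) (linearIndependent_unique_iff.mpr hu0)
    (fun i => by fin_cases i; simp [S.Qe 0 h0, hu])
    (fun i j => by fin_cases i; fin_cases j; simp [polar_self', S.Qe 0 h0, hu])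
  have hg0 : app g (S.e 0) = u := hg 0
  have e : {a : ι → F // Q a = 0 ∧ polar Q u a = 0 ∧ a ∉ Submodule.span F {u}} ≃
      {x : S.W 0 // polar Q (S.e 0) x.1 = 0 ∧ Q (S.pr 1 x.1) = 0 ∧ S.pr 1 x.1 ≠ 0} := by
    refine
      { toFun := fun a => ⟨⟨app g⁻¹ a.1, S.mem_W_zero _⟩, ?_⟩
        invFun := fun x => ⟨app g x.1.1, ?_⟩
        left_inv := fun a => Subtype.ext (app_app_inv g a.1)
        right_inv := fun x => Subtype.ext (Subtype.ext (app_inv_app g x.1.1)) }
    · obtain ⟨hQa, hua, hspan⟩ := a.2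
      have hp : polar Q (S.e 0) (app g⁻¹ a.1) = 0 := by
        rw [← polar_app g, app_app_inv, hg0, hua]
      refine ⟨hp, ?_, fun h => hspan ?_⟩
      · rw [(S.toHyp.pr_perp (k := 1) h0 _ fun l hl => by rw [Nat.lt_one_iff.mp hl, hp]).2.1, Q_app, hQa]
      · have hd := S.toHyp.decomp (i := 0) (S.mem_W_zero (app g⁻¹ a.1))
        rw [h, hp, zero_smul, add_zero, add_zero] at hd
        refine Submodule.mem_span_singleton.mpr ⟨polar Q (S.f 0) (app g⁻¹ a.1), ?_⟩
        have h' := congrArg (app g) hd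
        rw [app_app_inv, map_smul, hg0] at h'
        exact h'.symm
    · obtain ⟨hp, hQx, hne⟩ := x.2
      refine ⟨?_, ?_, fun h => hne ?_⟩
      · rw [Q_app, ← (S.toHyp.pr_perp (k := 1) h0 x.1.1 fun l hl => by rw [Nat.lt_one_iff.mp hl, hp]).2.1, hQx]
      · rw [← hg0, polar_app, hp]
      · obtain ⟨c, hc⟩ := Submodule.mem_span_singleton.mp h
        rw [← hg0, ← map_smul] at hc
        rw [← app_injective g hc, map_smul, S.toHyp.pr_e h0 (Nat.lt_one_iff.mpr rfl), smul_zero]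
  have e' : {x : S.W 0 // polar Q (S.e 0) x.1 = 0 ∧ Q (S.pr 1 x.1) = 0 ∧ S.pr 1 x.1 ≠ 0} ≃
      F × {w : S.W 1 // Q w.1 = 0 ∧ w.1 ≠ 0} :=
    { toFun := fun x => (polar Q (S.f 0) x.1.1, ⟨(S.toHyp.splitEquiv h0 x.1).2.2, x.2.2⟩)
      invFun := fun p => ⟨(S.toHyp.splitEquiv h0).symm (p.1, 0, p.2.1), ⟨(S.toHyp.polar_split h0 _ _ p.2.1.2).2, by
        have h' : S.pr 1 ((S.toHyp.splitEquiv h0).symm (p.1, 0, p.2.1)).1 = p.2.1.1 :=
          congrArg (fun z => z.2.2.1) ((S.toHyp.splitEquiv h0).apply_symm_apply (p.1, 0, p.2.1))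
        rw [h']
        exact p.2.2⟩⟩
      left_inv := fun x => Subtype.ext (by
        refine Eq.trans ?_ ((S.toHyp.splitEquiv h0).symm_apply_apply x.1)
        refine congrArg (S.toHyp.splitEquiv h0).symm (Prod.ext rfl (Prod.ext ?_ rfl))
        exact x.2.1.symm)
      right_inv := fun p => by
        have h := (S.toHyp.splitEquiv h0).apply_symm_apply (p.1, 0, p.2.1)
        refine Prod.ext ?_ (Subtype.ext ?_)
        · exact congrArg (fun z => z.1) h
        · exact congrArg (fun z => z.2.2) h }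
  rw [Nat.card_congr (e.trans e'), Nat.card_prod, Nat.card_eq_fintype_card (α := F)]
  congr 1
  rw [Nat.card_eq_fintype_card, Nat.card_eq_fintype_card, Fintype.card_subtype, Fintype.card_subtype,
    ← Finset.card_erase_of_mem (a := (0 : S.W 1)) (by simp)]
  congr 1
  ext w
  simp only [Finset.mem_filter, Finset.mem_erase, Finset.mem_univ, true_and]
  rw [and_comm]
  exact and_congr_left fun _ => ⟨fun h h0 => h (by rw [h0]; rfl), fun h h0 => h (Subtype.ext h0)⟩

/-- The long root element. -/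
noncomputable def x₀ : Om Q := el Q (S.e 0) (S.e 1)

/-- The class of a long root element. -/
theorem card_class :
    (Nat.card {y : Om Q // IsConj S.x₀ y} : ℤ) * Fintype.card F =
      evf (Fintype.card F) ε n * ((Fintype.card F : ℤ) ^ (2 * n - 2) - 1) := by
  classical
  have := S.hn
  have h0 : 0 < n - 1 := by omega
  have h1 : 1 < n - 1 := by omega
  have hQn := S.nd
  have h5 := S.five
  have h01 := S.pee 0 1 h0 h1
  let P := {p : (ι → F) × (ι → F) //
    (Q p.1 = 0 ∧ p.1 ≠ 0) ∧ (Q p.2 = 0 ∧ polar Q p.1 p.2 = 0 ∧ p.2 ∉ Submodule.span F {p.1})}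
  have hli : ∀ p : P, LinearIndependent F ![p.1.2, p.1.1] := fun p =>
    LinearIndependent.pair_iff.mpr fun s t h => by
      have hs : s = 0 := by
        by_contra hs
        refine p.2.2.2.2 (Submodule.mem_span_singleton.mpr ⟨-(s⁻¹ * t), ?_⟩)
        have h' := congrArg (fun y => s⁻¹ • y) h
        simp only [smul_add, smul_smul, inv_mul_cancel₀ hs, one_smul, smul_zero] at h'
        rw [neg_smul, eq_neg_of_add_eq_zero_left h']
      subst hs
      rw [zero_smul, zero_add, smul_eq_zero] at h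
      exact ⟨rfl, h.resolve_right p.2.1.2⟩
  have hmove : ∀ p : P, ∃ g : Om Q, ap g (S.e 0) = p.1.1 ∧ ap g (S.e 1) = p.1.2 := by
    intro p
    obtain ⟨g, -, hg, -⟩ := S.exists_flag (i := 0) (Nat.zero_le _)
      ![S.e 1, S.e 0] ![p.1.2, p.1.1] (fun _ => S.mem_W_zero _) (fun _ => S.mem_W_zero _)
      (Hyp.li_pair (S.toHyp.e_ne hQn h0) (φ := Q.polarBilin (S.f 1))
        (by show polar Q (S.f 1) (S.e 1) ≠ 0; simp [S.pfe (i := 1) (j := 1) h1 h1])
        (by show polar Q (S.f 1) (S.e 0) = 0; simp [S.pfe (i := 1) (j := 0) h1 h0]))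
      (hli p)
      (by intro l; fin_cases l <;> simp [S.Qe 0 h0, S.Qe 1 h1, p.2.1.1, p.2.2.1])
      (by
        intro l l'
        have hp21 : polar Q p.1.2 p.1.1 = 0 := by rw [polar_comm]; exact p.2.2.2.1
        have e10 : polar Q (S.e 1) (S.e 0) = 0 := S.pee 1 0 h1 h0
        have a2 : polar Q p.1.2 p.1.2 = 0 := by rw [polar_self', p.2.2.1, mul_zero]
        have a1 : polar Q p.1.1 p.1.1 = 0 := by rw [polar_self', p.2.1.1, mul_zero]
        fin_cases l <;> fin_cases l'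
        exacts [(S.pee 1 1 h1 h1).trans a2.symm, e10.trans hp21.symm, h01.trans p.2.2.2.1.symm,
          (S.pee 0 0 h0 h0).trans a1.symm])
      (by intro l y hy; fin_cases l <;> exact S.e_perp_base (by omega) y hy)
    exact ⟨g, hg 1, hg 0⟩
  have hconj : ∀ g : Om Q, g * S.x₀ * g⁻¹ = el Q (ap g (S.e 0)) (ap g (S.e 1)) :=
    fun g => el_conj hQn h5 (S.Qe 0 h0) h01 g
  have hcls : ∀ p : P, IsConj S.x₀ (el Q p.1.1 p.1.2) := fun p => by
    obtain ⟨g, hg0, hg1⟩ := hmove p
    exact isConj_iff.mpr ⟨g, by rw [hconj, hg0, hg1]⟩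
  let φ : P → {y : Om Q // IsConj S.x₀ y} := fun p => ⟨_, hcls p⟩
  -- the fibre over `x₀`
  have hcoord : ∀ p : P, el Q p.1.1 p.1.2 = S.x₀ → ∃ M : {p : (F × F) × (F × F) // p.1.1 * p.2.2 - p.1.2 * p.2.1 = 1},
      p.1.1 = M.1.1.1 • S.e 0 + M.1.1.2 • S.e 1 ∧ p.1.2 = M.1.2.1 • S.e 0 + M.1.2.2 • S.e 1 := by
    intro p he
    have hact : ∀ z, polar Q z p.1.1 • p.1.2 - polar Q z p.1.2 • p.1.1 =
        polar Q z (S.e 0) • S.e 1 - polar Q z (S.e 1) • S.e 0 := by
      intro z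
      have h := congrArg (fun y => ap y z - z) he
      simp only [x₀] at h
      rw [ap_el hQn h5 p.2.1.1 p.2.2.2.1, ap_el hQn h5 (S.Qe 0 h0) h01] at h
      simp only [p.2.2.1, S.Qe 1 h1, zero_mul, sub_zero] at h
      linear_combination (norm := module) h
    have hspan1 : p.1.1 ∉ Submodule.span F {p.1.2} := fun h => by
      obtain ⟨c, hc⟩ := Submodule.mem_span_singleton.mp h
      have := LinearIndependent.pair_iff.mp (hli p) c (-1) (by rw [hc]; simp)
      exact one_ne_zero (neg_eq_zero.mp this.2)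
    obtain ⟨z, hz2, hz1⟩ := Orth.exists_polar_eq_zero_one hQn hspan1
    have e2 := hact z
    rw [polar_comm (f := ⇑Q) z p.1.1, hz1, polar_comm (f := ⇑Q) z p.1.2, hz2, one_smul, zero_smul, sub_zero] at e2
    obtain ⟨w, hw1, hw2⟩ := Orth.exists_polar_eq_zero_one hQn p.2.2.2.2
    have e1 := hact w
    rw [polar_comm (f := ⇑Q) w p.1.1, hw1, polar_comm (f := ⇑Q) w p.1.2, hw2, one_smul, zero_smul, zero_sub] at e1
    have h1' : p.1.1 = polar Q w (S.e 1) • S.e 0 + (-polar Q w (S.e 0)) • S.e 1 := by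
      rw [← neg_neg p.1.1, e1]; module
    have h2' : p.1.2 = (-polar Q z (S.e 1)) • S.e 0 + polar Q z (S.e 0) • S.e 1 := by rw [e2]; module
    refine ⟨⟨((polar Q w (S.e 1), -polar Q w (S.e 0)), (-polar Q z (S.e 1), polar Q z (S.e 0))), ?_⟩, h1', h2'⟩
    rw [h1', h2', el_plane hQn h5 (S.Qe 0 h0) (S.Qe 1 h1) h01] at he
    have h := congrArg (fun y => polar Q (S.f 1) (ap y (S.f 0))) he
    simp only [x₀] at h
    have hd : ∀ d : F, polar Q (S.e 0) (d • S.e 1) = 0 := fun d => by rw [polar_smul_right, h01, smul_zero]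
    rw [ap_el hQn h5 (S.Qe 0 h0) (hd _), ap_el hQn h5 (S.Qe 0 h0) h01] at h
    simpa [polar_add_right, polar_smul_right, polar_smul_left, QuadraticMap.map_smul, S.Qe 1 h1,
      S.pfe (i := 0) (j := 0) h0 h0, S.pfe (i := 0) (j := 1) h0 h1, S.pfe (i := 1) (j := 0) h1 h0,
      S.pfe (i := 1) (j := 1) h1 h1, S.pff 1 0 h1 h0, S.pef 0 0 h0 h0, S.pef 1 0 h1 h0] using h
  have hM : ∀ M : {p : (F × F) × (F × F) // p.1.1 * p.2.2 - p.1.2 * p.2.1 = 1},
      (Q (M.1.1.1 • S.e 0 + M.1.1.2 • S.e 1) = 0 ∧ M.1.1.1 • S.e 0 + M.1.1.2 • S.e 1 ≠ 0) ∧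
      (Q (M.1.2.1 • S.e 0 + M.1.2.2 • S.e 1) = 0 ∧
        polar Q (M.1.1.1 • S.e 0 + M.1.1.2 • S.e 1) (M.1.2.1 • S.e 0 + M.1.2.2 • S.e 1) = 0 ∧
        M.1.2.1 • S.e 0 + M.1.2.2 • S.e 1 ∉ Submodule.span F {M.1.1.1 • S.e 0 + M.1.1.2 • S.e 1}) := by
    rintro ⟨⟨⟨p, q⟩, r, s⟩, hdet⟩
    have hd' : p * s - q * r = 1 := hdet
    have hc : ∀ a b : F, polar Q (S.f 0) (a • S.e 0 + b • S.e 1) = a ∧ polar Q (S.f 1) (a • S.e 0 + b • S.e 1) = b :=
      fun a b => by
        simp [polar_add_right, polar_smul_right, S.pfe (i := 0) (j := 0) h0 h0, S.pfe (i := 0) (j := 1) h0 h1,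
          S.pfe (i := 1) (j := 0) h1 h0, S.pfe (i := 1) (j := 1) h1 h1]
    have hQ0 : ∀ a b : F, Q (a • S.e 0 + b • S.e 1) = 0 := fun a b => by
      simp [QuadraticMap.map_add ⇑Q, QuadraticMap.map_smul, polar_smul_left, polar_smul_right, S.Qe 0 h0,
        S.Qe 1 h1, h01]
    refine ⟨⟨hQ0 p q, fun h => ?_⟩, hQ0 r s, ?_, fun h => ?_⟩
    · have := hc p q
      simp only [show p • S.e 0 + q • S.e 1 = 0 from h, polar_zero_right] at this
      rw [← this.1, ← this.2] at hd'
      simp at hd'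
    · simp [polar_add_left, polar_add_right, polar_smul_left, polar_smul_right, S.pee 0 0 h0 h0, h01,
        S.pee 1 0 h1 h0, S.pee 1 1 h1 h1]
    · obtain ⟨c, hcc⟩ := Submodule.mem_span_singleton.mp h
      have hcc' : c • (p • S.e 0 + q • S.e 1) = r • S.e 0 + s • S.e 1 := hcc
      have a := congrArg (fun y => polar Q (S.f 0) y) hcc'
      have b := congrArg (fun y => polar Q (S.f 1) y) hcc'
      simp only [polar_smul_right, (hc _ _).1, (hc _ _).2, smul_eq_mul] at a b
      rw [← a, ← b] at hd'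
      ring_nf at hd'
      exact zero_ne_one hd'
  let Φ : {p : (F × F) × (F × F) // p.1.1 * p.2.2 - p.1.2 * p.2.1 = 1} → {p : P // el Q p.1.1 p.1.2 = S.x₀} :=
    fun M => ⟨⟨(M.1.1.1 • S.e 0 + M.1.1.2 • S.e 1, M.1.2.1 • S.e 0 + M.1.2.2 • S.e 1), hM M⟩,
      (el_plane hQn h5 (S.Qe 0 h0) (S.Qe 1 h1) h01 _ _ _ _).trans (by rw [M.2, one_smul]; rfl)⟩
  have hΦ : Function.Bijective Φ := by
    refine ⟨fun M M' h => ?_, fun p => ?_⟩
    · have h' := congrArg (fun p : {p : P // el Q p.1.1 p.1.2 = S.x₀} =>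
        ((polar Q (S.f 0) p.1.1.1, polar Q (S.f 1) p.1.1.1), (polar Q (S.f 0) p.1.1.2, polar Q (S.f 1) p.1.1.2))) h
      refine Subtype.ext ?_
      simpa [Φ, polar_add_right, polar_smul_right, S.pfe (i := 0) (j := 0) h0 h0, S.pfe (i := 0) (j := 1) h0 h1,
        S.pfe (i := 1) (j := 0) h1 h0, S.pfe (i := 1) (j := 1) h1 h1] using h'
    · obtain ⟨M, hM1, hM2⟩ := hcoord p.1 p.2
      exact ⟨M, Subtype.ext (Subtype.ext (Prod.ext hM1.symm hM2.symm))⟩
  -- all fibres agree
  have hfib : ∀ y : {y : Om Q // IsConj S.x₀ y}, Nat.card {p : P // φ p = y} =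
      (Fintype.card F * Fintype.card F - 1) * Fintype.card F := by
    intro y
    obtain ⟨g, hg⟩ := isConj_iff.mp y.2
    rw [← OddFrame.card_det_one, Nat.card_congr (Equiv.ofBijective Φ hΦ)]
    have hmem : ∀ (h : Om Q) (p : P),
        (Q (ap h p.1.1) = 0 ∧ ap h p.1.1 ≠ 0) ∧ (Q (ap h p.1.2) = 0 ∧ polar Q (ap h p.1.1) (ap h p.1.2) = 0 ∧
          ap h p.1.2 ∉ Submodule.span F {ap h p.1.1}) := by
      intro h p
      refine ⟨⟨by rw [Q_app, p.2.1.1], fun h' => p.2.1.2 (app_injective h.1 (by rw [map_zero]; exact h'))⟩,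
        by rw [Q_app, p.2.2.1], by rw [polar_app, p.2.2.2.1], fun h' => ?_⟩
      obtain ⟨c, hc⟩ := Submodule.mem_span_singleton.mp h'
      exact p.2.2.2.2 (Submodule.mem_span_singleton.mpr ⟨c, app_injective h.1 (by rw [map_smul]; exact hc)⟩)
    refine Nat.card_congr
      { toFun := fun p => ⟨⟨(ap g⁻¹ p.1.1.1, ap g⁻¹ p.1.1.2), hmem _ p.1⟩, ?_⟩
        invFun := fun p => ⟨⟨(ap g p.1.1.1, ap g p.1.1.2), hmem _ p.1⟩, ?_⟩
        left_inv := fun p => Subtype.ext (Subtype.ext (Prod.ext (app_app_inv g.1 _) (app_app_inv g.1 _)))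
        right_inv := fun p => Subtype.ext (Subtype.ext (Prod.ext (app_inv_app g.1 _) (app_inv_app g.1 _))) }
    · show el Q (ap g⁻¹ p.1.1.1) (ap g⁻¹ p.1.1.2) = S.x₀
      have hp : el Q p.1.1.1 p.1.1.2 = y.1 := congrArg Subtype.val p.2
      rw [← el_conj hQn h5 p.1.2.1.1 p.1.2.2.2.1 g⁻¹, hp, ← hg]
      group
    · refine Subtype.ext ?_
      show el Q (ap g p.1.1.1) (ap g p.1.1.2) = y.1
      rw [← el_conj hQn h5 p.1.2.1.1 p.1.2.2.2.1 g, p.2, hg]
  have hP : Nat.card P = (Nat.card {x : S.W 0 // Q x.1 = 0} - 1) *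
      (Fintype.card F * (Nat.card {x : S.W 1 // Q x.1 = 0} - 1)) := by
    let U := {u : ι → F // Q u = 0 ∧ u ≠ 0}
    have e : P ≃ Σ u : U, {a : ι → F // Q a = 0 ∧ polar Q u.1 a = 0 ∧ a ∉ Submodule.span F {u.1}} :=
      { toFun := fun p => ⟨⟨p.1.1, p.2.1⟩, ⟨p.1.2, p.2.2⟩⟩
        invFun := fun s => ⟨(s.1.1, s.2.1), ⟨s.1.2, s.2.2⟩⟩
        left_inv := fun p => rfl
        right_inv := fun s => rfl }
    rw [Nat.card_congr e, Nat.card_sigma, Finset.sum_congr rfl fun u _ => S.card_second u.2.1 u.2.2,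
      Finset.sum_const, smul_eq_mul, Finset.card_univ]
    congr 1
    rw [Nat.card_eq_fintype_card, Fintype.card_subtype, Fintype.card_subtype,
      ← Finset.card_erase_of_mem (a := (0 : S.W 0)) (by simp)]
    refine Finset.card_bij (fun u _ => (⟨u, S.mem_W_zero u⟩ : S.W 0)) (fun u hu => ?_) (fun u _ v _ h => congrArg Subtype.val h)
      (fun w hw => ⟨w.1, ?_, rfl⟩)
    · simp only [Finset.mem_filter, Finset.mem_univ, true_and, Finset.mem_erase] at hu ⊢
      exact ⟨fun h => hu.2 (congrArg Subtype.val h), hu.1⟩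
    · simp only [Finset.mem_filter, Finset.mem_univ, true_and, Finset.mem_erase] at hw ⊢
      exact ⟨hw.2, fun h => hw.1 (Subtype.ext h)⟩
  have hC : Nat.card P = Nat.card {y : Om Q // IsConj S.x₀ y} *
      ((Fintype.card F * Fintype.card F - 1) * Fintype.card F) := by
    rw [← Nat.card_congr (Equiv.sigmaFiberEquiv φ), Nat.card_sigma, Finset.sum_congr rfl fun y _ => hfib y,
      Finset.sum_const, smul_eq_mul, Finset.card_univ, ← Nat.card_eq_fintype_card]
  have hq2 : 2 ≤ Fintype.card F := Fintype.one_lt_card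
  have hc0 : 1 ≤ Nat.card {x : S.W 0 // Q x.1 = 0} := by
    haveI : Nonempty {x : S.W 0 // Q x.1 = 0} := ⟨⟨0, by simp⟩⟩
    exact Nat.card_pos
  have hc1 : 1 ≤ Nat.card {x : S.W 1 // Q x.1 = 0} := by
    haveI : Nonempty {x : S.W 1 // Q x.1 = 0} := ⟨⟨0, by simp⟩⟩
    exact Nat.card_pos
  have hqq : 1 ≤ Fintype.card F * Fintype.card F := Nat.mul_pos (by omega) (by omega)
  have h := congrArg (fun x : ℕ => (x : ℤ)) (hP.symm.trans hC)
  push_cast [Nat.cast_sub hc0, Nat.cast_sub hc1, Nat.cast_sub hqq] at h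
  rw [S.cone_card (Nat.zero_le _), S.cone_card (j := 1) (by omega), Nat.sub_zero] at h
  have hf := evf_mul_factor (show 1 ≤ Fintype.card F by omega) S.hsign (n := n) (by omega)
  have hq' : (2 : ℤ) ≤ (Fintype.card F : ℤ) := by exact_mod_cast hq2
  refine mul_left_cancel₀ (show ((Fintype.card F : ℤ) * Fintype.card F - 1) ≠ 0 by nlinarith) ?_
  obtain ⟨m, hm⟩ : ∃ m, n = m + 2 := ⟨n - 2, by omega⟩
  subst hm
  rw [show m + 2 - 1 = m + 1 by omega] at h hf
  rw [coneZ, coneZ, show 2 * (m + 2) - 1 = 2 * m + 3 by omega, show m + 2 - 1 = m + 1 by omega,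
    show 2 * (m + 1) - 1 = 2 * m + 1 by omega, Nat.add_sub_cancel] at h
  rw [show 2 * (m + 2) - 2 = 2 * m + 2 by omega, ← mul_assoc _ (evf _ _ _), hf]
  rcases S.hsign with rfl | rfl <;> linear_combination -h

variable {V : Type*} [AddCommGroup V] [Module ℂ V] [FiniteDimensional ℂ V] (ρ : Representation ℂ (Om Q) V)

theorem sum_class {i : ℕ} (hi : i + 1 < n - 1) :
    ∑ b ∈ Finset.univ.erase (0 : S.W (i + 1)), S.rk ρ i b = ∑ c : F, S.rk ρ i (S.bstd hi c) *
      ((Finset.univ.erase (0 : S.W (i + 1))).filter fun b => Q b.1 = c).card := by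
  classical
  rw [← Finset.sum_fiberwise (Finset.univ.erase (0 : S.W (i + 1))) (fun b => Q b.1) (fun b => S.rk ρ i b)]
  refine Finset.sum_congr rfl fun c _ => ?_
  rw [Finset.sum_congr rfl (g := fun _ => S.rk ρ i (S.bstd hi c)) fun b hb => ?_, Finset.sum_const, smul_eq_mul,
    mul_comm]
  rw [Finset.mem_filter, Finset.mem_erase] at hb
  rw [S.rk_eq ρ hi b hb.1.1, hb.2]

theorem top_drop (hnt : ∃ g, ρ g ≠ 1)
    (hk : (Module.finrank ℂ V : ℤ) < evf (Fintype.card F) ε n) : S.Drop ρ 0 := by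
  classical
  have := S.hn
  have hi : 0 + 1 < n - 1 := by omega
  set q := Fintype.card F with hqdef
  have hq2 : 2 ≤ q := Fintype.one_lt_card
  set k := Module.finrank ℂ V with hkdef
  set R : F → ℕ := fun c => S.rk ρ 0 (S.bstd hi c) with hR
  have hdrop : (S.dimE ρ 0 : ℂ) - S.tr ρ 0 (S.T 0 (S.xvec hi)) =
      (q : ℂ) ^ (2 * (n - (0 + 1)) - 1) * ((∑ c : F, R c : ℕ) : ℂ) := S.drop_eq ρ hi
  have hpos : ∑ c : F, R c ≠ 0 := by
    intro h0
    rw [h0, Nat.cast_zero, mul_zero, sub_eq_zero, S.dimE_zero ρ S.nd S.five, S.tr_zero ρ S.nd S.five] at hdrop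
    have hx : S.T 0 (S.xvec hi) ∈ SLMinDeg.trivialSub ρ :=
      (Characters.char_eq_degree_iff ρ _).mp hdrop.symm
    haveI : (SLMinDeg.trivialSub ρ).Normal :=
      ⟨fun a ha g => by
        show ρ (g * a * g⁻¹) = 1
        rw [map_mul, map_mul, show ρ a = 1 from ha, mul_one, ← map_mul, mul_inv_cancel, map_one]⟩
    rcases POmega.normal_le_center_or_top S.nd S.five7 (SLMinDeg.trivialSub ρ) with hc | hc
    · obtain ⟨e, -, he⟩ := POmega.center_scalar S.nd S.five7 (hc hx)
      have h01 := S.pee 0 1 (by omega) (by omega)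
      have h := he (S.f 0)
      change ap (el Q (S.e 0) (S.e 1)) (S.f 0) = e • S.f 0 at h
      rw [ap_el S.nd S.five (S.Qe 0 (by omega)) h01] at h
      have := congrArg (fun y => polar Q (S.f 1) y) h
      simp [polar_add_right, polar_smul_right, S.pff 1 0 (by omega) (by omega),
        S.pfe (i := 0) (j := 0) (by omega) (by omega), S.pfe (i := 1) (j := 0) (by omega) (by omega),
        S.pfe (i := 1) (j := 1) (by omega) (by omega)] at this
    · obtain ⟨g, hg⟩ := hnt
      exact hg ((hc ▸ Subgroup.mem_top g : g ∈ SLMinDeg.trivialSub ρ))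
  have hsum : ∑ c : F, R c = 1 := by
    by_contra hne
    have h2 : 2 ≤ ∑ c : F, R c := by omega
    rcases Nat.lt_or_ge q 3 with h3 | h3
    · have hq : q = 2 := by omega
      have hε : ε = -1 := S.hsign.resolve_left fun h => by have := S.hq h; omega
      have hle : (∑ c : F, R c) * (Nat.card {x : S.W 1 // Q x.1 = 0} - 1) ≤ k := by
        rw [hkdef, ← S.dimE_zero ρ S.nd S.five, S.dimE_eq_sum ρ S.nd S.five (i := 0) (by omega)]
        refine le_trans ?_ (Finset.sum_le_sum_of_subset (Finset.erase_subset (0 : S.W (0 + 1)) _))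
        rw [S.sum_class ρ hi, Finset.sum_mul]
        refine Finset.sum_le_sum fun c _ => Nat.mul_le_mul_left _ ?_
        have h := S.card_class_value (i := 0) c (fun _ => True) trivial
        simp only [and_true] at h
        have hle := S.cone_le_count hε (j := 1) (by omega) c
        change _ = Nat.card {b : S.W 1 // Q b.1 = c} at h
        split_ifs at h <;> omega
      have hcone := S.cone_card (j := 1) (by omega)
      have htop := ev_top_two S.hn
      subst hε
      rw [← hqdef, hq] at hcone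
      rw [hq] at hk
      have h' := Nat.mul_le_mul_right (Nat.card {x : S.W 1 // Q x.1 = 0} - 1) h2
      omega
    · have hmoved : (q - 1) * q ^ (2 * (n - (0 + 2))) * ∑ c : F, R c ≤ k := by
        rw [← S.sum_moved ρ hi, hkdef, ← S.dimE_zero ρ S.nd S.five, S.dimE_eq_sum ρ S.nd S.five (by omega)]
        exact Finset.sum_le_sum_of_subset (Finset.subset_univ _)
      have h4 := Nat.mul_le_mul_left ((q - 1) * q ^ (2 * (n - (0 + 2)))) h2
      have h5 : (((q - 1) * q ^ (2 * (n - (0 + 2))) * 2 : ℕ) : ℤ) ≤ (k : ℤ) := by exact_mod_cast le_trans h4 hmoved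
      push_cast [Nat.cast_sub (show 1 ≤ q by omega)] at h5
      have := ev_top_moved h3 S.hn S.hsign
      linarith
  exact ⟨hi, by rw [hdrop, hsum, Nat.cast_one, mul_one]⟩

theorem count_ge {c : F} (hc : c ≠ 0) (hq : Fintype.card F = 2) {j : ℕ} (hj : j ≤ n - 1) :
    Fintype.card F ^ (2 * (n - j)) ≤ Nat.card {x : S.W j // Q x.1 = 0} + Nat.card {x : S.W j // Q x.1 = c} := by
  classical
  have hall : ∀ x : F, x = 0 ∨ x = c := by
    intro x
    by_contra h
    push Not at h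
    have := Finset.card_le_univ ({0, c, x} : Finset F)
    rw [Finset.card_insert_of_notMem (by simp [Ne.symm hc, Ne.symm h.1]),
      Finset.card_insert_of_notMem (by simp [Ne.symm h.2]), Finset.card_singleton, hq] at this
    omega
  rw [← S.card_W hj, Nat.card_eq_fintype_card, Nat.card_eq_fintype_card, Nat.card_eq_fintype_card,
    Fintype.card_subtype (fun x : S.W j => Q x.1 = 0), Fintype.card_subtype (fun x : S.W j => Q x.1 = c)]
  refine le_trans (le_of_eq ?_) (Finset.card_union_le _ _)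
  rw [← Finset.card_univ]
  congr 1
  ext x
  simp only [Finset.mem_univ, Finset.mem_union, Finset.mem_filter, true_and, true_iff]
  exact hall _

/-- The layers above the bottom account for all but the bottom of the bound. -/
theorem lower {a : ℕ} (hbot : S.Drop ρ (n - 3) → evf (Fintype.card F) ε 3 ≤ (S.dimE ρ (n - 3) : ℤ) + a) :
    ∀ d i, i + d = n - 3 → S.Drop ρ i →
      evf (Fintype.card F) ε (n - i) ≤ (S.dimE ρ i : ℤ) + d + a := by
  have := S.hn
  intro d
  induction d with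
  | zero =>
    intro i hi hdr
    obtain rfl : i = n - 3 := by omega
    rw [show n - (n - 3) = 3 by omega, Nat.cast_zero, add_zero]
    exact hbot hdr
  | succ d ih =>
    intro i hi hdr
    have hi1 : i + 1 < n - 1 := by omega
    obtain ⟨c, hp, hc⟩ := S.single_of_drop ρ hdr
    have hl := S.dimE_layer ρ hi1 hp
    set q := Fintype.card F with hqdef
    rw [show n - i = n - (i + 1) + 1 by omega, evf_succ q ε (by omega), ← S.cone_card (j := i + 1) (by omega)]
    by_cases hdir : c ≠ 0 ∧ (2 : F) = 0 ∧ n - (i + 1) = 3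
    · obtain ⟨hc0, h20, hm⟩ := hdir
      have hq3 : q ≤ 3 := by
        by_contra h
        exact hc0 (hc (by omega))
      have hq : q = 2 := by
        have : CharP F 2 := CharTwo.of_one_ne_zero_of_two_eq_zero one_ne_zero h20
        have := FiniteField.even_card_of_char_two (ringChar.eq F 2 ▸ rfl : ringChar F = 2)
        have := Fintype.one_lt_card (α := F)
        omega
      have hε : ε = -1 := S.hsign.resolve_left fun h => by have := S.hq h; omega
      have hge := S.count_ge (c := c) hc0 hq (j := i + 1) (by omega)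
      have hcone := S.cone_card (j := i + 1) (by omega)
      rw [← hqdef, hq, hm] at hge hcone
      rw [if_neg hc0] at hl
      subst hε
      rw [hm, hq]
      generalize Nat.card {x : S.W (i + 1) // Q x.1 = 0} = Z at hge hcone ⊢
      generalize Nat.card {x : S.W (i + 1) // Q x.1 = c} = N at hge hl
      norm_num [evf, coneZ, bsum, Finset.sum_range_succ] at hcone hge ⊢
      omega
    · have hcase : 4 ≤ n - (i + 1) ∨ c = 0 ∨ ((2 : F) ≠ 0 ∧ ε = -1) := by
        by_cases h4 : 4 ≤ n - (i + 1)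
        · exact Or.inl h4
        by_cases hc0 : c = 0
        · exact Or.inr (Or.inl hc0)
        refine Or.inr (Or.inr ⟨fun h => hdir ⟨hc0, h, by omega⟩, ?_⟩)
        exact S.hsign.resolve_left fun h => hc0 (hc (S.hq h))
      have h' := ih (i + 1) (by omega) (S.drop_succ ρ (by omega) hdr hp hcase)
      have hcnt : Nat.card {x : S.W (i + 1) // Q x.1 = 0} ≤ Nat.card {x : S.W (i + 1) // Q x.1 = c} := by
        by_cases hc0 : c = 0
        · rw [hc0]
        · exact S.cone_le_count (S.hsign.resolve_left fun h => hc0 (hc (S.hq h))) (by omega) c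
      split_ifs at hl <;> push_cast <;> omega

/-- The bound, with the one case left by the class of a long root element. -/
theorem degree_or_exception [ρ.IsIrreducible] (hnt : ∃ g, ρ g ≠ 1) {a : ℕ} (ha : a ≤ 1) (ha1 : ε = 1 → a = 0)
    (hbot : S.Drop ρ (n - 3) → evf (Fintype.card F) ε 3 ≤ (S.dimE ρ (n - 3) : ℤ) + a) :
    evf (Fintype.card F) ε n ≤ (Module.finrank ℂ V : ℤ) ∨
      (n = 4 ∧ Fintype.card F = 2 ∧ ε = -1 ∧ Module.finrank ℂ V = 32 ∧ S.Drop ρ 0) := by
  classical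
  by_contra hcon
  push Not at hcon
  obtain ⟨hk, hex⟩ := hcon
  have := S.hn
  have h0 := S.top_drop ρ hnt hk
  have hlow := S.lower ρ hbot (n - 3) 0 (by omega) h0
  rw [S.dimE_zero ρ S.nd S.five, Nat.sub_zero] at hlow
  obtain ⟨hi, hd⟩ := h0
  rw [S.dimE_zero ρ S.nd S.five, S.tr_zero ρ S.nd S.five] at hd
  have hint := Characters.isIntegral_class_mul_char_div ρ S.x₀
  set q := Fintype.card F with hqdef
  set k := Module.finrank ℂ V with hkdef
  change (k : ℂ) - ρ.character S.x₀ = (q : ℂ) ^ (2 * (n - 1) - 1) at hd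
  set C := Nat.card {y : Om Q // IsConj S.x₀ y} with hC
  haveI := Characters.nontrivial_of_irreducible ρ
  have hk0 : k ≠ 0 := Module.finrank_pos.ne'
  have hchi : ρ.character S.x₀ = (k : ℂ) - (q : ℂ) ^ (2 * (n - 1) - 1) := by linear_combination -hd
  rw [hchi] at hint
  have hdvd : k ∣ C * q ^ (2 * (n - 1) - 1) := by
    refine Characters.nat_dvd_of_isIntegral_div hk0 ?_
    have h := (isIntegral_natCast (R := ℤ) (B := ℂ) C).sub hint
    have hk' : (k : ℂ) ≠ 0 := Nat.cast_ne_zero.mpr hk0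
    have e : ((C * q ^ (2 * (n - 1) - 1) : ℕ) : ℂ) / (k : ℂ) =
        (C : ℂ) - (C : ℂ) * ((k : ℂ) - (q : ℂ) ^ (2 * (n - 1) - 1)) / (k : ℂ) := by
      push_cast
      field_simp
      ring
    rw [e]
    exact h
  have hdvdZ : (k : ℤ) ∣ evf q ε n * ((q : ℤ) ^ (2 * n - 2) - 1) * (q : ℤ) ^ (2 * n - 4) := by
    have h : (k : ℤ) ∣ (C : ℤ) * (q : ℤ) ^ (2 * (n - 1) - 1) := by exact_mod_cast hdvd
    rw [← S.card_class, ← hC, mul_assoc, ← pow_succ']
    rwa [show 2 * n - 4 + 1 = 2 * (n - 1) - 1 by omega]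
  obtain ⟨j, hj⟩ : ∃ j : ℕ, (k : ℤ) + j = evf q ε n := ⟨(evf q ε n - k).toNat, by omega⟩
  obtain ⟨r, hp, hr⟩ := FiniteField.card F (ringChar F)
  have hq2 : 2 ≤ q := Fintype.one_lt_card
  by_cases hsp : n = 4 ∧ q = 2 ∧ j = 2
  · obtain ⟨h4, h2, rfl⟩ := hsp
    have hε : ε = -1 := S.hsign.resolve_left fun h => by have := S.hq h; omega
    rw [h4, h2, hε] at hj
    norm_num [evf, bsum, Finset.sum_range_succ] at hj
    exact hex h4 h2 hε (by omega) ⟨hi, by
      rw [S.dimE_zero ρ S.nd S.five, S.tr_zero ρ S.nd S.five]; exact hd⟩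
  · refine ev_no_degree hp (show q = _ from hr) hq2 S.hn S.hsign (j := j) (by omega) (by omega) hsp
      (fun h4 hj2 => S.hsign.resolve_left fun h => ?_) hj hdvdZ
    have := ha1 h
    omega

end EvenFrame

end CfsgLib.OrthDeg
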