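import Cfsg.Agent.Lib.POmega.Basic

set_option autoImplicit false
set_option linter.unusedSectionVars false
set_option linter.style.haveILetI false

/-!
Hyperbolic systems of a quadratic space: the nested complements, their counts, Eichler elements of
`Ω` and extension of partial isometries that fix a singular flag.
-/

namespace CfsgLib.OrthDeg

open QuadraticMap CfsgLib.Orth

variable {ι : Type} [Fintype ι] [DecidableEq ι] {F : Type*} [Field F] {Q : QuadraticForm F (ι → F)}

/-- `m` mutually orthogonal hyperbolic pairs. -/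
structure Hyp (Q : QuadraticForm F (ι → F)) (m : ℕ) where
  e : ℕ → ι → F
  f : ℕ → ι → F
  Qe : ∀ i, i < m → Q (e i) = 0
  Qf : ∀ i, i < m → Q (f i) = 0
  pee : ∀ i j, i < m → j < m → polar Q (e i) (e j) = 0
  pff : ∀ i j, i < m → j < m → polar Q (f i) (f j) = 0
  pef : ∀ i j, i < m → j < m → polar Q (e i) (f j) = if i = j then 1 else 0

variable {m : ℕ} (H : Hyp Q m)

namespace Hyp

/-- The vectors orthogonal to the first `i` pairs. -/
def W (i : ℕ) : Submodule F (ι → F) where
  carrier := {x | ∀ j, j < i → polar Q (H.e j) x = 0 ∧ polar Q (H.f j) x = 0}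
  add_mem' {a b} ha hb := fun j hj => by simp [polar_add_right, (ha j hj).1, (ha j hj).2, (hb j hj).1, (hb j hj).2]
  zero_mem' := fun j _ => by simp [polar_zero_right]
  smul_mem' c a ha := fun j hj => by simp [polar_smul_right, (ha j hj).1, (ha j hj).2]

theorem mem_W {i : ℕ} {x : ι → F} :
    x ∈ H.W i ↔ ∀ j, j < i → polar Q (H.e j) x = 0 ∧ polar Q (H.f j) x = 0 := Iff.rfl

theorem W_anti {i k : ℕ} (h : i ≤ k) : H.W k ≤ H.W i := fun _ hx j hj => hx j (by omega)

theorem perp_e {i j : ℕ} (h : j < i) {x : ι → F} (hx : x ∈ H.W i) :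
    polar Q (H.e j) x = 0 ∧ polar Q x (H.e j) = 0 :=
  ⟨(hx j h).1, by rw [polar_comm, (hx j h).1]⟩

theorem perp_f {i j : ℕ} (h : j < i) {x : ι → F} (hx : x ∈ H.W i) :
    polar Q (H.f j) x = 0 ∧ polar Q x (H.f j) = 0 :=
  ⟨(hx j h).2, by rw [polar_comm, (hx j h).2]⟩

theorem pfe {i j : ℕ} (hi : i < m) (hj : j < m) :
    polar Q (H.f i) (H.e j) = if i = j then 1 else 0 := by
  rw [polar_comm, H.pef j i hj hi]
  by_cases h : i = j <;> simp [h, Ne.symm]

theorem e_mem_W {i k : ℕ} (h : i ≤ k) (hk : k < m) : H.e k ∈ H.W i := fun j hj =>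
  ⟨H.pee j k (by omega) hk, by rw [H.pfe (by omega) hk, if_neg (by omega)]⟩

theorem f_mem_W {i k : ℕ} (h : i ≤ k) (hk : k < m) : H.f k ∈ H.W i := fun j hj =>
  ⟨by rw [H.pef j k (by omega) hk, if_neg (by omega)], H.pff j k (by omega) hk⟩

theorem mem_W_zero (x : ι → F) : x ∈ H.W 0 := fun j hj => absurd hj (Nat.not_lt_zero j)

/-- The projection on `W i`. -/
def pr : ℕ → (ι → F) →ₗ[F] (ι → F)
  | 0 => LinearMap.id
  | i + 1 => pr i - ((Q.polarBilin (H.f i)).smulRight (H.e i) + (Q.polarBilin (H.e i)).smulRight (H.f i))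

theorem pr_zero (x : ι → F) : H.pr 0 x = x := rfl

theorem pr_succ (i : ℕ) (x : ι → F) :
    H.pr (i + 1) x = H.pr i x - (polar Q (H.f i) x • H.e i + polar Q (H.e i) x • H.f i) := by
  simp [pr]

theorem pr_spec : ∀ {i : ℕ}, i ≤ m → ∀ x : ι → F,
    H.pr i x ∈ H.W i ∧ ∀ y ∈ H.W i, polar Q (H.pr i x) y = polar Q x y
  | 0, _, x => ⟨H.mem_W_zero _, fun y _ => rfl⟩
  | i + 1, hi, x => by
    obtain ⟨h1, h2⟩ := pr_spec (i := i) (by omega) x
    have hfx : polar Q (H.f i) (H.pr i x) = polar Q (H.f i) x := by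
      rw [polar_comm, h2 _ (H.f_mem_W le_rfl (by omega)), polar_comm]
    have hex : polar Q (H.e i) (H.pr i x) = polar Q (H.e i) x := by
      rw [polar_comm, h2 _ (H.e_mem_W le_rfl (by omega)), polar_comm]
    refine ⟨fun j hj => ?_, fun y hy => ?_⟩
    · rcases Nat.lt_succ_iff_lt_or_eq.mp hj with hj | rfl
      · simp [pr_succ, polar_sub_right, polar_add_right, polar_smul_right, (h1 j hj).1, (h1 j hj).2,
          H.pee j i (by omega) (by omega), H.pff j i (by omega) (by omega), H.pef j i (by omega) (by omega),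
          H.pfe (i := j) (j := i) (by omega) (by omega), hj.ne]
      · simp [pr_succ, polar_sub_right, polar_add_right, polar_smul_right, hfx, hex,
          H.pee j j (by omega) (by omega), H.pff j j (by omega) (by omega), H.pef j j (by omega) (by omega),
          H.pfe (i := j) (j := j) (by omega) (by omega)]
    · simp [pr_succ, polar_sub_left, polar_add_left, polar_smul_left,
        h2 y (H.W_anti (Nat.le_succ i) hy), (H.perp_e (Nat.lt_succ_self i) hy).1,
        (H.perp_f (Nat.lt_succ_self i) hy).1]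

theorem pr_mem {i : ℕ} (hi : i ≤ m) (x : ι → F) : H.pr i x ∈ H.W i := (H.pr_spec hi x).1

theorem polar_pr {i : ℕ} (hi : i ≤ m) (x : ι → F) {y : ι → F} (hy : y ∈ H.W i) :
    polar Q (H.pr i x) y = polar Q x y := (H.pr_spec hi x).2 y hy

theorem pr_eq_self : ∀ {i : ℕ} {x : ι → F}, x ∈ H.W i → H.pr i x = x
  | 0, _, _ => rfl
  | i + 1, x, hx => by
    rw [pr_succ, pr_eq_self (H.W_anti (Nat.le_succ i) hx), (H.perp_e (Nat.lt_succ_self i) hx).1,
      (H.perp_f (Nat.lt_succ_self i) hx).1, zero_smul, zero_smul, add_zero, sub_zero]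

theorem pr_e {i j : ℕ} (hi : i ≤ m) (hj : j < i) : H.pr i (H.e j) = 0 := by
  induction i with
  | zero => omega
  | succ i ih =>
    rcases Nat.lt_succ_iff_lt_or_eq.mp hj with hj | rfl
    · simp [pr_succ, ih (by omega) hj, H.pfe (i := i) (j := j) (by omega) (by omega), hj.ne',
        H.pee i j (by omega) (by omega)]
    · simp [pr_succ, H.pr_eq_self (H.e_mem_W (i := j) le_rfl (by omega)),
        H.pfe (i := j) (j := j) (by omega) (by omega), H.pee j j (by omega) (by omega)]

theorem pr_f {i j : ℕ} (hi : i ≤ m) (hj : j < i) : H.pr i (H.f j) = 0 := by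
  induction i with
  | zero => omega
  | succ i ih =>
    rcases Nat.lt_succ_iff_lt_or_eq.mp hj with hj | rfl
    · simp [pr_succ, ih (by omega) hj, H.pef i j (by omega) (by omega), hj.ne',
        H.pff i j (by omega) (by omega)]
    · simp [pr_succ, H.pr_eq_self (H.f_mem_W (i := j) le_rfl (by omega)),
        H.pef j j (by omega) (by omega), H.pff j j (by omega) (by omega)]

theorem W_nondeg (hQ : Q.polarBilin.Nondegenerate) {i : ℕ} (hi : i ≤ m) {a : ι → F} (ha : a ∈ H.W i)
    (h : ∀ b ∈ H.W i, polar Q b a = 0) : a = 0 :=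
  eq_zero_of_polar hQ fun y => by
    rw [polar_comm, ← H.polar_pr hi y ha]
    exact h _ (H.pr_mem hi y)

/-- The splitting `W i = ⟨e i, f i⟩ ⊕ W (i+1)`. -/
theorem decomp {i : ℕ} {x : ι → F} (hx : x ∈ H.W i) :
    x = polar Q (H.f i) x • H.e i + polar Q (H.e i) x • H.f i + H.pr (i + 1) x := by
  rw [pr_succ, H.pr_eq_self hx]; abel

theorem Q_split {i : ℕ} (hi : i < m) (a b : F) {w : ι → F} (hw : w ∈ H.W (i + 1)) :
    Q (a • H.e i + b • H.f i + w) = a * b + Q w := by
  simp [QuadraticMap.map_add ⇑Q, QuadraticMap.map_smul, polar_add_left, polar_smul_left, polar_smul_right,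
    H.Qe i hi, H.Qf i hi, H.pef i i hi hi, (H.perp_e (Nat.lt_succ_self i) hw).1,
    (H.perp_f (Nat.lt_succ_self i) hw).1, mul_comm]

theorem polar_split {i : ℕ} (hi : i < m) (a b : F) {w : ι → F} (hw : w ∈ H.W (i + 1)) :
    polar Q (H.f i) (a • H.e i + b • H.f i + w) = a ∧ polar Q (H.e i) (a • H.e i + b • H.f i + w) = b := by
  constructor <;>
  simp [polar_add_right, polar_smul_right, H.pef i i hi hi, H.pfe (i := i) (j := i) hi hi, H.pee i i hi hi,
    H.pff i i hi hi, (H.perp_e (Nat.lt_succ_self i) hw).1, (H.perp_f (Nat.lt_succ_self i) hw).1]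

theorem split_mem {i : ℕ} (hi : i < m) (a b : F) {w : ι → F} (hw : w ∈ H.W (i + 1)) :
    a • H.e i + b • H.f i + w ∈ H.W i :=
  add_mem (add_mem ((H.W i).smul_mem a (H.e_mem_W le_rfl hi)) ((H.W i).smul_mem b (H.f_mem_W le_rfl hi)))
    (H.W_anti (Nat.le_succ i) hw)

/-- `W i ≃ F × F × W (i+1)`. -/
def splitEquiv {i : ℕ} (hi : i < m) : H.W i ≃ F × F × H.W (i + 1) where
  toFun x := (polar Q (H.f i) x.1, polar Q (H.e i) x.1, ⟨H.pr (i + 1) x.1, H.pr_mem hi x.1⟩)
  invFun p := ⟨p.1 • H.e i + p.2.1 • H.f i + p.2.2.1, H.split_mem hi _ _ p.2.2.2⟩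
  left_inv x := Subtype.ext (H.decomp x.2).symm
  right_inv p := by
    obtain ⟨a, b, w⟩ := p
    obtain ⟨h1, h2⟩ := H.polar_split hi a b w.2
    refine Prod.ext h1 (Prod.ext h2 (Subtype.ext ?_))
    show H.pr (i + 1) (a • H.e i + b • H.f i + w.1) = w.1
    rw [map_add, map_add, map_smul, map_smul, H.pr_e (by omega) (Nat.lt_succ_self i),
      H.pr_f (by omega) (Nat.lt_succ_self i), H.pr_eq_self w.2]
    simp

section Count

variable [Fintype F]

theorem card_W {i : ℕ} (hi : i < m) :
    Nat.card (H.W i) = Fintype.card F * (Fintype.card F * Nat.card (H.W (i + 1))) := by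
  rw [Nat.card_congr (H.splitEquiv hi), Nat.card_prod, Nat.card_prod, Nat.card_eq_fintype_card]

/-- the number of vectors of `W i` of value `c`, in an invariant subset `P` of the tail -/
theorem card_value {i : ℕ} (hi : i < m) (c : F) (P : (ι → F) → Prop)
    (hP : ∀ a b : F, ∀ w ∈ H.W (i + 1), P (a • H.e i + b • H.f i + w) ↔ P w) :
    Nat.card {x : H.W i // Q x.1 = c ∧ P x.1} =
      (Fintype.card F - 1) * Nat.card {w : H.W (i + 1) // P w.1} +
        Fintype.card F * Nat.card {w : H.W (i + 1) // Q w.1 = c ∧ P w.1} := by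
  classical
  haveI : Fintype (H.W (i + 1)) := Fintype.ofFinite _
  have e : {x : H.W i // Q x.1 = c ∧ P x.1} ≃
      Σ w : {w : H.W (i + 1) // P w.1}, {p : F × F // p.1 * p.2 = c - Q w.1.1} :=
    { toFun := fun x => ⟨⟨(H.splitEquiv hi x.1).2.2, (hP _ _ _ (H.pr_mem hi x.1.1)).mp
          (by rw [← H.decomp x.1.2]; exact x.2.2)⟩,
        ⟨((H.splitEquiv hi x.1).1, (H.splitEquiv hi x.1).2.1), eq_sub_of_add_eq (by
          show polar Q (H.f i) x.1.1 * polar Q (H.e i) x.1.1 + Q (H.pr (i + 1) x.1.1) = c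
          rw [← H.Q_split hi _ _ (H.pr_mem hi x.1.1), ← H.decomp x.1.2]; exact x.2.1)⟩⟩
      invFun := fun s => ⟨(H.splitEquiv hi).symm (s.2.1.1, s.2.1.2, s.1.1), ⟨by
          show Q (s.2.1.1 • H.e i + s.2.1.2 • H.f i + s.1.1.1) = c
          rw [H.Q_split hi _ _ s.1.1.2, s.2.2, sub_add_cancel],
          (hP _ _ _ s.1.1.2).mpr s.1.2⟩⟩
      left_inv := fun x => Subtype.ext ((H.splitEquiv hi).symm_apply_apply x.1)
      right_inv := fun s => by
        obtain ⟨⟨w, hw⟩, ⟨⟨a, b⟩, hab⟩⟩ := s
        have h := (H.splitEquiv hi).apply_symm_apply (a, b, w)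
        refine Sigma.subtype_ext (Subtype.ext ?_) ?_
        · exact congrArg (fun p => p.2.2) h
        · exact congrArg (fun p => (p.1, p.2.1)) h }
  have hp : ∀ d : F, Nat.card {p : F × F // p.1 * p.2 = d} =
      (Fintype.card F - 1) + if d = 0 then Fintype.card F else 0 := by
    intro d
    by_cases hd : d = 0
    · subst hd
      rw [if_pos rfl, Nat.card_congr (Equiv.subtypeEquivRight (q := fun p : F × F => p.1 = 0 ∨ p.2 = 0)
        fun p => mul_eq_zero), Nat.card_eq_fintype_card, Fintype.card_subtype, Finset.filter_or]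
      have h1 : (Finset.univ.filter fun p : F × F => p.1 = 0) = ({0} : Finset F) ×ˢ Finset.univ := by
        ext p
        rw [Finset.mem_filter, Finset.mem_product, Finset.mem_singleton]
        simp only [Finset.mem_univ, true_and, and_true]
      have h2 : (Finset.univ.filter fun p : F × F => p.2 = 0) = Finset.univ ×ˢ ({0} : Finset F) := by
        ext p
        rw [Finset.mem_filter, Finset.mem_product, Finset.mem_singleton]
        simp only [Finset.mem_univ, true_and]
      have h3 : (Finset.univ.filter fun p : F × F => p.1 = 0) ∩ (Finset.univ.filter fun p : F × F => p.2 = 0) =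
          {((0 : F), (0 : F))} := by
        ext p; simp [Prod.ext_iff]
      have := Finset.card_union_add_card_inter (Finset.univ.filter fun p : F × F => p.1 = 0)
        (Finset.univ.filter fun p : F × F => p.2 = 0)
      rw [h3, Finset.card_singleton, h1, h2, Finset.card_product, Finset.card_product, Finset.card_singleton,
        Finset.card_univ] at this
      rw [h1, h2]
      have := Fintype.card_pos (α := F)
      omega
    · rw [if_neg hd, add_zero]
      have e2 : {p : F × F // p.1 * p.2 = d} ≃ {a : F // a ≠ 0} :=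
        { toFun := fun p => ⟨p.1.1, fun h => hd (by rw [← p.2, h, zero_mul])⟩
          invFun := fun a => ⟨(a.1, a.1⁻¹ * d), by rw [← mul_assoc, mul_inv_cancel₀ a.2, one_mul]⟩
          left_inv := fun p => Subtype.ext (Prod.ext rfl (by
            have : p.1.1 ≠ 0 := fun h => hd (by rw [← p.2, h, zero_mul])
            show p.1.1⁻¹ * d = p.1.2
            rw [inv_mul_eq_iff_eq_mul₀ this]
            exact p.2.symm))
          right_inv := fun a => rfl }
      rw [Nat.card_congr e2, Nat.card_eq_fintype_card, Fintype.card_subtype_compl, Fintype.card_subtype_eq]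
  rw [Nat.card_congr e, Nat.card_sigma, Finset.sum_congr rfl fun w _ => hp _, Finset.sum_add_distrib,
    Finset.sum_const, Finset.card_univ, Finset.sum_ite, Finset.sum_const, Finset.sum_const_zero, add_zero,
    smul_eq_mul, smul_eq_mul, mul_comm (Fintype.card _) (Fintype.card F - 1),
    mul_comm (Finset.card _) (Fintype.card F), ← Nat.card_eq_fintype_card]
  congr 2
  · exact Nat.card_eq_fintype_card.symm
  rw [← Fintype.card_subtype, ← Nat.card_eq_fintype_card]
  exact Nat.card_congr
    { toFun := fun w => ⟨w.1.1, (sub_eq_zero.mp w.2).symm, w.1.2⟩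
      invFun := fun w => ⟨⟨w.1, w.2.2⟩, sub_eq_zero.mpr w.2.1.symm⟩
      left_inv := fun w => rfl
      right_inv := fun w => rfl }

theorem card_value' {i : ℕ} (hi : i < m) (c : F) :
    Nat.card {x : H.W i // Q x.1 = c} = (Fintype.card F - 1) * Nat.card (H.W (i + 1)) +
      Fintype.card F * Nat.card {w : H.W (i + 1) // Q w.1 = c} := by
  have h := H.card_value hi c (fun _ => True) (fun _ _ _ _ => Iff.rfl)
  simpa using h

/-- vectors of `W i` of value `c` not orthogonal to `e i` -/
theorem card_moved {i : ℕ} (hi : i < m) (c : F) :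
    Nat.card {x : H.W i // Q x.1 = c ∧ polar Q (H.e i) x.1 ≠ 0} =
      (Fintype.card F - 1) * Nat.card (H.W (i + 1)) := by
  classical
  have e : {x : H.W i // Q x.1 = c ∧ polar Q (H.e i) x.1 ≠ 0} ≃ {b : F // b ≠ 0} × H.W (i + 1) :=
    { toFun := fun x => (⟨polar Q (H.e i) x.1.1, x.2.2⟩, (H.splitEquiv hi x.1).2.2)
      invFun := fun p => ⟨(H.splitEquiv hi).symm ((c - Q p.2.1) / p.1.1, p.1.1, p.2), ⟨by
          show Q (((c - Q p.2.1) / p.1.1) • H.e i + p.1.1 • H.f i + p.2.1) = c
          rw [H.Q_split hi _ _ p.2.2, div_mul_cancel₀ _ p.1.2, sub_add_cancel], by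
          show polar Q (H.e i) (((c - Q p.2.1) / p.1.1) • H.e i + p.1.1 • H.f i + p.2.1) ≠ 0
          rw [(H.polar_split hi _ _ p.2.2).2]; exact p.1.2⟩⟩
      left_inv := fun x => Subtype.ext (by
        show (H.splitEquiv hi).symm ((c - Q (H.pr (i + 1) x.1.1)) / polar Q (H.e i) x.1.1,
          polar Q (H.e i) x.1.1, (H.splitEquiv hi x.1).2.2) = x.1
        refine Eq.trans ?_ ((H.splitEquiv hi).symm_apply_apply x.1)
        refine congrArg (H.splitEquiv hi).symm ?_
        refine Prod.ext ?_ rfl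
        show (c - Q (H.pr (i + 1) x.1.1)) / polar Q (H.e i) x.1.1 = polar Q (H.f i) x.1.1
        rw [div_eq_iff x.2.2, sub_eq_iff_eq_add, ← H.Q_split hi _ _ (H.pr_mem hi x.1.1),
          ← H.decomp x.1.2, x.2.1])
      right_inv := fun p => by
        have h := (H.splitEquiv hi).apply_symm_apply ((c - Q p.2.1) / p.1.1, p.1.1, p.2)
        exact Prod.ext (Subtype.ext (congrArg (fun z => z.2.1) h)) (congrArg (fun z => z.2.2) h) }
  rw [Nat.card_congr e, Nat.card_prod, Nat.card_eq_fintype_card (α := {b : F // b ≠ 0}),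
    Fintype.card_subtype_compl, Fintype.card_subtype_eq]

end Count

/-- Partial isometries on `W i` extend to isometries fixing the first `i` vectors `e`. -/
theorem flag_map (hQ : Q.polarBilin.Nondegenerate) {i : ℕ} (hi : i ≤ m) {κ : Type*} [Fintype κ]
    (v v' : κ → ι → F) (hv : ∀ k, v k ∈ H.W i) (hv' : ∀ k, v' k ∈ H.W i) (hl : LinearIndependent F v)
    (hl' : LinearIndependent F v') (hq : ∀ k, Q (v k) = Q (v' k))
    (hp : ∀ k l, polar Q (v k) (v l) = polar Q (v' k) (v' l)) :
    ∃ g : O Q, (∀ j, j < i → app g (H.e j) = H.e j) ∧ ∀ k, app g (v k) = v' k := by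
  classical
  have li : ∀ w : κ → ι → F, (∀ k, w k ∈ H.W i) → LinearIndependent F w →
      LinearIndependent F (Sum.elim (fun j : Fin i => H.e j) w) := by
    intro w hw hwl
    rw [Fintype.linearIndependent_iff]
    intro g hg
    rw [Fintype.sum_sum_type] at hg
    simp only [Sum.elim_inl, Sum.elim_inr] at hg
    have h1 := congrArg (H.pr i) hg
    simp only [map_add, map_sum, map_smul, map_zero, H.pr_e hi (Fin.is_lt _), smul_zero,
      Finset.sum_const_zero, zero_add, H.pr_eq_self (hw _)] at h1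
    have hr := Fintype.linearIndependent_iff.mp hwl (fun k => g (Sum.inr k)) h1
    rintro (j | k)
    · have h2 := congrArg (fun y => polar Q (H.f j.1) y) hg
      simp only [hr, zero_smul, Finset.sum_const_zero, add_zero, polar_zero_right] at h2
      have hpb : ∀ y, polar Q (H.f j.1) y = Q.polarBilin (H.f j.1) y := fun y => rfl
      rw [hpb, map_sum] at h2
      simp only [← hpb, polar_smul_right, smul_eq_mul] at h2
      rw [Finset.sum_eq_single j (fun l _ hl => by
        rw [H.pfe (by omega) (by omega), if_neg (fun h => hl (Fin.ext h).symm), mul_zero]) (by simp),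
        H.pfe (by omega) (by omega), if_pos rfl, mul_one] at h2
      exact h2
    · exact hr k
  let ε := (Fintype.equivFin (Fin i ⊕ κ)).symm
  obtain ⟨g, hg⟩ := POmega.exists_O_map hQ (fun k => Sum.elim (fun j : Fin i => H.e j) v (ε k))
    (fun k => Sum.elim (fun j : Fin i => H.e j) v' (ε k))
    ((li v hv hl).comp _ ε.injective) ((li v' hv' hl').comp _ ε.injective)
    (fun k => by cases ε k <;> simp [hq])
    (fun k l => by
      cases ε k <;> cases ε l <;>
        simp [hp, (H.perp_e (Fin.is_lt _) (hv _)).1, (H.perp_e (Fin.is_lt _) (hv _)).2,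
          (H.perp_e (Fin.is_lt _) (hv' _)).1, (H.perp_e (Fin.is_lt _) (hv' _)).2])
  refine ⟨g, fun j hj => ?_, fun k => ?_⟩
  · simpa using hg (ε.symm (Sum.inl ⟨j, hj⟩))
  · simpa using hg (ε.symm (Sum.inr k))

theorem li_pair {x y : ι → F} (hy : y ≠ 0) {φ : (ι → F) →ₗ[F] F} (hx : φ x ≠ 0) (hφy : φ y = 0) :
    LinearIndependent F ![x, y] := by
  rw [LinearIndependent.pair_iff]
  intro s t h
  have h1 : s = 0 := by simpa [hφy, hx] using congrArg φ h
  subst h1
  simp only [zero_smul, zero_add, smul_eq_zero] at h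
  exact ⟨rfl, h.resolve_right hy⟩

end Hyp

/-! ### Elements of `Ω` -/

/-- the linear map of an element of `Ω` -/
noncomputable abbrev ap (g : commutator (O Q)) : (ι → F) →ₗ[F] (ι → F) := app g.1

open scoped Classical in
/-- the Eichler transformation as an element of `Ω` -/
noncomputable def el (Q : QuadraticForm F (ι → F)) (u a : ι → F) : commutator (O Q) :=
  if h : eich Q u a ∈ commutator (O Q) then ⟨eich Q u a, h⟩ else 1

variable [Fintype F] (hQ : Q.polarBilin.Nondegenerate) (hn : 5 ≤ Fintype.card ι)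
include hQ hn

theorem el_val {u a : ι → F} (hu : Q u = 0) (ha : polar Q u a = 0) : (el Q u a).1 = eich Q u a := by
  rw [el, dif_pos (POmega.eich_mem_commutator hQ hn hu ha)]

theorem ap_el {u a : ι → F} (hu : Q u = 0) (ha : polar Q u a = 0) (x : ι → F) :
    ap (el Q u a) x = x + polar Q x u • a + (-(polar Q x a) - Q a * polar Q x u) • u := by
  rw [ap, el_val hQ hn hu ha, app_eich hu ha]

theorem el_add {u a b : ι → F} (hu : Q u = 0) (ha : polar Q u a = 0) (hb : polar Q u b = 0) :
    el Q u a * el Q u b = el Q u (a + b) := by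
  refine Subtype.ext ?_
  rw [Subgroup.coe_mul, el_val hQ hn hu ha, el_val hQ hn hu hb,
    el_val hQ hn hu (by rw [polar_add_right, ha, hb, add_zero]), eich_add hu ha hb]

theorem el_conj {u a : ι → F} (hu : Q u = 0) (ha : polar Q u a = 0) (g : commutator (O Q)) :
    g * el Q u a * g⁻¹ = el Q (ap g u) (ap g a) := by
  refine Subtype.ext ?_
  rw [Subgroup.coe_mul, Subgroup.coe_mul, Subgroup.coe_inv, el_val hQ hn hu ha,
    el_val hQ hn (by rw [Q_app, hu]) (by rw [polar_app, ha]), eich_conj hu ha]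

theorem el_add_smul {u a : ι → F} (hu : Q u = 0) (ha : polar Q u a = 0) (t : F) :
    el Q u (a + t • u) = el Q u a := by
  refine Subtype.ext ?_
  have hu2 : polar Q u u = 0 := by rw [polar_self', hu, mul_zero]
  rw [el_val hQ hn hu ha, el_val hQ hn hu (by rw [polar_add_right, polar_smul_right, ha, hu2, smul_zero, add_zero]),
    POmega.eich_add_smul hu ha t]

theorem el_smul {u a : ι → F} (hu : Q u = 0) (ha : polar Q u a = 0) (t : F) :
    el Q (t • u) a = el Q u (t • a) := by
  refine Subtype.ext ?_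
  rw [el_val hQ hn (by rw [QuadraticMap.map_smul, hu, smul_zero]) (by rw [polar_smul_left, ha, smul_zero]),
    el_val hQ hn hu (by rw [polar_smul_right, ha, smul_zero]), POmega.eich_smul hu ha t]

/-- The long root element depends on the plane and the determinant. -/
theorem el_plane {u a : ι → F} (hu : Q u = 0) (ha0 : Q a = 0) (ha : polar Q u a = 0) (p q r s : F) :
    el Q (p • u + q • a) (r • u + s • a) = el Q u ((p * s - q * r) • a) := by
  have hu2 : polar Q u u = 0 := by rw [polar_self', hu, mul_zero]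
  have ha2 : polar Q a a = 0 := by rw [polar_self', ha0, mul_zero]
  have hau : polar Q a u = 0 := by rw [polar_comm, ha]
  have h1 : Q (p • u + q • a) = 0 := by
    simp [QuadraticMap.map_add ⇑Q, QuadraticMap.map_smul, polar_smul_left, polar_smul_right, hu, ha0, ha]
  have h2 : Q (r • u + s • a) = 0 := by
    simp [QuadraticMap.map_add ⇑Q, QuadraticMap.map_smul, polar_smul_left, polar_smul_right, hu, ha0, ha]
  have h3 : polar Q (p • u + q • a) (r • u + s • a) = 0 := by
    simp [polar_add_left, polar_add_right, polar_smul_left, polar_smul_right, hu2, ha2, ha, hau]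
  refine Subtype.ext (ext_app fun x => ?_)
  show ap (el Q _ _) x = ap (el Q _ _) x
  rw [ap_el hQ hn h1 h3, ap_el hQ hn hu (by rw [polar_smul_right, ha, smul_zero]), h2]
  simp only [polar_add_right, polar_smul_right, QuadraticMap.map_smul, ha0, smul_eq_mul]
  module

/-- The long root element is alternating in its two vectors. -/
theorem el_swap {u a : ι → F} (hu : Q u = 0) (ha0 : Q a = 0) (ha : polar Q u a = 0) :
    el Q a (-u) = el Q u a := by
  have h := el_plane hQ hn hu ha0 ha 0 1 (-1) 0
  simpa using h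

end CfsgLib.OrthDeg
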