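import Cfsg.Agent.Lib.OrthDeg.Avg
import Cfsg.Agent.Lib.OrthDeg.Frame

set_option autoImplicit false
set_option linter.unusedSectionVars false
set_option linter.style.haveILetI false

/-!
The iterated unipotent radicals of a singular flag in `Ω` and the decomposition of a representation by
their eigencharacters: layers, their moves and the drop formula at a long root element.
-/

namespace CfsgLib.OrthDeg

open QuadraticMap CfsgLib.Orth CfsgLib.KnownSimple.ModulePerm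

variable {ι : Type} [Fintype ι] [DecidableEq ι] {F : Type*} [Field F] [Fintype F]
  {Q : QuadraticForm F (ι → F)} {m : ℕ}

/-- `Ω(Q)` -/
abbrev Om (Q : QuadraticForm F (ι → F)) : Subgroup (O Q) := commutator (O Q)

namespace Hyp

variable (H : Hyp Q m)

theorem pr_perp : ∀ {k : ℕ}, k ≤ m → ∀ (y : ι → F), (∀ l, l < k → polar Q (H.e l) y = 0) →
    (∀ x, (∀ l, l < k → polar Q (H.e l) x = 0) → polar Q x (H.pr k y) = polar Q x y) ∧
      Q (H.pr k y) = Q y ∧ ∀ l, l < m → polar Q (H.e l) (H.pr k y) = polar Q (H.e l) y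
  | 0, _, y, _ => ⟨fun _ _ => rfl, rfl, fun _ _ => rfl⟩
  | k + 1, hk, y, hy => by
    obtain ⟨h1, h2, h3⟩ := pr_perp (k := k) (by omega) y fun l hl => hy l (by omega)
    have e : H.pr (k + 1) y = H.pr k y + (-polar Q (H.f k) y) • H.e k := by
      rw [pr_succ, hy k (by omega), zero_smul, add_zero, neg_smul, sub_eq_add_neg]
    refine ⟨fun x hx => ?_, ?_, fun l hl => ?_⟩
    · rw [e, polar_add_right, polar_smul_right, polar_comm (f := ⇑Q) x (H.e k), hx k (by omega), smul_zero,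
        add_zero, h1 x fun l hl => hx l (by omega)]
    · rw [e, QuadraticMap.map_add ⇑Q, QuadraticMap.map_smul, polar_smul_right,
        polar_comm (f := ⇑Q) (H.pr k y) (H.e k), h3 k (by omega), hy k (by omega), H.Qe k (by omega), h2]
      simp
    · rw [e, polar_add_right, polar_smul_right, H.pee l k hl (by omega), smul_zero, add_zero, h3 l hl]

/-- The root group of level `i`. -/
noncomputable def T (i : ℕ) (a : H.W (i + 1)) : Om Q := el Q (H.e i) a.1

/-- The product of the first `i` radicals. -/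
noncomputable def R (i : ℕ) : Subgroup (Om Q) :=
  Subgroup.closure {x | ∃ j, j < i ∧ ∃ a ∈ H.W (j + 1), x = el Q (H.e j) a}

/-- The elements preserving the first `i` lines of the flag. -/
def Flag (i : ℕ) (g : Om Q) : Prop := ∀ j, j < i → ∃ c : F, ap g (H.e j) = c • H.e j

theorem R_mono {i k : ℕ} (h : i ≤ k) : H.R i ≤ H.R k :=
  Subgroup.closure_mono fun _ ⟨j, hj, r⟩ => ⟨j, by omega, r⟩

variable (hQ : Q.polarBilin.Nondegenerate) (hn : 5 ≤ Fintype.card ι)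
include hQ hn

theorem el_gen_mem {i j : ℕ} (hj : j < i) {a : ι → F} (ha : a ∈ H.W (j + 1)) : el Q (H.e j) a ∈ H.R i :=
  Subgroup.subset_closure ⟨j, hj, a, ha, rfl⟩

theorem el_reduce {j : ℕ} (hj : j < m) {a : ι → F} (ha : ∀ l, l ≤ j → polar Q (H.e l) a = 0) :
    (el Q (H.e j) (H.pr (j + 1) a))⁻¹ * el Q (H.e j) a ∈ H.R j := by
  suffices ∀ k, k ≤ j + 1 → (el Q (H.e j) (H.pr k a))⁻¹ * el Q (H.e j) a ∈ H.R j from this (j + 1) le_rfl
  intro k hk
  induction k with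
  | zero => rw [pr_zero, inv_mul_cancel]; exact one_mem _
  | succ k ih =>
    have hak : ∀ l, l ≤ j → polar Q (H.e l) (H.pr k a) = 0 := fun l hl => by
      rw [(H.pr_perp (by omega) a fun l' hl' => ha l' (by omega)).2.2 l (by omega), ha l hl]
    have hje := H.Qe j hj
    set t := polar Q (H.f k) a with ht
    have hnew : ∀ l, l ≤ j → polar Q (H.e l) (H.pr (k + 1) a) = 0 := fun l hl => by
      rw [(H.pr_perp (by omega) a fun l' hl' => ha l' (by omega)).2.2 l (by omega), ha l hl]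
    have hsplit : H.pr k a = H.pr (k + 1) a + t • H.e k := by
      rw [pr_succ, ha k (by omega), zero_smul, add_zero, sub_add_cancel]
    rcases Nat.lt_or_eq_of_le (show k ≤ j by omega) with hkj | rfl
    · have hek : polar Q (H.e j) (t • H.e k) = 0 := by
        rw [polar_smul_right, H.pee j k hj (by omega), smul_zero]
      have h1 : el Q (H.e j) (H.pr k a) = el Q (H.e j) (H.pr (k + 1) a) * el Q (H.e j) (t • H.e k) := by
        rw [el_add hQ hn hje (hnew j le_rfl) hek, ← hsplit]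
      have h2 : el Q (H.e j) (t • H.e k) ∈ H.R j := by
        rw [← el_swap hQ hn hje (by rw [QuadraticMap.map_smul, H.Qe k (by omega), smul_zero]) hek,
          el_smul hQ hn (H.Qe k (by omega)) (by rw [polar_neg_right, H.pee k j (by omega) hj, neg_zero]) t]
        exact H.el_gen_mem hQ hn hkj (Submodule.smul_mem _ _ (neg_mem (H.e_mem_W (by omega) hj)))
      have h3 := mul_mem h2 (ih (by omega))
      rw [h1, mul_inv_rev, mul_assoc, mul_inv_cancel_left] at h3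
      exact h3
    · rw [← el_add_smul hQ hn hje (hnew k le_rfl) t, ← hsplit]
      exact ih (by omega)

theorem el_mem_R {i j : ℕ} (hj : j < i) (hjm : j < m) {a : ι → F}
    (ha : ∀ l, l ≤ j → polar Q (H.e l) a = 0) : el Q (H.e j) a ∈ H.R i := by
  have h := mul_mem (H.el_gen_mem hQ hn hj (H.pr_mem (i := j + 1) hjm a))
    (H.R_mono hj.le (H.el_reduce hQ hn hjm ha))
  rwa [mul_inv_cancel_left] at h

theorem ap_inj (g : Om Q) {x : ι → F} {c : F} (hx : x ≠ 0) (h : ap g x = c • x) : c ≠ 0 := fun hc => hx <| by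
  refine app_injective g.1 ?_
  rw [map_zero]
  exact h.trans (by rw [hc, zero_smul])

omit hn in
theorem e_ne {j : ℕ} (hj : j < m) : H.e j ≠ 0 := fun h => by
  have := H.pef j j hj hj
  rw [h, polar_zero_left, if_pos rfl] at this
  exact zero_ne_one this

theorem perp_ap {i : ℕ} (hi : i ≤ m) {g : Om Q} (hg : H.Flag i g) {x : ι → F}
    (hx : ∀ l, l < i → polar Q (H.e l) x = 0) : ∀ l, l < i → polar Q (H.e l) (ap g x) = 0 := by
  intro l hl
  obtain ⟨c, hc⟩ := hg l hl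
  have h := polar_app g.1 (H.e l) x
  rw [show app g.1 (H.e l) = c • H.e l from hc, polar_smul_left, hx l hl, smul_eq_mul, mul_eq_zero] at h
  exact h.resolve_left (ap_inj hQ hn g (H.e_ne hQ (by omega)) hc)

theorem conj_R {i : ℕ} (hi : i ≤ m) {g : Om Q} (hg : H.Flag i g) :
    ∀ r ∈ H.R i, g * r * g⁻¹ ∈ H.R i := by
  intro r hr
  induction hr using Subgroup.closure_induction with
  | mem x hx =>
    obtain ⟨j, hj, a, ha, rfl⟩ := hx
    obtain ⟨c, hc⟩ := hg j hj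
    have hperp : ∀ l, l < j + 1 → polar Q (H.e l) (ap g a) = 0 :=
      H.perp_ap hQ hn (by omega) (fun l hl => hg l (by omega)) fun l hl => (H.perp_e hl ha).1
    rw [el_conj hQ hn (H.Qe j (by omega)) (H.perp_e (Nat.lt_succ_self j) ha).1, hc,
      el_smul hQ hn (H.Qe j (by omega)) (hperp j (Nat.lt_succ_self j))]
    exact H.el_mem_R hQ hn hj (by omega) fun l hl => by rw [polar_smul_right, hperp l (by omega), smul_zero]
  | one => simp
  | mul x y _ _ hx hy =>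
    have : g * (x * y) * g⁻¹ = (g * x * g⁻¹) * (g * y * g⁻¹) := by group
    rw [this]; exact mul_mem hx hy
  | inv x _ hx =>
    have : g * x⁻¹ * g⁻¹ = (g * x * g⁻¹)⁻¹ := by group
    rw [this]; exact inv_mem hx

theorem ap_T_e {i : ℕ} (hi : i < m) (a : H.W (i + 1)) {j : ℕ} (hj : j ≤ i) :
    ap (H.T i a) (H.e j) = H.e j := by
  rw [T, ap_el hQ hn (H.Qe i hi) (H.perp_e (Nat.lt_succ_self i) a.2).1, H.pee j i (by omega) hi,
    (H.perp_e (show j < i + 1 by omega) a.2).1]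
  simp

theorem flag_T {i : ℕ} (hi : i < m) (a : H.W (i + 1)) : H.Flag i (H.T i a) := fun j hj =>
  ⟨1, by rw [one_smul, H.ap_T_e hQ hn hi a hj.le]⟩

theorem T_add {i : ℕ} (hi : i < m) (a b : H.W (i + 1)) : H.T i a * H.T i b = H.T i (a + b) :=
  el_add hQ hn (H.Qe i hi) (H.perp_e (Nat.lt_succ_self i) a.2).1 (H.perp_e (Nat.lt_succ_self i) b.2).1

theorem T_mem {i k : ℕ} (hik : i < k) (a : H.W (i + 1)) : H.T i a ∈ H.R k :=
  H.el_gen_mem hQ hn hik a.2

end Hyp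

/-! ### Layers -/

variable (H : Hyp Q m) {V : Type*} [AddCommGroup V] [Module ℂ V] (ρ : Representation ℂ (Om Q) V)

/-- The pairing on level `i`. -/
noncomputable def Hyp.bil (i : ℕ) : H.W (i + 1) →ₗ[F] H.W (i + 1) →ₗ[F] F :=
  Q.polarBilin.compl₁₂ (H.W (i + 1)).subtype (H.W (i + 1)).subtype

theorem Hyp.bil_apply (i : ℕ) (a b : H.W (i + 1)) : H.bil i a b = polar Q a.1 b.1 := rfl

noncomputable instance instFintypeW (i : ℕ) : Fintype (H.W i) := Fintype.ofFinite _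

/-- The projection on the fixed space of `R i`. -/
noncomputable def Hyp.E (i : ℕ) : Module.End ℂ V := avg ρ (H.R i)

/-- The layer of the character `b` at level `i`. -/
noncomputable def Hyp.L (i : ℕ) (b : H.W (i + 1)) : Module.End ℂ V :=
  H.E ρ i * pj (H.bil i) ρ (H.T i) b

/-- The dimension of a layer. -/
noncomputable def Hyp.rk (i : ℕ) (b : H.W (i + 1)) : ℕ := Module.finrank ℂ (LinearMap.range (H.L ρ i b))

/-- The dimension of the fixed space of `R i`. -/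
noncomputable def Hyp.dimE (i : ℕ) : ℕ := Module.finrank ℂ (LinearMap.range (H.E ρ i))

/-- The trace on the fixed space of `R i`. -/
noncomputable def Hyp.tr (i : ℕ) (g : Om Q) : ℂ := LinearMap.trace ℂ V (ρ g * H.E ρ i)

variable (hQ : Q.polarBilin.Nondegenerate) (hn : 5 ≤ Fintype.card ι)
include hQ hn

theorem Hyp.bil_nd {i : ℕ} (hi : i < m) (a : H.W (i + 1)) (h : ∀ b, H.bil i b a = 0) : a = 0 :=
  Subtype.ext (H.W_nondeg hQ hi a.2 fun b hb => h ⟨b, hb⟩)

omit hQ hn in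
theorem Hyp.bil_symm (i : ℕ) (a b : H.W (i + 1)) : H.bil i a b = H.bil i b a := polar_comm _ _ _

theorem Hyp.E_comm {i : ℕ} (hi : i ≤ m) {g : Om Q} (hg : H.Flag i g) :
    ρ g * H.E ρ i = H.E ρ i * ρ g :=
  avg_comm ρ (H.conj_R hQ hn hi hg)

theorem Hyp.E_zero : H.E ρ 0 = 1 := by
  have h : H.R 0 = ⊥ := by
    rw [Hyp.R, eq_bot_iff, Subgroup.closure_le]
    rintro x ⟨j, hj, -⟩
    exact absurd hj (Nat.not_lt_zero j)
  rw [Hyp.E, h, avg_bot]

theorem Hyp.E_idem (i : ℕ) : H.E ρ i * H.E ρ i = H.E ρ i := avg_idem ρ _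

theorem Hyp.pj_comm_E {i : ℕ} (hi : i < m) (b : H.W (i + 1)) :
    Commute (H.E ρ i) (pj (H.bil i) ρ (H.T i) b) :=
  pj_commute _ _ _ (fun a => (H.E_comm ρ hQ hn hi.le (H.flag_T hQ hn hi a)).symm) b

theorem Hyp.E_succ {i : ℕ} (hi : i < m) : H.E ρ (i + 1) = H.L ρ i 0 := by
  set P := pj (H.bil i) ρ (H.T i) 0 with hP
  have hPfix : ∀ a, ρ (H.T i a) * P = P := fun a => by
    rw [hP, rho_mul_pj _ ρ _ (H.T_add hQ hn hi), map_zero, LinearMap.zero_apply, AddChar.map_zero_eq_one, one_smul]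
  have hc := (H.pj_comm_E ρ hQ hn hi 0).eq
  have h1 : ∀ r ∈ H.R (i + 1), ρ r * (H.E ρ i * P) = H.E ρ i * P := by
    refine fix_closure ρ ?_
    rintro x ⟨j, hj, a, ha, rfl⟩
    rcases Nat.lt_succ_iff_lt_or_eq.mp hj with hj | rfl
    · rw [← mul_assoc, Hyp.E, rho_mul_avg ρ (H.el_gen_mem hQ hn hj ha)]
    · show ρ (H.T j ⟨a, ha⟩) * _ = _
      rw [hc, ← mul_assoc, hPfix]
  have h2 : H.E ρ (i + 1) * P = H.E ρ (i + 1) :=
    mul_pj_zero _ ρ _ fun a => avg_mul_rho ρ (H.T_mem hQ hn (Nat.lt_succ_self i) a)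
  have h3 : H.E ρ (i + 1) * H.E ρ i = H.E ρ (i + 1) := by
    haveI : Fintype (H.R i) := Fintype.ofFinite _
    conv_lhs => arg 2; rw [Hyp.E, avg_def]
    have h4 : ∀ r : H.R i, H.E ρ (i + 1) * ρ r.1 = H.E ρ (i + 1) := fun r =>
      avg_mul_rho ρ (H.R_mono (Nat.le_succ i) r.2)
    rw [mul_smul_comm, Finset.mul_sum, Finset.sum_congr rfl fun r _ => h4 r, Finset.sum_const,
      Finset.card_univ, ← Nat.cast_smul_eq_nsmul ℂ, smul_smul, ← Nat.card_eq_fintype_card,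
      inv_mul_cancel₀ (Nat.cast_ne_zero.mpr Nat.card_pos.ne'), one_smul]
  rw [Hyp.L, ← hP, ← avg_mul_of_fix ρ h1]
  show H.E ρ (i + 1) = H.E ρ (i + 1) * (H.E ρ i * P)
  rw [← mul_assoc, h3, h2]

theorem Hyp.L_mul_L {i : ℕ} (hi : i < m) [DecidableEq (H.W (i + 1))] (b c : H.W (i + 1)) :
    H.L ρ i b * H.L ρ i c = if b = c then H.L ρ i b else 0 := by
  have e : H.L ρ i b * H.L ρ i c =
      (H.E ρ i * H.E ρ i) * (pj (H.bil i) ρ (H.T i) b * pj (H.bil i) ρ (H.T i) c) := by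
    simp only [Hyp.L, mul_assoc]
    rw [← mul_assoc (pj (H.bil i) ρ (H.T i) b), ← (H.pj_comm_E ρ hQ hn hi b).eq, mul_assoc]
  rw [e, H.E_idem ρ hQ hn, pj_mul_pj _ ρ _ (H.bil_nd hQ hn hi) (H.bil_symm i) (H.T_add hQ hn hi)]
  split_ifs with h
  · rfl
  · rw [mul_zero]

theorem Hyp.L_idem {i : ℕ} (hi : i < m) (b : H.W (i + 1)) : H.L ρ i b * H.L ρ i b = H.L ρ i b := by
  classical
  rw [H.L_mul_L ρ hQ hn hi, if_pos rfl]

theorem Hyp.sum_L {i : ℕ} (hi : i < m) : ∑ b, H.L ρ i b = H.E ρ i := by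
  classical
  simp only [Hyp.L, ← Finset.mul_sum]
  rw [sum_pj _ ρ _ (H.bil_nd hQ hn hi) (H.bil_symm i) (H.T_add hQ hn hi), mul_one]

theorem Hyp.T_mul_L {i : ℕ} (hi : i < m) (a b : H.W (i + 1)) :
    ρ (H.T i a) * H.L ρ i b = chi F (polar Q b.1 a.1) • H.L ρ i b := by
  rw [Hyp.L, ← mul_assoc, H.E_comm ρ hQ hn hi.le (H.flag_T hQ hn hi a), mul_assoc,
    rho_mul_pj _ ρ _ (H.T_add hQ hn hi), mul_smul_comm]
  rfl

/-- The map of the characters induced by an element of the stabiliser. -/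
noncomputable def Hyp.bmap {i : ℕ} (hi : i < m) (g : Om Q) (c : F) (b : H.W (i + 1)) : H.W (i + 1) :=
  ⟨c⁻¹ • H.pr (i + 1) (ap g b.1), Submodule.smul_mem _ _ (H.pr_mem hi _)⟩

/-- A stabiliser element moves the layers. -/
theorem Hyp.L_move {i : ℕ} (hi : i < m) {g : Om Q} (hg : H.Flag i g) {c : F}
    (hc : ap g (H.e i) = c • H.e i) (b : H.W (i + 1)) :
    ρ g * H.L ρ i b = H.L ρ i (H.bmap hi g c b) * ρ g := by
  have hc0 : c ≠ 0 := Hyp.ap_inj hQ hn g (H.e_ne hQ hi) hc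
  have hflag : H.Flag (i + 1) g := fun j hj => by
    rcases Nat.lt_succ_iff_lt_or_eq.mp hj with hj | rfl
    exacts [hg j hj, ⟨c, hc⟩]
  have hperp : ∀ x : H.W (i + 1), ∀ l, l < i + 1 → polar Q (H.e l) (ap g x.1) = 0 := fun x =>
    H.perp_ap hQ hn hi hflag fun l hl => (H.perp_e hl x.2).1
  let σ₀ : H.W (i + 1) → H.W (i + 1) := fun a => ⟨c • H.pr (i + 1) (ap g a.1), Submodule.smul_mem _ _ (H.pr_mem hi _)⟩
  have hpol : ∀ a d : H.W (i + 1), H.bil i (H.bmap hi g c d) (σ₀ a) = H.bil i d a := fun a d => by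
    show polar Q (c⁻¹ • H.pr (i + 1) (ap g d.1)) (c • H.pr (i + 1) (ap g a.1)) = polar Q d.1 a.1
    rw [polar_smul_left, polar_smul_right, H.polar_pr hi _ (H.pr_mem hi _),
      (H.pr_perp hi _ (hperp a)).1 _ (hperp d), polar_app, smul_eq_mul, smul_eq_mul, ← mul_assoc,
      inv_mul_cancel₀ hc0, one_mul]
  have hinj : Function.Injective σ₀ := by
    intro a a' h
    rw [← sub_eq_zero]
    refine H.bil_nd hQ hn hi _ fun d => ?_
    rw [map_sub, ← hpol a d, ← hpol a' d, h, sub_self]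
  let σ : H.W (i + 1) ≃ H.W (i + 1) := Equiv.ofBijective σ₀ ⟨hinj, Finite.surjective_of_injective hinj⟩
  have hconj : ∀ a, H.E ρ i * (ρ g * ρ (H.T i a)) = H.E ρ i * (ρ (H.T i (σ a)) * ρ g) := by
    intro a
    have hp' : ∀ l, l ≤ i → polar Q (H.e l) (c • ap g a.1) = 0 := fun l hl => by
      rw [polar_smul_right, hperp a l (by omega), smul_zero]
    have e1 : g * H.T i a = el Q (H.e i) (c • ap g a.1) * g := by
      rw [← el_smul hQ hn (H.Qe i hi) (hperp a i (Nat.lt_succ_self i)), ← hc,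
        ← el_conj hQ hn (H.Qe i hi) (H.perp_e (Nat.lt_succ_self i) a.2).1 g, inv_mul_cancel_right]
      rfl
    have hr := H.el_reduce hQ hn hi hp'
    set r := (el Q (H.e i) (H.pr (i + 1) (c • ap g a.1)))⁻¹ * el Q (H.e i) (c • ap g a.1) with hr'
    have e2 : el Q (H.e i) (c • ap g a.1) = H.T i (σ a) * r := by
      show _ = el Q (H.e i) (c • H.pr (i + 1) (ap g a.1)) * r
      rw [← LinearMap.map_smul (H.pr (i + 1)), hr', mul_inv_cancel_left]
    have h5 : H.E ρ i * ρ r = H.E ρ i := avg_mul_rho ρ hr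
    rw [← map_mul, e1, e2, map_mul, map_mul, ← mul_assoc, ← mul_assoc,
      ← H.E_comm ρ hQ hn hi.le (H.flag_T hQ hn hi (σ a)), mul_assoc (ρ (H.T i (σ a))) (H.E ρ i) (ρ r),
      h5, H.E_comm ρ hQ hn hi.le (H.flag_T hQ hn hi (σ a)), mul_assoc]
  have h := mul_rho_mul_pj (H.bil i) ρ (H.T i) g σ (H.E ρ i) hconj b (H.bmap hi g c b) (fun a => hpol a b)
  show ρ g * (H.E ρ i * pj (H.bil i) ρ (H.T i) b) = H.E ρ i * pj (H.bil i) ρ (H.T i) _ * ρ g
  rw [← mul_assoc, H.E_comm ρ hQ hn hi.le hg, mul_assoc, h, mul_assoc]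

variable [FiniteDimensional ℂ V]

theorem Hyp.rk_eq_trace {i : ℕ} (hi : i < m) (b : H.W (i + 1)) :
    (H.rk ρ i b : ℂ) = LinearMap.trace ℂ V (H.L ρ i b) :=
  (SLMinDeg.trace_eq_finrank_range _ (H.L_idem ρ hQ hn hi b)).symm

theorem Hyp.rk_move {i : ℕ} (hi : i < m) {g : Om Q} (hg : H.Flag i g) {c : F}
    (hc : ap g (H.e i) = c • H.e i) (b : H.W (i + 1)) : H.rk ρ i (H.bmap hi g c b) = H.rk ρ i b := by
  have h : H.L ρ i (H.bmap hi g c b) = ρ g * H.L ρ i b * ρ g⁻¹ := by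
    rw [H.L_move ρ hQ hn hi hg hc, mul_assoc, ← map_mul, mul_inv_cancel, map_one, mul_one]
  have h2 : LinearMap.trace ℂ V (ρ g * H.L ρ i b * ρ g⁻¹) = LinearMap.trace ℂ V (H.L ρ i b) := by
    rw [LinearMap.trace_mul_comm, ← mul_assoc, ← map_mul, inv_mul_cancel, map_one, one_mul]
  exact_mod_cast (H.rk_eq_trace ρ hQ hn hi _).trans ((congrArg _ h).trans (h2.trans (H.rk_eq_trace ρ hQ hn hi b).symm))

theorem Hyp.trace_moved {i : ℕ} (hi : i < m) {g : Om Q} (hg : H.Flag i g) {c : F}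
    (hc : ap g (H.e i) = c • H.e i) (b : H.W (i + 1)) (hb : H.bmap hi g c b ≠ b) :
    LinearMap.trace ℂ V (ρ g * H.L ρ i b) = 0 := by
  classical
  exact trace_zero_of_moved (H.L_idem ρ hQ hn hi b) (H.L_move ρ hQ hn hi hg hc b)
    (by rw [H.L_mul_L ρ hQ hn hi, if_neg (Ne.symm hb)])

theorem Hyp.tr_eq_sum {i : ℕ} (hi : i < m) (g : Om Q) :
    H.tr ρ i g = ∑ b, LinearMap.trace ℂ V (ρ g * H.L ρ i b) := by
  rw [Hyp.tr, ← H.sum_L ρ hQ hn hi, Finset.mul_sum, map_sum]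

theorem Hyp.tr_succ {i : ℕ} (hi : i < m) (g : Om Q) :
    H.tr ρ (i + 1) g = LinearMap.trace ℂ V (ρ g * H.L ρ i 0) := by
  rw [Hyp.tr, H.E_succ ρ hQ hn hi]

theorem Hyp.tr_one (i : ℕ) : H.tr ρ i 1 = (H.dimE ρ i : ℂ) := by
  rw [Hyp.tr, map_one, one_mul, SLMinDeg.trace_eq_finrank_range _ (H.E_idem ρ hQ hn i), Hyp.dimE]

theorem Hyp.tr_zero (g : Om Q) : H.tr ρ 0 g = ρ.character g := by
  rw [Hyp.tr, H.E_zero ρ hQ hn, mul_one, Representation.character]

theorem Hyp.dimE_zero : H.dimE ρ 0 = Module.finrank ℂ V := by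
  rw [Hyp.dimE, H.E_zero ρ hQ hn]
  rw [Module.End.one_eq_id, LinearMap.range_id, finrank_top]

theorem Hyp.dimE_eq_sum {i : ℕ} (hi : i < m) : H.dimE ρ i = ∑ b, H.rk ρ i b := by
  have h : (H.dimE ρ i : ℂ) = ∑ b, (H.rk ρ i b : ℂ) := by
    rw [← H.tr_one ρ hQ hn, H.tr_eq_sum ρ hQ hn hi]
    exact Finset.sum_congr rfl fun b _ => by rw [map_one, one_mul, H.rk_eq_trace ρ hQ hn hi]
  exact_mod_cast h

theorem Hyp.dimE_succ {i : ℕ} (hi : i < m) : H.dimE ρ (i + 1) = H.rk ρ i 0 := by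
  rw [Hyp.dimE, H.E_succ ρ hQ hn hi, Hyp.rk]

theorem Hyp.dimE_antitone_le {i : ℕ} (hi : i < m) : H.dimE ρ (i + 1) ≤ H.dimE ρ i := by
  rw [H.dimE_succ ρ hQ hn hi, H.dimE_eq_sum ρ hQ hn hi]
  exact Finset.single_le_sum (f := fun b => H.rk ρ i b) (fun b _ => Nat.zero_le _) (Finset.mem_univ _)

theorem Hyp.tr_T {i : ℕ} (hi : i < m) (a : H.W (i + 1)) :
    H.tr ρ i (H.T i a) = ∑ b, chi F (polar Q b.1 a.1) * (H.rk ρ i b : ℂ) := by
  rw [H.tr_eq_sum ρ hQ hn hi]
  exact Finset.sum_congr rfl fun b _ => by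
    rw [H.T_mul_L ρ hQ hn hi, map_smul, ← H.rk_eq_trace ρ hQ hn hi, smul_eq_mul]

/-- The drop at an element of the level root group. -/
theorem Hyp.drop [DecidableEq F] {i : ℕ} (hi : i < m) (hscale : ∀ (t : F), t ≠ 0 → ∀ b, H.rk ρ i (t • b) = H.rk ρ i b)
    (a : H.W (i + 1)) :
    ((Fintype.card F : ℂ) - 1) * ((H.dimE ρ i : ℂ) - H.tr ρ i (H.T i a)) =
      (Fintype.card F : ℂ) * ((∑ b ∈ Finset.univ.filter (fun b : H.W (i + 1) => polar Q b.1 a.1 ≠ 0),
        H.rk ρ i b : ℕ) : ℂ) := by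
  classical
  have hsum : ∀ y : F, ∑ t : F, chi F (t * y) = if y = 0 then (Fintype.card F : ℂ) else 0 := by
    intro y
    split_ifs with hy
    · simp [hy]
    · obtain ⟨x, hx⟩ := (exists_char F).choose_spec y hy
      have hne : (chi F).compAddMonoidHom (AddMonoidHom.mulRight y) ≠ 0 := fun h0 => hx (by
        have h1 := DFunLike.congr_fun h0 x
        show chi F (y * x) = 1
        rw [mul_comm]
        exact h1)
      exact AddChar.sum_eq_zero_iff_ne_zero.mpr hne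
  set A := H.tr ρ i (H.T i a) with hA
  set K := (H.dimE ρ i : ℂ) with hK
  have hre : ∀ t : F, t ≠ 0 → ∑ b, chi F (t * polar Q b.1 a.1) * (H.rk ρ i b : ℂ) = A := by
    intro t ht
    rw [hA, H.tr_T ρ hQ hn hi]
    refine Fintype.sum_equiv (Equiv.smulRight (β := H.W (i + 1)) ht) _ _ fun b => ?_
    show chi F (t * polar Q b.1 a.1) * (H.rk ρ i b : ℂ) = chi F (polar Q (t • b.1) a.1) * (H.rk ρ i (t • b) : ℂ)
    rw [hscale t ht, polar_smul_left, smul_eq_mul]
  have h1 : ∑ t : F, ∑ b, chi F (t * polar Q b.1 a.1) * (H.rk ρ i b : ℂ) =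
      K + ((Fintype.card F : ℂ) - 1) * A := by
    rw [← Finset.add_sum_erase Finset.univ _ (Finset.mem_univ (0 : F)),
      Finset.sum_congr rfl (fun t ht => hre t (Finset.ne_of_mem_erase ht)), Finset.sum_const,
      Finset.card_erase_of_mem (Finset.mem_univ _), Finset.card_univ, nsmul_eq_mul,
      Nat.cast_sub Fintype.card_pos, Nat.cast_one]
    congr 1
    rw [hK, H.dimE_eq_sum ρ hQ hn hi, Nat.cast_sum]
    simp
  have h2 : ∑ t : F, ∑ b, chi F (t * polar Q b.1 a.1) * (H.rk ρ i b : ℂ) =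
      (Fintype.card F : ℂ) * (K - ((∑ b ∈ Finset.univ.filter (fun b : H.W (i + 1) => polar Q b.1 a.1 ≠ 0),
        H.rk ρ i b : ℕ) : ℂ)) := by
    rw [Finset.sum_comm]
    simp only [← Finset.sum_mul, hsum, ite_mul, zero_mul]
    rw [hK, H.dimE_eq_sum ρ hQ hn hi, Nat.cast_sum, Nat.cast_sum,
      ← Finset.sum_filter_add_sum_filter_not Finset.univ (fun b : H.W (i + 1) => polar Q b.1 a.1 ≠ 0)
        (fun b => (H.rk ρ i b : ℂ)), add_sub_cancel_left, Finset.mul_sum, Finset.sum_ite, Finset.sum_const_zero,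
      add_zero]
    refine Finset.sum_congr ?_ fun _ _ => rfl
    simp
  linear_combination (h1.symm.trans h2)  * (-1 : ℂ)

end CfsgLib.OrthDeg
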