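import Cfsg.Agent.Lib.OrthDeg.Levels
import Cfsg.Agent.Lib.Orth.Siegel

set_option autoImplicit false
set_option linter.unusedSectionVars false
set_option linter.style.haveILetI false

/-!
Odd-dimensional orthogonal spaces over a field of odd order: corrections into `Ω`, the orbits of the
stabilisers on the layers, and the drop of a long root element.
-/

namespace CfsgLib.OrthDeg

open QuadraticMap CfsgLib.Orth CfsgLib.KnownSimple.ModulePerm

variable {ι : Type} [Fintype ι] [DecidableEq ι] {F : Type*} [Field F]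

/-- A maximal hyperbolic system with an anisotropic vector of value one. -/
structure OddFrame (Q : QuadraticForm F (ι → F)) (n : ℕ) extends Hyp Q n where
  x0 : ι → F
  Qx0 : Q x0 = 1
  x0_mem : x0 ∈ toHyp.W n
  base : ∀ x ∈ toHyp.W n, ∃ t : F, x = t • x0
  h2 : (2 : F) ≠ 0
  nd : Q.polarBilin.Nondegenerate
  n3 : 3 ≤ n
  five : 5 ≤ Fintype.card ι

variable {Q : QuadraticForm F (ι → F)} {n : ℕ} (S : OddFrame Q n)

/-- The torus element scaling `e k` by `a`. -/
noncomputable def Hyp.tor {m : ℕ} (H : Hyp Q m) (k : ℕ) (a : F) : O Q :=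
  refl Q (H.e k + H.f k) * refl Q (H.e k + a • H.f k)

theorem Hyp.app_tor {m : ℕ} (H : Hyp Q m) {k : ℕ} (hk : k < m) {a : F} (ha : a ≠ 0) (x : ι → F) :
    app (H.tor k a) x =
      x + ((a - 1) * polar Q (H.f k) x) • H.e k + ((a⁻¹ - 1) * polar Q (H.e k) x) • H.f k := by
  have h1 : ∀ c : F, Q (H.e k + c • H.f k) = c := fun c => by
    simp [QuadraticMap.map_add ⇑Q, QuadraticMap.map_smul, polar_smul_right, H.Qe k hk, H.Qf k hk,
      H.pef k k hk hk]
  have h1' : Q (H.e k + H.f k) = 1 := by simpa using h1 1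
  simp only [Hyp.tor, app_mul, app_refl, h1, h1', polar_sub_left, polar_add_right, polar_smul_left,
    polar_smul_right, polar_add_left, H.pee k k hk hk, H.pff k k hk hk, H.pef k k hk hk, H.pfe (i := k) (j := k) hk hk,
    polar_comm (f := ⇑Q) x (H.e k), polar_comm (f := ⇑Q) x (H.f k), if_true, smul_eq_mul]
  match_scalars <;> field_simp <;> ring

namespace OddFrame

include S

theorem x0_perp {j : ℕ} (hj : j < n) :
    polar Q (S.e j) S.x0 = 0 ∧ polar Q (S.f j) S.x0 = 0 ∧ polar Q S.x0 (S.e j) = 0 ∧ polar Q S.x0 (S.f j) = 0 :=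
  ⟨(S.perp_e hj S.x0_mem).1, (S.perp_f hj S.x0_mem).1, (S.perp_e hj S.x0_mem).2, (S.perp_f hj S.x0_mem).2⟩

theorem px0 : polar Q S.x0 S.x0 = 2 := by rw [polar_self', S.Qx0, mul_one]

theorem x0_ne : S.x0 ≠ 0 := fun h => by
  have := S.Qx0
  rw [h, QuadraticMap.map_zero] at this
  exact zero_ne_one this

variable [Fintype F]

theorem card_W {j : ℕ} (hj : j ≤ n) : Nat.card (S.W j) = Fintype.card F ^ (2 * (n - j) + 1) := by
  obtain ⟨l, rfl⟩ : ∃ l, j = n - l := ⟨n - j, by omega⟩
  have hl : ∀ l, l ≤ n → Nat.card (S.W (n - l)) = Fintype.card F ^ (2 * l + 1) := by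
    intro l hl
    induction l with
    | zero =>
      rw [Nat.sub_zero, mul_zero, zero_add, pow_one, ← Nat.card_eq_fintype_card]
      refine Nat.card_congr (Equiv.ofBijective (fun t : F => (⟨t • S.x0, (S.W n).smul_mem t S.x0_mem⟩ : S.W n))
        ⟨fun a b h => ?_, fun x => ?_⟩).symm
      · exact smul_left_injective F S.x0_ne (congrArg Subtype.val h)
      · obtain ⟨t, ht⟩ := S.base x.1 x.2
        exact ⟨t, Subtype.ext ht.symm⟩
    | succ l ih =>
      rw [S.toHyp.card_W (i := n - (l + 1)) (by omega), show n - (l + 1) + 1 = n - l by omega, ih (by omega)]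
      ring
  rcases Nat.le_total l n with h | h
  · rw [hl l h, Nat.sub_sub_self h]
  · rw [Nat.sub_eq_zero_of_le h]
    simpa using hl n le_rfl

theorem cone_card {j : ℕ} (hj : j ≤ n) :
    Nat.card {x : S.W j // Q x.1 = 0} = Fintype.card F ^ (2 * (n - j)) := by
  suffices ∀ l, l ≤ n → Nat.card {x : S.W (n - l) // Q x.1 = 0} = Fintype.card F ^ (2 * l) by
    have h := this (n - j) (Nat.sub_le n j)
    rwa [Nat.sub_sub_self hj] at h
  intro l hl
  induction l with
  | zero =>
    rw [Nat.sub_zero, mul_zero, pow_zero, Nat.card_eq_one_iff_unique]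
    refine ⟨⟨fun a b => ?_⟩, ⟨⟨0, by simp⟩⟩⟩
    have key : ∀ x : {x : S.W n // Q x.1 = 0}, x.1.1 = 0 := fun x => by
      obtain ⟨t, ht⟩ := S.base x.1.1 x.1.2
      have hx := x.2
      rw [ht, QuadraticMap.map_smul, S.Qx0, smul_eq_mul, mul_one, mul_self_eq_zero] at hx
      rw [ht, hx, zero_smul]
    exact Subtype.ext (Subtype.ext ((key a).trans (key b).symm))
  | succ l ih =>
    rw [S.toHyp.card_value' (i := n - (l + 1)) (by omega) 0, show n - (l + 1) + 1 = n - l by omega, ih (by omega),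
      S.card_W (by omega), Nat.sub_sub_self (by omega)]
    obtain ⟨q, hq⟩ : ∃ q, Fintype.card F = q + 1 := ⟨Fintype.card F - 1, by have := Fintype.card_pos (α := F); omega⟩
    rw [hq, Nat.add_sub_cancel]
    ring

/-- A non-square. -/
theorem exists_nonsq : ∃ d : F, ¬ IsSquare d :=
  FiniteField.exists_nonsquare fun hch => by
    have : CharP F 2 := ringChar.of_eq hch
    exact S.h2 CharTwo.two_eq_zero

open scoped Classical in
theorem mem_omega {d : F} (hd : ¬ IsSquare d) (g : O Q) : g ∈ Om Q ↔ chiPair Q d g = 1 := by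
  rw [Om, Orth.commutator_eq S.nd S.h2 hd, MonoidHom.mem_ker]

open scoped Classical in
/-- Any isometry is corrected into `Ω` by two elements with independent invariants. -/
theorem correct {d : F} (hd : ¬ IsSquare d) (c1 c2 : O Q) (h1 : chiPair Q d c1 = (-1, -1))
    (h2 : chiPair Q d c2 = (-1, 1)) (g0 : O Q) : ∃ c ∈ Subgroup.closure {c1, c2}, g0 * c ∈ Om Q := by
  have m1 : c1 ∈ Subgroup.closure ({c1, c2} : Set (O Q)) := Subgroup.subset_closure (by simp)
  have m2 : c2 ∈ Subgroup.closure ({c1, c2} : Set (O Q)) := Subgroup.subset_closure (by simp)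
  obtain ⟨a, b⟩ : ℤˣ × ℤˣ := chiPair Q d g0
  rcases Int.units_eq_one_or (chiPair Q d g0).1 with ha | ha <;>
    rcases Int.units_eq_one_or (chiPair Q d g0).2 with hb | hb
  · exact ⟨1, one_mem _, (S.mem_omega hd _).mpr (by rw [mul_one]; exact Prod.ext ha hb)⟩
  · exact ⟨c1 * c2, mul_mem m1 m2, (S.mem_omega hd _).mpr (by
      rw [map_mul, map_mul, h1, h2]; exact Prod.ext (by simp [ha]) (by simp [hb]))⟩
  · exact ⟨c2, m2, (S.mem_omega hd _).mpr (by
      rw [map_mul, h2]; exact Prod.ext (by simp [ha]) (by simp [hb]))⟩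
  · exact ⟨c1, m1, (S.mem_omega hd _).mpr (by
      rw [map_mul, h1]; exact Prod.ext (by simp [ha]) (by simp [hb]))⟩

open scoped Classical in
theorem chi_tor {d : F} (hd : ¬ IsSquare d) {k : ℕ} (hk : k < n) {a : F} (ha : a ≠ 0) :
    chiPair Q d (S.toHyp.tor k a) = (-1, 1) * (if IsSquare a then (-1, 1) else (1, -1)) := by
  have h1 : ∀ c : F, Q (S.e k + c • S.f k) = c := fun c => by
    simp [QuadraticMap.map_add ⇑Q, QuadraticMap.map_smul, polar_smul_right, S.Qe k hk, S.Qf k hk,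
      S.pef k k hk hk]
  have h1' : Q (S.e k + S.f k) = 1 := by simpa using h1 1
  rw [Hyp.tor, map_mul, chiPair_refl S.h2 hd (by rw [h1']; exact one_ne_zero),
    chiPair_refl S.h2 hd (by rw [h1]; exact ha), h1', h1, if_pos IsSquare.one]

open scoped Classical in
theorem chi_refl_one {d : F} (hd : ¬ IsSquare d) {v : ι → F} (hv : Q v = 1) :
    chiPair Q d (refl Q v) = (-1, 1) := by
  rw [chiPair_refl S.h2 hd (by rw [hv]; exact one_ne_zero), hv, if_pos IsSquare.one]

/-- An element of `Ω` agreeing with a given isometry off one pair and the vector `x0`. -/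
theorem adjust {k : ℕ} (hk : k < n) (g0 : O Q) :
    ∃ g : Om Q, (∀ x, polar Q (S.e k) x = 0 → polar Q (S.f k) x = 0 → polar Q S.x0 x = 0 →
      ap g x = app g0 x) ∧ ∃ c : F, ap g (S.e k) = c • app g0 (S.e k) := by
  classical
  obtain ⟨d, hd⟩ := S.exists_nonsq
  have hd0 : d ≠ 0 := fun h => hd (h ▸ IsSquare.zero)
  obtain ⟨c, hc, hm⟩ := S.correct hd (S.toHyp.tor k d) (refl Q S.x0)
    (by rw [S.chi_tor hd hk hd0, if_neg hd]; rfl) (S.chi_refl_one hd S.Qx0) g0
  let P : O Q → Prop := fun c => (∀ x, polar Q (S.e k) x = 0 → polar Q (S.f k) x = 0 → polar Q S.x0 x = 0 →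
      app c x = x) ∧ ∃ a : F, a ≠ 0 ∧ app c (S.e k) = a • S.e k
  have hP : P c := by
    clear hm
    induction hc using Subgroup.closure_induction with
    | mem y hy =>
      rcases hy with rfl | rfl
      · refine ⟨fun x h1 h2 _ => by rw [S.toHyp.app_tor hk hd0, h1, h2]; simp, d, hd0, ?_⟩
        rw [S.toHyp.app_tor hk hd0, S.pee k k hk hk, S.pfe (i := k) (j := k) hk hk]
        simp only [if_true, mul_one, mul_zero, zero_smul, add_zero]
        module
      · refine ⟨fun x _ _ h3 => app_refl_of_ortho (by rw [polar_comm]; exact h3), 1, one_ne_zero, ?_⟩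
        rw [one_smul]
        exact app_refl_of_ortho (S.x0_perp hk).1
    | one => exact ⟨fun x _ _ _ => app_one x, 1, one_ne_zero, by rw [app_one, one_smul]⟩
    | mul y z _ _ hy hz =>
      obtain ⟨a, ha, hya⟩ := hy.2
      obtain ⟨b, hb, hzb⟩ := hz.2
      refine ⟨fun x h1 h2 h3 => by rw [app_mul, hz.1 x h1 h2 h3, hy.1 x h1 h2 h3], b * a, mul_ne_zero hb ha, ?_⟩
      rw [app_mul, hzb, map_smul, hya, smul_smul]
    | inv y _ hy =>
      obtain ⟨a, ha, hya⟩ := hy.2
      refine ⟨fun x h1 h2 h3 => ?_, a⁻¹, inv_ne_zero ha, ?_⟩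
      · conv_lhs => rw [← hy.1 x h1 h2 h3, app_inv_app]
      · have := app_inv_app y (S.e k)
        rw [hya, map_smul] at this
        conv_rhs => rw [← this, smul_smul, inv_mul_cancel₀ ha, one_smul]
  obtain ⟨a, -, ha⟩ := hP.2
  refine ⟨⟨g0 * c, hm⟩, fun x h1 h2 h3 => ?_, a, ?_⟩
  · show app (g0 * c) x = _
    rw [app_mul, hP.1 x h1 h2 h3]
  · show app (g0 * c) (S.e k) = _
    rw [app_mul, ha, map_smul]

/-- Extension of a partial isometry of `W i` to an element of `Ω` fixing the flag. -/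
theorem exists_flag {i k : ℕ} (hi : i ≤ n) (hk : k < n) {κ : Type*} [Fintype κ] (v v' : κ → ι → F)
    (hv : ∀ l, v l ∈ S.W i) (hv' : ∀ l, v' l ∈ S.W i) (hl : LinearIndependent F v) (hl' : LinearIndependent F v')
    (hq : ∀ l, Q (v l) = Q (v' l)) (hp : ∀ l l', polar Q (v l) (v l') = polar Q (v' l) (v' l'))
    (hperp : ∀ l, polar Q (S.e k) (v l) = 0 ∧ polar Q (S.f k) (v l) = 0 ∧ polar Q S.x0 (v l) = 0) :
    ∃ g : Om Q, S.Flag i g ∧ (∀ l, ap g (v l) = v' l) ∧ ∀ j, j < i → j ≠ k → ap g (S.e j) = S.e j := by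
  obtain ⟨g0, hg0, hg0v⟩ := S.toHyp.flag_map S.nd hi v v' hv hv' hl hl' hq hp
  obtain ⟨g, hg, c, hc⟩ := S.adjust hk g0
  have hfix : ∀ j, j < i → j ≠ k → ap g (S.e j) = S.e j := fun j hj hjk => by
    rw [hg _ (S.pee k j hk (by omega)) (by rw [S.pfe (i := k) (j := j) hk (by omega), if_neg (Ne.symm hjk)])
      (S.x0_perp (by omega)).2.2.1, hg0 j hj]
  refine ⟨g, fun j hj => ?_, fun l => by rw [hg _ (hperp l).1 (hperp l).2.1 (hperp l).2.2, hg0v], hfix⟩
  by_cases hjk : j = k
  · subst hjk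
    exact ⟨c, by rw [hc, hg0 j hj]⟩
  · exact ⟨1, by rw [one_smul, hfix j hj hjk]⟩

/-- The standard vector of value `c` at level `i`. -/
def bstd {i : ℕ} (hi : i + 1 < n) (c : F) : S.W (i + 1) :=
  ⟨S.e (i + 1) + c • S.f (i + 1),
    add_mem (S.e_mem_W le_rfl hi) ((S.W (i + 1)).smul_mem c (S.f_mem_W le_rfl hi))⟩

theorem Q_bstd {i : ℕ} (hi : i + 1 < n) (c : F) : Q (S.bstd hi c).1 = c := by
  simp [bstd, QuadraticMap.map_add ⇑Q, QuadraticMap.map_smul, polar_smul_right, S.Qe (i + 1) hi,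
    S.Qf (i + 1) hi, S.pef (i + 1) (i + 1) hi hi]

variable {V : Type*} [AddCommGroup V] [Module ℂ V] [FiniteDimensional ℂ V] (ρ : Representation ℂ (Om Q) V)

theorem rk_std {i : ℕ} (hi : i + 1 < n) (b : S.W (i + 1)) (hb : b ≠ 0) (t : F) (ht : t ≠ 0) :
    S.rk ρ i b = S.rk ρ i (S.bstd hi (t * t * Q b.1)) := by
  set bs := S.bstd hi (t * t * Q b.1) with hbs
  set k := if i + 2 < n then n - 1 else 0 with hk
  have := S.n3
  have hkn : k < n := by rw [hk]; split_ifs <;> omega
  have hki : k ≠ i ∧ k ≠ i + 1 := by rw [hk]; split_ifs <;> omega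
  have hfb : ∀ (x : S.W (i + 1)), polar Q (S.f i) x.1 = 0 := fun x => (S.perp_f (Nat.lt_succ_self i) x.2).1
  have heb : ∀ (x : S.W (i + 1)), polar Q (S.e i) x.1 = 0 ∧ polar Q x.1 (S.e i) = 0 :=
    fun x => S.perp_e (Nat.lt_succ_self i) x.2
  have hbs0 : bs.1 ≠ 0 := fun h => by
    have := congrArg (fun y => polar Q (S.f (i + 1)) y) h
    simp [hbs, bstd, polar_add_right, polar_smul_right, S.pfe (i := i + 1) (j := i + 1) hi hi,
      S.pff (i + 1) (i + 1) hi hi] at this
  have hb0 : t • b.1 ≠ 0 := smul_ne_zero ht fun h => hb (Subtype.ext h)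
  obtain ⟨g, hflag, hg, -⟩ := S.exists_flag (i := i) (k := k) (by omega) hkn ![S.e i, bs.1] ![t • S.e i, t • b.1]
    (by
      intro l; fin_cases l
      · exact S.e_mem_W le_rfl (by omega)
      · exact S.W_anti (Nat.le_succ i) bs.2)
    (by
      intro l; fin_cases l
      · exact (S.W i).smul_mem t (S.e_mem_W le_rfl (by omega))
      · exact (S.W i).smul_mem t (S.W_anti (Nat.le_succ i) b.2))
    (Hyp.li_pair hbs0 (φ := Q.polarBilin (S.f i))
      (by show polar Q (S.f i) (S.e i) ≠ 0; rw [S.pfe (i := i) (j := i) (by omega) (by omega), if_pos rfl]; exact one_ne_zero)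
      (hfb bs))
    (Hyp.li_pair hb0 (φ := Q.polarBilin (S.f i))
      (by show polar Q (S.f i) (t • S.e i) ≠ 0; rw [polar_smul_right, S.pfe (i := i) (j := i) (by omega) (by omega), if_pos rfl]; simpa using ht)
      (by show polar Q (S.f i) (t • b.1) = 0; rw [polar_smul_right, hfb, smul_zero]))
    (by
      intro l; fin_cases l
      · simp [QuadraticMap.map_smul, S.Qe i (by omega)]
      · show Q bs.1 = Q (t • b.1)
        rw [hbs, S.Q_bstd, QuadraticMap.map_smul, smul_eq_mul])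
    (by
      intro l l'; fin_cases l <;> fin_cases l' <;>
        simp only [Fin.zero_eta, Fin.mk_one, Matrix.cons_val_zero, Matrix.cons_val_one, polar_smul_left,
          polar_smul_right, S.pee i i (by omega) (by omega), (heb bs).1, (heb bs).2, (heb b).1, (heb b).2,
          smul_eq_mul, mul_zero] <;>
        rw [polar_self', polar_self', hbs, S.Q_bstd] <;> ring)
    (by
      intro l; fin_cases l
      · refine ⟨S.pee k i hkn (by omega), ?_, (S.x0_perp (by omega)).2.2.1⟩
        show polar Q (S.f k) (S.e i) = 0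
        rw [S.pfe (i := k) (j := i) hkn (by omega), if_neg hki.1]
      · simp [hbs, bstd, polar_add_right, polar_smul_right, S.pee k (i + 1) hkn hi, S.pef k (i + 1) hkn hi,
          S.pfe (i := k) (j := i + 1) hkn hi, S.pff k (i + 1) hkn hi, hki.2, (S.x0_perp hi).2.2.1,
          (S.x0_perp hi).2.2.2])
  have h0 : ap g (S.e i) = t • S.e i := hg 0
  have h1 : ap g bs.1 = t • b.1 := hg 1
  have hmap : S.bmap (i := i) (by omega) g t bs = b := Subtype.ext (by
    show t⁻¹ • S.pr (i + 1) (ap g bs.1) = b.1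
    rw [h1, map_smul, S.pr_eq_self b.2, inv_smul_smul₀ ht])
  have := S.toHyp.rk_move ρ S.nd S.five (i := i) (by omega) hflag h0 bs
  rwa [hmap] at this

theorem rk_scale {i : ℕ} (hi : i + 1 < n) (t : F) (ht : t ≠ 0) (b : S.W (i + 1)) :
    S.rk ρ i (t • b) = S.rk ρ i b := by
  by_cases hb : b = 0
  · subst hb; rw [smul_zero]
  rw [S.rk_std ρ hi (t • b) (smul_ne_zero ht hb) 1 one_ne_zero, S.rk_std ρ hi b hb t ht]
  congr 2
  show 1 * 1 * Q (t • b.1) = _
  rw [QuadraticMap.map_smul, smul_eq_mul]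
  ring

theorem rk_eq {i : ℕ} (hi : i + 1 < n) (b : S.W (i + 1)) (hb : b ≠ 0) :
    S.rk ρ i b = S.rk ρ i (S.bstd hi (Q b.1)) := by
  rw [S.rk_std ρ hi b hb 1 one_ne_zero]; simp

theorem rk_sq {i : ℕ} (hi : i + 1 < n) (c t : F) (ht : t ≠ 0) :
    S.rk ρ i (S.bstd hi (t * t * c)) = S.rk ρ i (S.bstd hi c) := by
  have hb : S.bstd hi c ≠ 0 := fun h => by
    have := congrArg (fun y : S.W (i + 1) => polar Q (S.f (i + 1)) y.1) h
    simp [bstd, polar_add_right, polar_smul_right, S.pfe (i := i + 1) (j := i + 1) hi hi,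
      S.pff (i + 1) (i + 1) hi hi] at this
  have := S.rk_std ρ hi _ hb t ht
  rw [S.Q_bstd] at this
  exact this.symm

/-- The long root vector of a level. -/
def xvec {i : ℕ} (hi : i + 1 < n) : S.W (i + 1) := ⟨S.e (i + 1), S.e_mem_W le_rfl hi⟩

theorem sum_moved {i : ℕ} (hi : i + 1 < n) [DecidableEq F] :
    ∑ b ∈ Finset.univ.filter (fun b : S.W (i + 1) => polar Q b.1 (S.e (i + 1)) ≠ 0), S.rk ρ i b =
      (Fintype.card F - 1) * Fintype.card F ^ (2 * (n - (i + 2)) + 1) * ∑ c : F, S.rk ρ i (S.bstd hi c) := by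
  classical
  rw [← Finset.sum_fiberwise (Finset.univ.filter fun b : S.W (i + 1) => polar Q b.1 (S.e (i + 1)) ≠ 0)
    (fun b => Q b.1) (fun b => S.rk ρ i b), Finset.mul_sum]
  refine Finset.sum_congr rfl fun c _ => ?_
  rw [Finset.sum_congr rfl (g := fun _ => S.rk ρ i (S.bstd hi c)) fun b hb => ?_, Finset.sum_const, smul_eq_mul]
  · congr 1
    rw [← S.card_W (j := i + 2) (by omega), ← S.toHyp.card_moved (i := i + 1) hi c, Nat.card_eq_fintype_card,
      Fintype.card_subtype, Finset.filter_filter]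
    refine congrArg Finset.card (Finset.filter_congr fun b _ => ?_)
    rw [polar_comm]
    exact and_comm
  · rw [Finset.mem_filter, Finset.mem_filter] at hb
    have hb0 : b ≠ 0 := fun h => hb.1.2 (by rw [h, Submodule.coe_zero, polar_zero_left])
    rw [S.rk_eq ρ hi b hb0, hb.2]

/-- The drop of the long root element of level `i` on the fixed space of the previous radicals. -/
theorem drop_eq {i : ℕ} (hi : i + 1 < n) :
    (S.dimE ρ i : ℂ) - S.tr ρ i (S.T i (S.xvec hi)) =
      (Fintype.card F : ℂ) ^ (2 * (n - (i + 1))) * ((∑ c : F, S.rk ρ i (S.bstd hi c) : ℕ) : ℂ) := by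
  classical
  have h := S.toHyp.drop ρ S.nd S.five (i := i) (by omega) (S.rk_scale ρ hi) (S.xvec hi)
  rw [show (S.xvec hi).1 = S.e (i + 1) from rfl, S.sum_moved ρ hi, Nat.cast_mul, Nat.cast_mul, Nat.cast_pow,
    Nat.cast_sub Fintype.card_pos, Nat.cast_one] at h
  have hq : ((Fintype.card F : ℂ) - 1) ≠ 0 := by
    rw [sub_ne_zero, Ne, Nat.cast_eq_one]
    exact Fintype.one_lt_card.ne'
  apply mul_left_cancel₀ hq
  rw [h, show 2 * (n - (i + 1)) = 2 * (n - (i + 2)) + 1 + 1 by omega, pow_succ _ (2 * (n - (i + 2)) + 1)]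
  ring

end OddFrame

end CfsgLib.OrthDeg
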