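import Cfsg.Agent.Lib.OrthDeg.OddTop

set_option autoImplicit false
set_option linter.unusedSectionVars false
set_option linter.style.haveILetI false

/-!
An involution with a one-dimensional fixed space: its trace through the layers, and the class-sum
congruence that only rank three survives.
-/

namespace CfsgLib.OrthDeg

open QuadraticMap CfsgLib.Orth CfsgLib.KnownSimple.ModulePerm

theorem eq_of_chi {F : Type*} [Field F] [Fintype F] {x y : F} (h : ∀ t : F, chi F (t * x) = chi F (t * y)) :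
    x = y := by
  by_contra hne
  obtain ⟨t, ht⟩ := (exists_char F).choose_spec (x - y) (sub_ne_zero.mpr hne)
  refine ht ?_
  show chi F ((x - y) * t) = 1
  rw [sub_mul, AddChar.map_sub_eq_div, mul_comm x, mul_comm y, h t]
  exact div_self (AddChar.val_isUnit _ _).ne_zero

theorem bsum_congr (q m : ℕ) (hq : 1 ≤ q) : ∃ t : ℕ, bsum q m = m + (q * q - 1) * t := by
  induction m with
  | zero => exact ⟨0, by simp [bsum]⟩
  | succ m ih =>
    obtain ⟨t, ht⟩ := ih
    have h := bsum_mul q m hq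
    refine ⟨t + bsum q m, ?_⟩
    rw [bsum_succ, mul_add]
    omega

/-- The class-sum congruence at the involution. -/
theorem invol_arith {q m k : ℕ} {V s : ℤ} (hq : 1 ≤ q) (hm : 1 ≤ m) (hk : k + 1 = bsum q (m + 1)) (hs : s = 1 ∨ s = -1)
    (h : (k : ℤ) ∣ (q : ℤ) ^ (m + 1) * ((q : ℤ) ^ (m + 1) + s) * V) : (bsum q m : ℤ) ∣ (m : ℤ) * V := by
  have hB := bsum_succ' q m
  have hk' : (k : ℤ) = (q : ℤ) * q * bsum q m := by
    have : k = q * q * bsum q m := by omega
    exact_mod_cast this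
  have hcop : IsCoprime (bsum q m : ℤ) ((q : ℤ) ^ (m + 1)) := by
    refine IsCoprime.pow_right ?_
    obtain ⟨j, rfl⟩ : ∃ j, m = j + 1 := ⟨m - 1, by omega⟩
    rw [bsum_succ']
    exact ⟨1, -((q : ℤ) * bsum q j), by push_cast; ring⟩
  have h1 : (bsum q m : ℤ) ∣ ((q : ℤ) ^ (m + 1) + s) * V := by
    refine hcop.dvd_of_dvd_mul_left ?_
    rw [← mul_assoc]
    exact dvd_trans (Dvd.intro_left _ hk'.symm) h
  have hqq : 1 ≤ q * q := Nat.mul_pos hq hq
  have h2 : ((q : ℤ) ^ (2 * (m + 1))) = ((q : ℤ) * q - 1) * bsum q (m + 1) + 1 := by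
    have e := congrArg (fun x : ℕ => (x : ℤ)) (bsum_mul q (m + 1) hq)
    push_cast [Nat.cast_sub hqq] at e
    linarith
  have h3 : (bsum q m : ℤ) ∣ ((q : ℤ) * q - 1) * V := by
    have h4 := dvd_mul_of_dvd_right h1 ((q : ℤ) ^ (m + 1) - s)
    have e : ((q : ℤ) ^ (m + 1) - s) * (((q : ℤ) ^ (m + 1) + s) * V) =
        ((q : ℤ) * q - 1) * V + (bsum q m : ℤ) * (((q : ℤ) * q - 1) * ((q : ℤ) * q) * V) := by
      have hs2 : s * s = 1 := by rcases hs with rfl | rfl <;> rfl
      have hB' : (bsum q (m + 1) : ℤ) = (q : ℤ) * q * bsum q m + 1 := by exact_mod_cast hB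
      calc ((q : ℤ) ^ (m + 1) - s) * (((q : ℤ) ^ (m + 1) + s) * V)
          = ((q : ℤ) ^ (2 * (m + 1)) - s * s) * V := by ring
        _ = _ := by rw [h2, hs2, hB']; ring
    rw [e] at h4
    exact (dvd_add_left (Dvd.intro _ rfl)).mp h4
  obtain ⟨t, ht⟩ := bsum_congr q m hq
  have e : (m : ℤ) * V = (bsum q m : ℤ) * V - (t : ℤ) * (((q : ℤ) * q - 1) * V) := by
    have := congrArg (fun x : ℕ => (x : ℤ)) ht
    push_cast [Nat.cast_sub hqq] at this
    rw [this]; ring
  rw [e]
  exact dvd_sub (Dvd.intro _ rfl) (dvd_mul_of_dvd_right h3 _)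

/-- Only rank three can satisfy the congruence, and then the bottom trace vanishes. -/
theorem invol_finish {q m : ℕ} {ε δ z : ℤ} (hq : 5 ≤ q) (hm : 2 ≤ m) (hε : ε = 1 ∨ ε = -1)
    (hδ : δ = 1 ∨ δ = -1) (hz1 : -(m : ℤ) ≤ z) (hz2 : z ≤ m)
    (h : (bsum q m : ℤ) ∣ (m : ℤ) * (δ * ((q : ℤ) * bsum q m + ε * ((q : ℤ) ^ m - 1) - m) + z)) :
    m = 2 ∧ z = 0 := by
  have h' : (bsum q m : ℤ) ∣ (m : ℤ) * (δ * (ε * ((q : ℤ) ^ m - 1) - m) + z) := by
    have e : (m : ℤ) * (δ * ((q : ℤ) * bsum q m + ε * ((q : ℤ) ^ m - 1) - m) + z) =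
        (bsum q m : ℤ) * (m * δ * q) + (m : ℤ) * (δ * (ε * ((q : ℤ) ^ m - 1) - m) + z) := by ring
    rw [e] at h
    exact (dvd_add_right (Dvd.intro _ rfl)).mp h
  rcases Nat.lt_or_ge m 3 with hm3 | hm3
  · obtain rfl : m = 2 := by omega
    refine ⟨rfl, ?_⟩
    have hb : (bsum q 2 : ℤ) = 1 + (q : ℤ) ^ 2 := by simp [bsum, Finset.sum_range_succ]
    rw [hb] at h'
    have h'' : 1 + (q : ℤ) ^ 2 ∣ 2 * (δ * (-2 * ε - 2) + z) := by
      have e : ((2 : ℕ) : ℤ) * (δ * (ε * ((q : ℤ) ^ 2 - 1) - (2 : ℕ)) + z) =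
          (1 + (q : ℤ) ^ 2) * (2 * δ * ε) + 2 * (δ * (-2 * ε - 2) + z) := by push_cast; ring
      rw [e] at h'
      exact (dvd_add_right (Dvd.intro _ rfl)).mp h'
    have hq2 : (25 : ℤ) ≤ (q : ℤ) ^ 2 := by
      have : (5 : ℤ) ≤ q := by exact_mod_cast hq
      nlinarith
    have h0 : 2 * (δ * (-2 * ε - 2) + z) = 0 := Int.eq_zero_of_abs_lt_dvd h'' (by
      rw [abs_lt]
      push_cast at hz1 hz2
      rcases hε with rfl | rfl <;> rcases hδ with rfl | rfl <;> constructor <;> linarith)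
    push_cast at hz1 hz2
    rcases hε with rfl | rfl <;> rcases hδ with rfl | rfl <;> linarith
  · exfalso
    set A : ℤ := (q : ℤ) ^ m with hA
    set W : ℤ := δ * (ε * (A - 1) - m) + z with hW
    have hq5 : (5 : ℤ) ≤ q := by exact_mod_cast hq
    have hm' : (3 : ℤ) ≤ m := by exact_mod_cast hm3
    have hA2 : 3 * (m : ℤ) + 2 ≤ A := by
      have : ∀ j : ℕ, 3 ≤ j → 3 * (j : ℤ) + 2 ≤ (q : ℤ) ^ j := by
        intro j hj
        induction j, hj using Nat.le_induction with
        | base =>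
          push_cast
          have : (125 : ℤ) ≤ (q : ℤ) ^ 3 := by
            calc (125 : ℤ) = 5 ^ 3 := by norm_num
              _ ≤ (q : ℤ) ^ 3 := pow_le_pow_left₀ (by norm_num) hq5 3
          linarith
        | succ j hj ih =>
          rw [pow_succ]
          push_cast
          nlinarith
      exact this m hm3
    have hbig : (m : ℤ) * (A + 2 * m) < bsum q m := by
      have hN : ∀ j, 3 ≤ j → j * (q ^ j + 2 * j) ≤ q ^ (2 * (j - 1)) := by
        intro j hj
        induction j, hj using Nat.le_induction with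
        | base =>
          have h3 : 125 ≤ q ^ 3 := by
            calc 125 = 5 ^ 3 := by norm_num
              _ ≤ q ^ 3 := Nat.pow_le_pow_left hq 3
          rw [show 2 * (3 - 1) = 3 + 1 by norm_num, pow_succ q 3]
          nlinarith
        | succ j hj ih =>
          rw [show 2 * (j + 1 - 1) = 2 * (j - 1) + 2 by omega, pow_succ q j, pow_add]
          have h4 := Nat.mul_le_mul_right (q ^ 2) ih
          have h5 : 2 * q ≤ q ^ 2 ∧ 8 ≤ 2 * q ^ 2 := by constructor <;> nlinarith
          have h6 : (j + 1) * (q ^ j * q + 2 * (j + 1)) ≤ 2 * j * (q ^ j * q + 4 * j) :=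
            Nat.mul_le_mul (by omega) (by omega)
          have h7 : 2 * j * (q ^ j * q + 4 * j) ≤ j * (q ^ j + 2 * j) * q ^ 2 := by
            calc 2 * j * (q ^ j * q + 4 * j) = j * q ^ j * (2 * q) + j * j * 8 := by ring
              _ ≤ j * q ^ j * q ^ 2 + j * j * (2 * q ^ 2) :=
                Nat.add_le_add (Nat.mul_le_mul_left _ h5.1) (Nat.mul_le_mul_left _ h5.2)
              _ = _ := by ring
          exact le_trans h6 (le_trans h7 h4)
      obtain ⟨j, rfl⟩ : ∃ j, m = j + 1 := ⟨m - 1, by omega⟩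
      have h1 := hN (j + 1) (by omega)
      rw [Nat.add_sub_cancel] at h1
      have h2 : (j + 1) * (q ^ (j + 1) + 2 * (j + 1)) < bsum q (j + 1) := by
        rw [bsum_succ]
        have := bsum_ge (show 1 ≤ q by omega) j
        omega
      rw [hA]
      exact_mod_cast h2
    have hWne : W ≠ 0 := by
      rcases hε with rfl | rfl <;> rcases hδ with rfl | rfl <;> simp only [hW] <;> intro h0 <;> linarith
    have hWle : |W| ≤ A + 2 * m := by
      rw [abs_le]
      rcases hε with rfl | rfl <;> rcases hδ with rfl | rfl <;> simp only [hW] <;> constructor <;> linarith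
    have := Int.eq_zero_of_abs_lt_dvd h' (lt_of_le_of_lt (by
      rw [abs_mul, abs_of_nonneg (by linarith : (0 : ℤ) ≤ m)]
      exact mul_le_mul_of_nonneg_left hWle (by linarith)) hbig)
    rcases mul_eq_zero.mp this with h0 | h0
    · omega
    · exact hWne h0

variable {ι : Type} [Fintype ι] [DecidableEq ι] {F : Type*} [Field F] [Fintype F]

/-- minus the identity -/
noncomputable def negO (Q : QuadraticForm F (ι → F)) : O Q :=
  mkO (-LinearMap.id) (-LinearMap.id) (by ext; simp) (by ext; simp) (fun x => by simp [QuadraticMap.map_neg])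

theorem app_negO {Q : QuadraticForm F (ι → F)} (x : ι → F) : app (negO Q) x = -x := by
  rw [negO, app_mkO]; rfl

variable {Q : QuadraticForm F (ι → F)} {n : ℕ} (S : OddFrame Q n)

namespace OddFrame

include S

/-- the product of the first `j` inversions of pairs and of the reflection in `x0` -/
noncomputable def negPart : ℕ → O Q
  | 0 => refl Q S.x0
  | j + 1 => negPart j * S.toHyp.tor j (-1)

theorem app_negPart : ∀ {j : ℕ}, j ≤ n → ∀ x : ι → F,
    app (S.negPart j) x = x - (2 : F) • (x - S.pr j x) - polar Q x S.x0 • S.x0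
  | 0, _, x => by
    rw [negPart, app_refl, S.Qx0, inv_one, one_mul, Hyp.pr_zero, sub_self, smul_zero, sub_zero]
  | j + 1, hj, x => by
    have hjn : j < n := by omega
    have hneg : (-1 : F) ≠ 0 := neg_ne_zero.mpr one_ne_zero
    rw [negPart, app_mul, app_negPart (j := j) (by omega), S.toHyp.app_tor hjn hneg, polar_add_left,
      polar_add_left, polar_smul_left, polar_smul_left, (S.x0_perp hjn).1, (S.x0_perp hjn).2.1, smul_zero,
      smul_zero, add_zero, add_zero, map_add, map_add, map_smul, map_smul,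
      S.pr_eq_self (S.e_mem_W (i := j) le_rfl hjn), S.pr_eq_self (S.f_mem_W (i := j) le_rfl hjn), Hyp.pr_succ,
      show ((-1 : F))⁻¹ = -1 by rw [inv_neg, inv_one]]
    module

theorem negPart_n : S.negPart n = negO Q := ext_app fun x => by
  rw [S.app_negPart le_rfl, app_negO]
  obtain ⟨t, ht⟩ := S.base _ (S.pr_mem (i := n) le_rfl x)
  have hp : polar Q x S.x0 = 2 * t := by
    rw [← S.toHyp.polar_pr le_rfl x S.x0_mem, ht, polar_smul_left, S.px0, smul_eq_mul, mul_comm]
  rw [hp, ht]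
  module

open scoped Classical in
theorem chi_negO {d : F} (hd : ¬ IsSquare d) :
    chiPair Q d (negO Q) = ((-1, 1) * (if IsSquare (-1 : F) then (-1, 1) else (1, -1))) ^ n * (-1, 1) := by
  rw [← S.negPart_n]
  suffices ∀ j, j ≤ n → chiPair Q d (S.negPart j) =
      ((-1, 1) * (if IsSquare (-1 : F) then (-1, 1) else (1, -1))) ^ j * (-1, 1) from this n le_rfl
  intro j hj
  induction j with
  | zero => rw [negPart, S.chi_refl_one hd S.Qx0, pow_zero, one_mul]
  | succ j ih =>
    rw [negPart, map_mul, ih (by omega), S.chi_tor hd (show j < n by omega) (neg_ne_zero.mpr one_ne_zero), pow_succ,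
      mul_right_comm]

/-- The anisotropic vector fixed by the involution. -/
noncomputable def v0 : ι → F := if Even n then S.x0 else S.e (n - 1) - S.f (n - 1)

/-- Its value. -/
noncomputable def c0 (_S : OddFrame Q n) : F := if Even n then 1 else -1

theorem Qv0 : Q S.v0 = S.c0 := by
  have h : n - 1 < n := by have := S.n3; omega
  unfold v0 c0
  split_ifs
  · exact S.Qx0
  · simp [sub_eq_add_neg, QuadraticMap.map_add ⇑Q, polar_neg_right, QuadraticMap.map_neg,
      S.Qe _ h, S.Qf _ h, S.pef _ _ h h]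

theorem c0_ne : S.c0 ≠ 0 := by unfold c0; split_ifs <;> simp

theorem v0_mem : S.v0 ∈ S.W (n - 1) := by
  have h : n - 1 < n := by have := S.n3; omega
  unfold v0
  split_ifs
  · exact S.W_anti (Nat.sub_le n 1) S.x0_mem
  · exact sub_mem (S.e_mem_W le_rfl h) (S.f_mem_W le_rfl h)

theorem v0_perp {j : ℕ} (hj : j < n - 1) :
    polar Q (S.e j) S.v0 = 0 ∧ polar Q (S.f j) S.v0 = 0 :=
  ⟨(S.perp_e hj S.v0_mem).1, (S.perp_f hj S.v0_mem).1⟩

open scoped Classical in
theorem invol_mem : negO Q * refl Q S.v0 ∈ Om Q := by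
  obtain ⟨d, hd⟩ := S.exists_nonsq
  rw [S.mem_omega hd, map_mul, S.chi_negO hd,
    chiPair_refl S.h2 hd (by rw [S.Qv0]; exact S.c0_ne), S.Qv0]
  set a : ℤˣ × ℤˣ := (-1, 1) with ha
  set b : ℤˣ × ℤˣ := if IsSquare (-1 : F) then (-1, 1) else (1, -1) with hb
  have h2 : ∀ u : ℤˣ × ℤˣ, u * u = 1 := fun u => Prod.ext (Int.units_mul_self _) (Int.units_mul_self _)
  unfold c0
  rcases Nat.even_or_odd n with he | ho
  · rw [if_pos he, if_pos IsSquare.one]
    obtain ⟨l, hl⟩ := he
    have hp : (a * b) ^ n = 1 := by rw [hl, ← two_mul, pow_mul, pow_two, h2, one_pow]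
    rw [hp, one_mul, h2]
  · rw [if_neg (Nat.not_even_iff_odd.mpr ho)]
    obtain ⟨l, hl⟩ := ho
    have hp : (a * b) ^ n = a * b := by rw [hl, pow_succ, pow_mul, pow_two, h2, one_pow, one_mul]
    rw [hp, ← hb, mul_right_comm a b a, h2, one_mul, h2]

/-- The involution `-refl(v0)`. -/
noncomputable def sv : Om Q := ⟨negO Q * refl Q S.v0, S.invol_mem⟩

theorem ap_sv (x : ι → F) : ap S.sv x = -x + (S.c0⁻¹ * polar Q x S.v0) • S.v0 := by
  show app (negO Q * refl Q S.v0) x = _
  rw [app_mul, app_negO, app_refl, S.Qv0, neg_sub, sub_eq_neg_add]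

theorem sv_sq : S.sv * S.sv = 1 := Subtype.ext (ext_app fun x => by
  show app (S.sv.1 * S.sv.1) x = _
  rw [app_mul]
  show ap S.sv (ap S.sv x) = app 1 x
  rw [S.ap_sv, S.ap_sv, app_one, polar_add_left, polar_neg_left, polar_smul_left, polar_self', S.Qv0,
    smul_eq_mul]
  have := S.c0_ne
  match_scalars <;> field_simp
  ring)

theorem sv_commute {g : Om Q} (hg : ap g S.v0 = S.v0) : g * S.sv = S.sv * g :=
  Subtype.ext (ext_app fun x => by
    show app (g.1 * S.sv.1) x = app (S.sv.1 * g.1) x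
    rw [app_mul, app_mul]
    show ap g (ap S.sv x) = ap S.sv (ap g x)
    have hp : polar Q (ap g x) S.v0 = polar Q x S.v0 := by
      conv_lhs => rw [← hg, polar_app]
    rw [S.ap_sv, S.ap_sv, hp, map_add, map_neg, map_smul, hg])

theorem sv_e {j : ℕ} (hj : j < n - 1) : ap S.sv (S.e j) = (-1 : F) • S.e j := by
  rw [S.ap_sv, (S.v0_perp hj).1]; simp

theorem flag_sv {i : ℕ} (hi : i ≤ n - 1) : S.Flag i S.sv := fun j hj => ⟨-1, S.sv_e (by omega)⟩

theorem bmap_sv {i : ℕ} (hi : i + 1 < n) (b : S.W (i + 1)) :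
    (S.bmap (i := i) (by omega) S.sv (-1) b = b) ↔ polar Q b.1 S.v0 = 0 := by
  have hm : S.v0 ∈ S.W (i + 1) := S.W_anti (by omega) S.v0_mem
  have e : (S.bmap (i := i) (by omega) S.sv (-1) b).1 = b.1 - (S.c0⁻¹ * polar Q b.1 S.v0) • S.v0 := by
    show (-1 : F)⁻¹ • S.pr (i + 1) (ap S.sv b.1) = _
    rw [S.ap_sv, S.pr_eq_self (add_mem (neg_mem b.2) ((S.W _).smul_mem _ hm)), inv_neg, inv_one]
    module
  constructor
  · intro h
    have h' := congrArg Subtype.val h
    rw [e, sub_eq_self, smul_eq_zero, mul_eq_zero, inv_eq_zero] at h'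
    rcases h' with (h' | h') | h'
    · exact absurd h' S.c0_ne
    · exact h'
    · exact absurd (by rw [← S.Qv0, h', QuadraticMap.map_zero]) S.c0_ne
  · intro h
    refine Subtype.ext ?_
    rw [e, h, mul_zero, zero_smul, sub_zero]

theorem card_perp {l : ℕ} (hl : l + 1 ≤ n) :
    Nat.card {x : S.W (n - 1 - l) // polar Q x.1 S.v0 = 0} = Fintype.card F ^ (2 * l + 2) := by
  classical
  have hn1 : n - 1 < n := by have := S.n3; omega
  induction l with
  | zero =>
    have hcn : n - 1 + 1 = n := by omega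
    rw [Nat.sub_zero, mul_zero, zero_add, pow_two, ← Nat.card_eq_fintype_card (α := F), ← Nat.card_prod]
    by_cases he : Even n
    · refine Nat.card_congr
        { toFun := fun x => (polar Q (S.f (n - 1)) x.1.1, polar Q (S.e (n - 1)) x.1.1)
          invFun := fun p => ⟨⟨p.1 • S.e (n - 1) + p.2 • S.f (n - 1), add_mem ((S.W _).smul_mem _ (S.e_mem_W le_rfl hn1))
            ((S.W _).smul_mem _ (S.f_mem_W le_rfl hn1))⟩, by
              simp [v0, he, polar_add_left, polar_smul_left, (S.x0_perp hn1).1, (S.x0_perp hn1).2.1]⟩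
          left_inv := fun x => Subtype.ext (Subtype.ext (by
            have hd := S.toHyp.decomp x.1.2
            obtain ⟨t, ht⟩ := S.base _ (S.W_anti (show n ≤ n - 1 + 1 by omega) (S.pr_mem (i := n - 1 + 1) (by omega) x.1.1))
            have hx := x.2
            simp only [v0, if_pos he] at hx
            rw [hd, polar_add_left, polar_add_left, polar_smul_left, polar_smul_left, (S.x0_perp hn1).1,
              (S.x0_perp hn1).2.1, smul_zero, smul_zero, zero_add, zero_add, ht, polar_smul_left, S.px0,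
              smul_eq_mul, mul_eq_zero] at hx
            conv_rhs => rw [hd, ht, hx.resolve_right S.h2, zero_smul, add_zero]))
          right_inv := fun p => by
            simp [polar_add_right, polar_smul_right, S.pee _ _ hn1 hn1, S.pff _ _ hn1 hn1, S.pef _ _ hn1 hn1,
              S.pfe (i := n - 1) (j := n - 1) hn1 hn1] }
    · refine Nat.card_congr
        { toFun := fun x => (polar Q (S.f (n - 1)) x.1.1, 2⁻¹ * polar Q x.1.1 S.x0)
          invFun := fun p => ⟨⟨p.1 • S.e (n - 1) + p.1 • S.f (n - 1) + p.2 • S.x0,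
            add_mem (add_mem ((S.W _).smul_mem _ (S.e_mem_W le_rfl hn1)) ((S.W _).smul_mem _ (S.f_mem_W le_rfl hn1)))
              ((S.W _).smul_mem _ (S.W_anti (Nat.sub_le n 1) S.x0_mem))⟩, by
              simp [v0, he, polar_add_left, polar_smul_left, polar_sub_right, (S.x0_perp hn1).2.2.1,
                (S.x0_perp hn1).2.2.2, S.pee _ _ hn1 hn1, S.pff _ _ hn1 hn1, S.pef _ _ hn1 hn1,
                S.pfe (i := n - 1) (j := n - 1) hn1 hn1]⟩
          left_inv := fun x => Subtype.ext (Subtype.ext (by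
            have hd := S.toHyp.decomp x.1.2
            obtain ⟨t, ht⟩ := S.base _ (S.W_anti (show n ≤ n - 1 + 1 by omega) (S.pr_mem (i := n - 1 + 1) (by omega) x.1.1))
            have hx := x.2
            simp only [v0, if_neg he] at hx
            rw [polar_sub_right, polar_comm (f := ⇑Q) x.1.1 (S.e (n - 1)),
              polar_comm (f := ⇑Q) x.1.1 (S.f (n - 1)), sub_eq_zero] at hx
            have hx0 : polar Q x.1.1 S.x0 = t * 2 := by
              conv_lhs => rw [hd, ht]
              simp [polar_add_left, polar_smul_left, (S.x0_perp hn1).1, (S.x0_perp hn1).2.1, S.px0]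
            conv_rhs => rw [hd, ht, hx]
            show _ + (2⁻¹ * polar Q x.1.1 S.x0) • S.x0 = _
            rw [hx0, mul_comm t, inv_mul_cancel_left₀ S.h2]))
          right_inv := fun p => by
            refine Prod.ext ?_ ?_
            · simp [polar_add_right, polar_smul_right, S.pff _ _ hn1 hn1, (S.x0_perp hn1).2.1,
                S.pfe (i := n - 1) (j := n - 1) hn1 hn1]
            · simp [polar_add_left, polar_smul_left, (S.x0_perp hn1).1, (S.x0_perp hn1).2.1, S.px0, mul_comm,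
                S.h2] }
  | succ l ih =>
    have hi : n - 1 - (l + 1) < n := by omega
    have e := Nat.card_congr ((Equiv.subtypeEquiv (q := fun p : F × F × S.W (n - 1 - (l + 1) + 1) =>
      polar Q p.2.2.1 S.v0 = 0) (S.toHyp.splitEquiv hi) fun x => by
        show _ ↔ polar Q (S.pr (n - 1 - (l + 1) + 1) x.1) S.v0 = 0
        rw [S.toHyp.polar_pr hi _ (S.W_anti (by omega) S.v0_mem)]).trans
      { toFun := fun p => (p.1.1, p.1.2.1, (⟨p.1.2.2, p.2⟩ : {w : S.W (n - 1 - (l + 1) + 1) // polar Q w.1 S.v0 = 0}))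
        invFun := fun p => ⟨(p.1, p.2.1, p.2.2.1), p.2.2.2⟩
        left_inv := fun p => rfl
        right_inv := fun p => rfl })
    rw [e, Nat.card_prod, Nat.card_prod, show n - 1 - (l + 1) + 1 = n - 1 - l by omega, ih (by omega),
      Nat.card_eq_fintype_card]
    ring

theorem card_perp_cone : ∃ ε : ℤ, (ε = 1 ∨ ε = -1) ∧ ∀ l, l + 1 ≤ n →
    (Nat.card {x : S.W (n - 1 - l) // Q x.1 = 0 ∧ polar Q x.1 S.v0 = 0} : ℤ) =
      (Fintype.card F : ℤ) ^ (2 * l + 1) + ε * ((Fintype.card F : ℤ) - 1) * (Fintype.card F : ℤ) ^ l := by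
  classical
  have hn3 := S.n3
  have hn1 : n - 1 < n := by omega
  have hcn : n - 1 + 1 = n := by omega
  set q := Fintype.card F with hq
  have hbase : Nat.card {x : S.W (n - 1) // Q x.1 = 0 ∧ polar Q x.1 S.v0 = 0} = 2 * q - 1 ∨
      Nat.card {x : S.W (n - 1) // Q x.1 = 0 ∧ polar Q x.1 S.v0 = 0} = 1 := by
    by_cases he : Even n
    · left
      have h := S.toHyp.card_value hn1 0 (fun y => polar Q y S.v0 = 0) fun a b w hw => by
        simp [v0, he, polar_add_left, polar_smul_left, (S.x0_perp hn1).1, (S.x0_perp hn1).2.1]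
      rw [h]
      have hz : ∀ w : S.W (n - 1 + 1), polar Q w.1 S.v0 = 0 → w = 0 := by
        intro w hw
        obtain ⟨t, ht⟩ := S.base w.1 (S.W_anti (show n ≤ n - 1 + 1 by omega) w.2)
        simp only [v0, if_pos he, ht, polar_smul_left, S.px0, smul_eq_mul, mul_eq_zero, S.h2, or_false] at hw
        exact Subtype.ext (by rw [ht, hw, zero_smul]; rfl)
      have e1 : Nat.card {w : S.W (n - 1 + 1) // polar Q w.1 S.v0 = 0} = 1 :=
        Nat.card_eq_one_iff_unique.mpr ⟨⟨fun a b => Subtype.ext ((hz _ a.2).trans (hz _ b.2).symm)⟩,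
          ⟨⟨0, by simp⟩⟩⟩
      have e2 : Nat.card {w : S.W (n - 1 + 1) // Q w.1 = 0 ∧ polar Q w.1 S.v0 = 0} = 1 :=
        Nat.card_eq_one_iff_unique.mpr ⟨⟨fun a b => Subtype.ext ((hz _ a.2.2).trans (hz _ b.2.2).symm)⟩,
          ⟨⟨0, by simp⟩⟩⟩
      rw [e1, e2]
      have : 1 ≤ q := Fintype.card_pos
      omega
    · have key : Nat.card {x : S.W (n - 1) // Q x.1 = 0 ∧ polar Q x.1 S.v0 = 0} =
          Nat.card {p : F × F // p.1 * p.1 + p.2 * p.2 = 0} := by
        refine Nat.card_congr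
          { toFun := fun x => ⟨(polar Q (S.f (n - 1)) x.1.1, 2⁻¹ * polar Q x.1.1 S.x0), ?_⟩
            invFun := fun p => ⟨⟨p.1.1 • S.e (n - 1) + p.1.1 • S.f (n - 1) + p.1.2 • S.x0,
              add_mem (add_mem ((S.W _).smul_mem _ (S.e_mem_W le_rfl hn1)) ((S.W _).smul_mem _ (S.f_mem_W le_rfl hn1)))
                ((S.W _).smul_mem _ (S.W_anti (Nat.sub_le n 1) S.x0_mem))⟩, ?_, ?_⟩
            left_inv := fun x => Subtype.ext (Subtype.ext ?_)
            right_inv := fun p => Subtype.ext ?_ }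
        · have hd := S.toHyp.decomp x.1.2
          obtain ⟨t, ht⟩ := S.base _ (S.W_anti (show n ≤ n - 1 + 1 by omega) (S.pr_mem (i := n - 1 + 1) (by omega) x.1.1))
          have hx := x.2.2
          simp only [v0, if_neg he] at hx
          rw [polar_sub_right, polar_comm (f := ⇑Q) x.1.1 (S.e (n - 1)),
            polar_comm (f := ⇑Q) x.1.1 (S.f (n - 1)), sub_eq_zero] at hx
          have hx0 : polar Q x.1.1 S.x0 = t * 2 := by
            conv_lhs => rw [hd, ht]
            simp [polar_add_left, polar_smul_left, (S.x0_perp hn1).1, (S.x0_perp hn1).2.1, S.px0]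
          have hQx := x.2.1
          rw [hd, S.toHyp.Q_split hn1 _ _ (S.pr_mem (by omega) _), ht, QuadraticMap.map_smul, S.Qx0, hx,
            smul_eq_mul, mul_one] at hQx
          show _ * _ + _ * _ = 0
          rw [hx0, mul_comm t, inv_mul_cancel_left₀ S.h2]
          exact hQx
        · show Q (p.1.1 • S.e (n - 1) + p.1.1 • S.f (n - 1) + p.1.2 • S.x0) = 0
          rw [S.toHyp.Q_split hn1 _ _ ((S.W _).smul_mem _ (S.W_anti (show n - 1 + 1 ≤ n by omega) S.x0_mem)),
            QuadraticMap.map_smul, S.Qx0, smul_eq_mul, mul_one]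
          exact p.2
        · simp [v0, he, polar_add_left, polar_smul_left, polar_sub_right, (S.x0_perp hn1).2.2.1,
            (S.x0_perp hn1).2.2.2, S.pee _ _ hn1 hn1, S.pff _ _ hn1 hn1, S.pef _ _ hn1 hn1,
            S.pfe (i := n - 1) (j := n - 1) hn1 hn1]
        · have hd := S.toHyp.decomp x.1.2
          obtain ⟨t, ht⟩ := S.base _ (S.W_anti (show n ≤ n - 1 + 1 by omega) (S.pr_mem (i := n - 1 + 1) (by omega) x.1.1))
          have hx := x.2.2
          simp only [v0, if_neg he] at hx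
          rw [polar_sub_right, polar_comm (f := ⇑Q) x.1.1 (S.e (n - 1)),
            polar_comm (f := ⇑Q) x.1.1 (S.f (n - 1)), sub_eq_zero] at hx
          have hx0 : polar Q x.1.1 S.x0 = t * 2 := by
            conv_lhs => rw [hd, ht]
            simp [polar_add_left, polar_smul_left, (S.x0_perp hn1).1, (S.x0_perp hn1).2.1, S.px0]
          conv_rhs => rw [hd, ht, hx]
          show _ + (2⁻¹ * polar Q x.1.1 S.x0) • S.x0 = _
          rw [hx0, mul_comm t, inv_mul_cancel_left₀ S.h2]
        · refine Prod.ext ?_ ?_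
          · simp [polar_add_right, polar_smul_right, S.pff _ _ hn1 hn1, (S.x0_perp hn1).2.1,
              S.pfe (i := n - 1) (j := n - 1) hn1 hn1]
          · simp [polar_add_left, polar_smul_left, (S.x0_perp hn1).1, (S.x0_perp hn1).2.1, S.px0, mul_comm,
              S.h2]
      rw [key]
      by_cases hm1 : IsSquare (-1 : F)
      · left
        obtain ⟨i, hi⟩ := hm1
        have hi0 : i ≠ 0 := fun h => by rw [h, mul_zero] at hi; exact (neg_ne_zero.mpr one_ne_zero) hi
        rw [Nat.card_eq_fintype_card, Fintype.card_subtype]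
        have e : (Finset.univ.filter fun p : F × F => p.1 * p.1 + p.2 * p.2 = 0) =
            Finset.univ.image (fun t : F => (t, i * t)) ∪ Finset.univ.image (fun t : F => (t, -(i * t))) := by
          ext ⟨a, b⟩
          simp only [Finset.mem_filter, Finset.mem_union, Finset.mem_image, Finset.mem_univ, true_and, Prod.mk.injEq,
            exists_eq_left]
          constructor
          · intro h
            have : b * b = (i * a) * (i * a) := by linear_combination h + (a * a) * hi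
            rcases mul_self_eq_mul_self_iff.mp this with h' | h'
            exacts [Or.inl h'.symm, Or.inr h'.symm]
          · rintro (rfl | rfl) <;> linear_combination -(a * a) * hi
        have e3 : Finset.univ.image (fun t : F => (t, i * t)) ∩ Finset.univ.image (fun t : F => (t, -(i * t))) =
            {((0 : F), (0 : F))} := by
          ext ⟨a, b⟩
          simp only [Finset.mem_inter, Finset.mem_image, Finset.mem_univ, true_and, Prod.mk.injEq, exists_eq_left,
            Finset.mem_singleton]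
          constructor
          · rintro ⟨h1, h2⟩
            have : (2 : F) * (i * a) = 0 := by linear_combination h1 - h2
            rcases mul_eq_zero.mp this with h | h
            · exact absurd h S.h2
            · have ha := (mul_eq_zero.mp h).resolve_left hi0
              exact ⟨ha, by rw [← h1, ha, mul_zero]⟩
          · rintro ⟨rfl, rfl⟩; simp
        have := Finset.card_union_add_card_inter (Finset.univ.image (fun t : F => (t, i * t)))
          (Finset.univ.image (fun t : F => (t, -(i * t))))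
        rw [e3, Finset.card_singleton, ← e, Finset.card_image_of_injective _ (fun a b h => congrArg Prod.fst h),
          Finset.card_image_of_injective _ (fun a b h => congrArg Prod.fst h), Finset.card_univ] at this
        omega
      · right
        refine Nat.card_eq_one_iff_unique.mpr ⟨⟨fun a b => ?_⟩, ⟨⟨0, by simp⟩⟩⟩
        have hz : ∀ p : {p : F × F // p.1 * p.1 + p.2 * p.2 = 0}, p.1 = 0 := fun p => by
          have h := p.2
          by_cases h1 : p.1.1 = 0
          · rw [h1, mul_zero, zero_add, mul_self_eq_zero] at h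
            exact Prod.ext h1 h
          · exact absurd ⟨p.1.2 / p.1.1, by field_simp; linear_combination -h⟩ hm1
        exact Subtype.ext ((hz a).trans (hz b).symm)
  have hrec : ∀ l, l + 1 + 1 ≤ n →
      Nat.card {x : S.W (n - 1 - (l + 1)) // Q x.1 = 0 ∧ polar Q x.1 S.v0 = 0} =
        (q - 1) * q ^ (2 * l + 2) +
          q * Nat.card {x : S.W (n - 1 - l) // Q x.1 = 0 ∧ polar Q x.1 S.v0 = 0} := by
    intro l hl
    have h := S.toHyp.card_value (i := n - 1 - (l + 1)) (by omega) 0 (fun y => polar Q y S.v0 = 0)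
      fun a b w hw => by
        simp [polar_add_left, polar_smul_left, (S.v0_perp (j := n - 1 - (l + 1)) (by omega)).1,
          (S.v0_perp (j := n - 1 - (l + 1)) (by omega)).2]
    rw [h, show n - 1 - (l + 1) + 1 = n - 1 - l by omega, S.card_perp (l := l) (by omega)]
  have h1q : 1 ≤ q := Fintype.card_pos
  have main : ∀ ε : ℤ, (Nat.card {x : S.W (n - 1) // Q x.1 = 0 ∧ polar Q x.1 S.v0 = 0} : ℤ) =
      (q : ℤ) + ε * ((q : ℤ) - 1) → ∀ l, l + 1 ≤ n →
      (Nat.card {x : S.W (n - 1 - l) // Q x.1 = 0 ∧ polar Q x.1 S.v0 = 0} : ℤ) =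
        (q : ℤ) ^ (2 * l + 1) + ε * ((q : ℤ) - 1) * (q : ℤ) ^ l := by
    intro ε hε l hl
    induction l with
    | zero => simpa using hε
    | succ l ih =>
      rw [hrec l hl]
      push_cast [Nat.cast_sub h1q]
      rw [ih (by omega)]
      ring
  rcases hbase with h | h
  · exact ⟨1, Or.inl rfl, main 1 (by rw [h]; omega)⟩
  · exact ⟨-1, Or.inr rfl, main (-1) (by rw [h]; push_cast; ring)⟩

/-- The class of the involution divides the number of vectors of its value. -/
theorem class_sv_dvd : ∃ s : ℤ, (s = 1 ∨ s = -1) ∧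
    (Nat.card {y : Om Q // IsConj S.sv y} : ℤ) ∣
      (Fintype.card F : ℤ) ^ n * ((Fintype.card F : ℤ) ^ n + s) := by
  classical
  have hn3 := S.n3
  set q := Fintype.card F with hq
  let C := {y : Om Q // IsConj S.sv y}
  let P := {v : S.W 0 // Q v.1 = S.c0}
  have hg : ∀ v : P, ∃ g : Om Q, ap g S.v0 = v.1.1 := by
    intro v
    have hv : v.1.1 ≠ 0 := fun h => S.c0_ne (by rw [← v.2, h, QuadraticMap.map_zero])
    have hv0 : S.v0 ≠ 0 := fun h => S.c0_ne (by rw [← S.Qv0, h, QuadraticMap.map_zero])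
    obtain ⟨g0, hg0⟩ := POmega.exists_O_map S.nd ![S.v0] ![v.1.1]
      (linearIndependent_unique_iff.mpr hv0) (linearIndependent_unique_iff.mpr hv)
      (fun i => by fin_cases i; simp [S.Qv0, v.2])
      (fun i j => by fin_cases i; fin_cases j; simp [polar_self', S.Qv0, v.2])
    obtain ⟨h, hh, hh'⟩ := POmega.omega_agree S.nd ![S.v0] (by have := S.five; omega) S.five g0
    exact ⟨⟨h, hh⟩, (hh' 0).trans (hg0 0)⟩
  choose g hgv using hg
  have hap : ∀ (h : Om Q) (x : ι → F), ap (h * S.sv * h⁻¹) x =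
      -x + (S.c0⁻¹ * polar Q x (ap h S.v0)) • ap h S.v0 := by
    intro h x
    show app (h.1 * S.sv.1 * h.1⁻¹) x = _
    rw [app_mul, app_mul]
    show app h.1 (ap S.sv (app h.1⁻¹ x)) = _
    rw [S.ap_sv, map_add, map_neg, map_smul, app_app_inv, ← polar_app h.1 (app h.1⁻¹ x) S.v0, app_app_inv]
  let φ : P → C := fun v => ⟨g v * S.sv * (g v)⁻¹, isConj_iff.mpr ⟨g v, rfl⟩⟩
  have hfib : ∀ y : C, Nat.card {v : P // φ v = y} = 2 := by
    intro y
    obtain ⟨h, hh⟩ := isConj_iff.mp y.2
    let w : P := ⟨⟨ap h S.v0, S.mem_W_zero _⟩, by show Q (app h.1 S.v0) = _; rw [Q_app, S.Qv0]⟩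
    let w' : P := ⟨⟨-ap h S.v0, S.mem_W_zero _⟩, by
      show Q (-app h.1 S.v0) = _; rw [QuadraticMap.map_neg, Q_app, S.Qv0]⟩
    have hwne : w ≠ w' := fun e => by
      have e' : ap h S.v0 = -ap h S.v0 := congrArg (fun v : P => v.1.1) e
      have : ((1 : F) + 1) • ap h S.v0 = 0 := by
        rw [add_smul, one_smul]; nth_rewrite 1 [e']; rw [neg_add_cancel]
      rw [smul_eq_zero, one_add_one_eq_two] at this
      exact S.c0_ne (by rw [← S.Qv0, ← Q_app h.1, this.resolve_left S.h2, QuadraticMap.map_zero])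
    have hmem : ∀ v : P, φ v = y ↔ v = w ∨ v = w' := by
      intro v
      constructor
      · intro e
        have e' : g v * S.sv * (g v)⁻¹ = h * S.sv * h⁻¹ := (congrArg Subtype.val e).trans hh.symm
        have e2 := congrArg (fun z => ap z v.1.1) e'
        rw [hap, hap, hgv, add_right_inj, polar_self', v.2, show S.c0⁻¹ * (2 * S.c0) = 2 by
          have := S.c0_ne; field_simp] at e2
        set s := 2⁻¹ * (S.c0⁻¹ * polar Q v.1.1 (ap h S.v0)) with hs
        have hv' : v.1.1 = s • ap h S.v0 := by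
          rw [hs, mul_smul, ← e2, smul_smul, inv_mul_cancel₀ S.h2, one_smul]
        have hs2 : s * s = 1 := by
          have := v.2
          rw [hv', QuadraticMap.map_smul, show Q (ap h S.v0) = S.c0 by show Q (app h.1 _) = _; rw [Q_app, S.Qv0],
            smul_eq_mul] at this
          exact mul_right_cancel₀ S.c0_ne (this.trans (one_mul _).symm)
        rcases mul_self_eq_one_iff.mp hs2 with h1 | h1
        · exact Or.inl (Subtype.ext (Subtype.ext (by rw [hv', h1, one_smul])))
        · exact Or.inr (Subtype.ext (Subtype.ext (by rw [hv', h1, neg_one_smul])))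
      · intro e
        refine Subtype.ext (Eq.trans ?_ hh)
        refine Subtype.ext (ext_app fun x => ?_)
        show ap (g v * S.sv * (g v)⁻¹) x = ap (h * S.sv * h⁻¹) x
        rw [hap, hap, hgv]
        rcases e with rfl | rfl
        · rfl
        · show -x + (S.c0⁻¹ * polar Q x (-ap h S.v0)) • (-ap h S.v0) = _
          rw [polar_neg_right]; module
    rw [Nat.card_congr (Equiv.subtypeEquivRight hmem), Nat.card_eq_fintype_card, Fintype.card_subtype,
      show (Finset.univ.filter fun v : P => v = w ∨ v = w') = {w, w'} by ext; simp, Finset.card_pair hwne]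
  have hC : Nat.card P = Nat.card C * 2 := by
    rw [← Nat.card_congr (Equiv.sigmaFiberEquiv φ), Nat.card_sigma, Finset.sum_congr rfl fun y _ => hfib y,
      Finset.sum_const, smul_eq_mul, Finset.card_univ, ← Nat.card_eq_fintype_card]
  have hN : ∀ l, l ≤ n → ∃ s : ℤ, (s = 1 ∨ s = -1) ∧
      (Nat.card {v : S.W (n - l) // Q v.1 = S.c0} : ℤ) = (q : ℤ) ^ l * ((q : ℤ) ^ l + s) := by
    intro l hl
    induction l with
    | zero =>
      rw [Nat.sub_zero]
      have e : {v : S.W n // Q v.1 = S.c0} ≃ {t : F // t * t = S.c0} :=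
        Equiv.symm
          { toFun := fun t => ⟨⟨t.1 • S.x0, (S.W n).smul_mem _ S.x0_mem⟩, by
              show Q (t.1 • S.x0) = _; rw [QuadraticMap.map_smul, S.Qx0, smul_eq_mul, mul_one, t.2]⟩
            invFun := fun v => ⟨2⁻¹ * polar Q v.1.1 S.x0, by
              obtain ⟨t, ht⟩ := S.base _ v.1.2
              have hv := v.2
              rw [ht, QuadraticMap.map_smul, S.Qx0, smul_eq_mul, mul_one] at hv
              rw [ht, polar_smul_left, S.px0, smul_eq_mul, mul_comm t, inv_mul_cancel_left₀ S.h2,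
                hv]⟩
            left_inv := fun t => Subtype.ext (by
              show 2⁻¹ * polar Q (t.1 • S.x0) S.x0 = t.1
              rw [polar_smul_left, S.px0, smul_eq_mul, mul_comm t.1, inv_mul_cancel_left₀ S.h2])
            right_inv := fun v => Subtype.ext (Subtype.ext (by
              obtain ⟨t, ht⟩ := S.base _ v.1.2
              show (2⁻¹ * polar Q v.1.1 S.x0) • S.x0 = v.1.1
              rw [ht, polar_smul_left, S.px0, smul_eq_mul, mul_comm t, inv_mul_cancel_left₀ S.h2])) }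
      rw [Nat.card_congr e]
      by_cases hs : ∃ t : F, t * t = S.c0
      · obtain ⟨t, ht⟩ := hs
        have ht0 : t ≠ 0 := fun h => S.c0_ne (by rw [← ht, h, zero_mul])
        have htn : t ≠ -t := fun h => ht0 (by
          have h' : (2 : F) * t = 0 := by linear_combination h
          exact (mul_eq_zero.mp h').resolve_left S.h2)
        refine ⟨1, Or.inl rfl, ?_⟩
        rw [Nat.card_congr (Equiv.subtypeEquivRight (q := fun s : F => s = t ∨ s = -t) fun s => by
          rw [← ht, mul_self_eq_mul_self_iff]), Nat.card_eq_fintype_card, Fintype.card_subtype,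
          show (Finset.univ.filter fun s : F => s = t ∨ s = -t) = {t, -t} by ext; simp, Finset.card_pair htn]
        norm_num
      · refine ⟨-1, Or.inr rfl, ?_⟩
        haveI : IsEmpty {t : F // t * t = S.c0} := ⟨fun t => hs ⟨t.1, t.2⟩⟩
        rw [Nat.card_of_isEmpty]; norm_num
    | succ l ih =>
      obtain ⟨s, hs, h⟩ := ih (by omega)
      refine ⟨s, hs, ?_⟩
      rw [S.toHyp.card_value' (i := n - (l + 1)) (by omega), show n - (l + 1) + 1 = n - l by omega,
        S.card_W (Nat.sub_le n l), Nat.sub_sub_self (show l ≤ n by omega)]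
      rw [← hq]
      push_cast [Nat.cast_sub (show 1 ≤ q from Fintype.card_pos)]
      rw [h]
      ring
  obtain ⟨s, hs, h⟩ := hN n le_rfl
  rw [Nat.sub_self] at h
  refine ⟨s, hs, ⟨2, ?_⟩⟩
  rw [← h]
  exact_mod_cast hC

variable {V : Type*} [AddCommGroup V] [Module ℂ V] [FiniteDimensional ℂ V] (ρ : Representation ℂ (Om Q) V)

/-- The sign of the involution on a layer line. -/
noncomputable def sgn (i : ℕ) (b : S.W (i + 1)) : ℂ := LinearMap.trace ℂ V (ρ S.sv * S.L ρ i b)

theorem sgn_spec {i : ℕ} (hi : i + 1 < n) (b : S.W (i + 1)) (hrk : S.rk ρ i b = 1)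
    (hb : polar Q b.1 S.v0 = 0) :
    ρ S.sv * S.L ρ i b = S.sgn ρ i b • S.L ρ i b ∧ S.L ρ i b ≠ 0 ∧
      (S.sgn ρ i b = 1 ∨ S.sgn ρ i b = -1) := by
  have hL := S.L_idem ρ S.nd S.five (show i < n by omega) b
  have ht : LinearMap.trace ℂ V (S.L ρ i b) = 1 := by
    rw [← S.rk_eq_trace ρ S.nd S.five (by omega), hrk, Nat.cast_one]
  have hne : S.L ρ i b ≠ 0 := fun h => by rw [h, map_zero] at ht; exact zero_ne_one ht
  have hc := S.L_move ρ S.nd S.five (show i < n by omega) (S.flag_sv (by omega)) (S.sv_e (by omega)) b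
  rw [(S.bmap_sv hi b).mpr hb] at hc
  have h1 : ρ S.sv * S.L ρ i b = S.sgn ρ i b • S.L ρ i b := SLMinDeg.mul_eq_trace_smul _ _ hL ht hc
  refine ⟨h1, hne, ?_⟩
  have h2 : (S.sgn ρ i b * S.sgn ρ i b) • S.L ρ i b = (1 : ℂ) • S.L ρ i b := by
    rw [one_smul, ← smul_smul, ← h1, ← mul_smul_comm, ← h1, ← mul_assoc, ← map_mul, S.sv_sq, map_one, one_mul]
  exact mul_self_eq_one_iff.mp (smul_left_injective ℂ hne h2)

theorem sgn_move {i : ℕ} (hi : i < n) {g : Om Q} (hg : S.Flag i g) {c : F}
    (hc : ap g (S.e i) = c • S.e i) (hgs : g * S.sv = S.sv * g) (b : S.W (i + 1)) :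
    S.sgn ρ i (S.bmap hi g c b) = S.sgn ρ i b := by
  have h : ρ S.sv * S.L ρ i (S.bmap hi g c b) = ρ g * (ρ S.sv * S.L ρ i b * ρ g⁻¹) := by
    rw [← mul_assoc, ← mul_assoc, ← map_mul, hgs, map_mul, mul_assoc, mul_assoc, ← mul_assoc (ρ g) (S.L ρ i b),
      S.L_move ρ S.nd S.five hi hg hc b, mul_assoc (S.L ρ i _), ← map_mul, mul_inv_cancel, map_one, mul_one]
  rw [sgn, sgn, h, LinearMap.trace_mul_comm, mul_assoc, ← map_mul, inv_mul_cancel, map_one, mul_one]

theorem sgn_level_zero (b : S.W 1) (hb : b ≠ 0) (hQb : Q b.1 = 0) (hbv : polar Q b.1 S.v0 = 0) :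
    S.sgn ρ 0 b = S.sgn ρ 0 (S.xvec (i := 0) (by have := S.n3; omega)) := by
  classical
  have hn3 := S.n3
  have h0 : 0 < n := by omega
  have h1 : 1 < n := by omega
  have hk : n - 1 < n := by omega
  have hvb : polar Q S.v0 b.1 = 0 := by rw [polar_comm]; exact hbv
  have hbv' : ∀ t : F, b.1 ≠ t • S.v0 := fun t h => hb (Subtype.ext (by
    have h' := congrArg (fun y => polar Q y S.v0) h
    simp only [hbv, polar_smul_left, polar_self', S.Qv0, smul_eq_mul] at h'
    have : t = 0 := by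
      rcases mul_eq_zero.mp h'.symm with ht | ht
      · exact ht
      · exact absurd ht (mul_ne_zero S.h2 S.c0_ne)
    rw [h, this, zero_smul]; rfl))
  have hfv : polar Q (S.f 0) S.v0 = 0 := (S.v0_perp (by omega)).2
  have hli : ∀ x : ι → F, polar Q (S.f 0) x = 0 → (∀ t : F, x ≠ t • S.v0) →
      LinearIndependent F ![S.e 0, S.v0, x] := by
    intro x hx hxne
    rw [Fintype.linearIndependent_iff]
    intro g hg
    rw [Fin.sum_univ_three] at hg
    simp only [Matrix.cons_val_zero, Matrix.cons_val_one, Matrix.cons_val_two, Matrix.tail_cons,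
      Matrix.head_cons] at hg
    have e0 := congrArg (fun y => polar Q (S.f 0) y) hg
    simp [polar_add_right, polar_smul_right, hfv, hx, S.pfe (i := 0) (j := 0) h0 h0] at e0
    rw [e0, zero_smul, zero_add] at hg
    have hv0 : S.v0 ≠ 0 := fun h => S.c0_ne (by rw [← S.Qv0, h, QuadraticMap.map_zero])
    have g2 : g 2 = 0 := by
      by_contra h2
      refine hxne (-((g 2)⁻¹ * g 1)) ?_
      have h' := congrArg (fun y => (g 2)⁻¹ • y) hg
      simp only [smul_add, smul_smul, inv_mul_cancel₀ h2, one_smul, smul_zero] at h'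
      rw [neg_smul]
      exact eq_neg_of_add_eq_zero_right h'
    rw [g2, zero_smul, add_zero, smul_eq_zero] at hg
    intro j; fin_cases j
    exacts [e0, hg.resolve_right hv0, g2]
  have he1v : ∀ t : F, S.e 1 ≠ t • S.v0 := fun t h => by
    have h' := congrArg (fun y => polar Q (S.f 1) y) h
    simp [polar_smul_right, (S.v0_perp (j := 1) (by omega)).2, S.pfe (i := 1) (j := 1) h1 h1] at h'
  obtain ⟨g0, -, hg0⟩ := S.toHyp.flag_map S.nd (i := 0) (Nat.zero_le n) ![S.e 0, S.v0, S.e 1] ![S.e 0, S.v0, b.1]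
    (fun _ => S.mem_W_zero _) (fun _ => S.mem_W_zero _)
    (hli _ (by simp [S.pfe (i := 0) (j := 1) h0 h1]) he1v)
    (hli _ (S.perp_f (Nat.lt_succ_self 0) b.2).1 hbv')
    (by intro l; fin_cases l <;> simp [S.Qe 1 h1, hQb])
    (by
      have a1 : polar Q (S.e 1) S.v0 = 0 := (S.v0_perp (by omega)).1
      have a2 : polar Q S.v0 (S.e 1) = 0 := by rw [polar_comm]; exact a1
      have a3 := S.perp_e (Nat.lt_succ_self 0) b.2
      have a4 : polar Q b.1 b.1 = 0 := by rw [polar_self', hQb, mul_zero]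
      intro l l'
      fin_cases l <;> fin_cases l'
      exacts [rfl, rfl, (S.pee 0 1 h0 h1).trans a3.1.symm, rfl, rfl, a2.trans hvb.symm,
        (S.pee 1 0 h1 h0).trans a3.2.symm, a1.trans hbv.symm, (S.pee 1 1 h1 h1).trans a4.symm])
  obtain ⟨d, hd⟩ := S.exists_nonsq
  have hd0 : d ≠ 0 := fun h => hd (h ▸ IsSquare.zero)
  obtain ⟨z1, za, hz1, hza, hperp⟩ : ∃ z1 za : ι → F, Q z1 = 1 ∧ Q za = d ∧
      ∀ x ∈ ({S.e 0, S.v0, S.e 1} : Set (ι → F)), polar Q x z1 = 0 ∧ polar Q x za = 0 := by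
    have hQc : ∀ a c : F, Q (a • S.e (n - 1) + c • S.f (n - 1)) = a * c := fun a c => by
      simpa using S.toHyp.Q_split hk a c (zero_mem _)
    have he : ∀ j, j < n - 1 → ∀ a c : F, polar Q (S.e j) (a • S.e (n - 1) + c • S.f (n - 1)) = 0 := fun j hj a c => by
      simp [polar_add_right, polar_smul_right, S.pee j _ (show j < n by omega) hk, S.pef j _ (show j < n by omega) hk,
        (show j ≠ n - 1 by omega)]
    by_cases hev : Even n
    · refine ⟨(1 : F) • S.e (n - 1) + (1 : F) • S.f (n - 1), (1 : F) • S.e (n - 1) + d • S.f (n - 1),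
        by rw [hQc, one_mul], by rw [hQc, one_mul], ?_⟩
      rintro x (rfl | rfl | rfl)
      · exact ⟨he 0 (by omega) _ _, he 0 (by omega) _ _⟩
      · simp [v0, hev, polar_add_right, polar_smul_right, (S.x0_perp hk).2.2.1, (S.x0_perp hk).2.2.2]
      · exact ⟨he 1 (by omega) _ _, he 1 (by omega) _ _⟩
    · obtain ⟨s, t, hst⟩ := Orth.exists_binary S.h2 (one_ne_zero (α := F)) (one_ne_zero (α := F)) d
      refine ⟨S.x0, s • S.e (n - 1) + s • S.f (n - 1) + t • S.x0, S.Qx0, ?_, ?_⟩
      · rw [S.toHyp.Q_split hk _ _ ((S.W _).smul_mem t (S.W_anti (show n - 1 + 1 ≤ n by omega) S.x0_mem)),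
          QuadraticMap.map_smul, S.Qx0, smul_eq_mul, mul_one]
        linear_combination hst
      · rintro x (rfl | rfl | rfl)
        · refine ⟨(S.x0_perp h0).1, ?_⟩
          rw [polar_add_right, he 0 (by omega), polar_smul_right, (S.x0_perp h0).1, smul_zero, add_zero]
        · simp [v0, hev, polar_sub_left, polar_add_right, polar_smul_right, (S.x0_perp hk).1, (S.x0_perp hk).2.1,
            S.pee _ _ hk hk, S.pff _ _ hk hk, S.pef _ _ hk hk, S.pfe (i := n - 1) (j := n - 1) hk hk]
        · refine ⟨(S.x0_perp h1).1, ?_⟩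
          rw [polar_add_right, he 1 (by omega), polar_smul_right, (S.x0_perp h1).1, smul_zero, add_zero]
  obtain ⟨c, hc, hm⟩ := S.correct hd (refl Q z1 * refl Q za) (refl Q z1)
    (by
      rw [map_mul, S.chi_refl_one hd hz1, chiPair_refl S.h2 hd (by rw [hza]; exact hd0), hza, if_neg hd]
      rfl)
    (S.chi_refl_one hd hz1) g0
  have hfix : ∀ x ∈ ({S.e 0, S.v0, S.e 1} : Set (ι → F)), app c x = x := by
    intro x hx
    obtain ⟨p1, p2⟩ := hperp x hx
    clear hm
    induction hc using Subgroup.closure_induction with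
    | mem y hy =>
      rcases hy with rfl | rfl
      · rw [app_mul, app_refl_of_ortho p2, app_refl_of_ortho p1]
      · exact app_refl_of_ortho p1
    | one => exact app_one x
    | mul y z _ _ hy hz => rw [app_mul, hz, hy]
    | inv y _ hy => conv_lhs => rw [← hy, app_inv_app]
  let g : Om Q := ⟨g0 * c, hm⟩
  have hge : ∀ x ∈ ({S.e 0, S.v0, S.e 1} : Set (ι → F)), ap g x = app g0 x := fun x hx => by
    show app (g0 * c) x = _
    rw [app_mul, hfix x hx]
  have hflag : S.Flag 0 g := fun j hj => absurd hj (Nat.not_lt_zero j)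
  have hce : ap g (S.e 0) = (1 : F) • S.e 0 := by rw [one_smul, hge _ (by simp)]; exact hg0 0
  have hcomm := S.sv_commute (g := g) (by rw [hge _ (by simp)]; exact hg0 1)
  have hbm : S.bmap (i := 0) h0 g 1 (S.xvec (i := 0) (by omega)) = b := Subtype.ext (by
    show (1 : F)⁻¹ • S.pr 1 (ap g (S.e 1)) = b.1
    rw [hge _ (by simp), show app g0 (S.e 1) = b.1 from hg0 2, inv_one, one_smul, S.pr_eq_self b.2])
  rw [← hbm, S.sgn_move ρ h0 hflag hce hcomm]

/-- A sign passes from one level to the next by exchanging two flag vectors. -/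
theorem sgn_succ {i : ℕ} (hi : i + 2 < n) (hp : S.Pure ρ i) (hp' : S.Pure ρ (i + 1)) {δ : ℂ}
    (hδ : ∀ b : S.W (i + 1), b ≠ 0 → Q b.1 = 0 → polar Q b.1 S.v0 = 0 → S.sgn ρ i b = δ)
    (b : S.W (i + 2)) (hb : b ≠ 0) (hQb : Q b.1 = 0) (hbv : polar Q b.1 S.v0 = 0) :
    S.sgn ρ (i + 1) b = δ := by
  classical
  have hQn := S.nd
  have h5 := S.five
  have him : i < n := by omega
  have hi1 : i + 1 < n := by omega
  have hqe : Q (S.e i) = 0 := S.Qe i him
  have hqe' : Q (S.e (i + 1)) = 0 := S.Qe _ hi1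
  have pe1 : polar Q (S.e i) (-S.f (i + 1)) = 0 := by
    rw [polar_neg_right, S.pef i (i + 1) him hi1, if_neg (by omega), neg_zero]
  have pe2 : polar Q (S.e (i + 1)) (S.f i) = 0 := by rw [S.pef (i + 1) i hi1 him, if_neg (by omega)]
  set w : Om Q := el Q (S.e i) (-S.f (i + 1)) * el Q (S.e (i + 1)) (S.f i) * el Q (S.e i) (-S.f (i + 1)) with hw
  have hwx : ∀ x, polar Q (S.e i) x = 0 → polar Q (S.e (i + 1)) x = 0 → polar Q (S.f i) x = 0 →
      polar Q (S.f (i + 1)) x = 0 → ap w x = x := by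
    intro x a1 a2 a3 a4
    have c1 : ap (el Q (S.e i) (-S.f (i + 1))) x = x := by
      rw [ap_el hQn h5 hqe pe1, polar_comm (f := ⇑Q) x, a1, polar_comm (f := ⇑Q) x, polar_neg_left, a4]; simp
    have c2 : ap (el Q (S.e (i + 1)) (S.f i)) x = x := by
      rw [ap_el hQn h5 hqe' pe2, polar_comm (f := ⇑Q) x, a2, polar_comm (f := ⇑Q) x, a3]; simp
    show app (_ * _ * _ : O Q) x = x
    rw [app_mul, app_mul]
    show ap _ (ap _ (ap _ x)) = x
    rw [c1, c2, c1]
  have hqf : Q (S.f i) = 0 := S.Qf i him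
  have hqf' : Q (-S.f (i + 1)) = 0 := by rw [QuadraticMap.map_neg, S.Qf _ hi1]
  have hwe : ap w (S.e (i + 1)) = S.e i ∧ ap w (S.e i) = -S.e (i + 1) := by
    constructor <;>
    · show app (_ * _ * _ : O Q) _ = _
      rw [app_mul, app_mul]
      show ap _ (ap _ (ap _ _)) = _
      simp only [ap_el hQn h5 hqe pe1, ap_el hQn h5 hqe' pe2, hqf, hqf', polar_add_left, polar_smul_left,
        polar_neg_left, polar_neg_right, S.pee i i him him, S.pee i (i + 1) him hi1, S.pee (i + 1) i hi1 him,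
        S.pee (i + 1) (i + 1) hi1 hi1, S.pef i i him him, S.pef i (i + 1) him hi1, S.pef (i + 1) i hi1 him,
        S.pef (i + 1) (i + 1) hi1 hi1, S.pfe (i := i) (j := i) him him, S.pfe (i := i) (j := i + 1) him hi1,
        S.pfe (i := i + 1) (j := i) hi1 him, S.pfe (i := i + 1) (j := i + 1) hi1 hi1, smul_eq_mul,
        Nat.succ_ne_self, (Nat.succ_ne_self i).symm, if_true, if_false, mul_zero, zero_mul, mul_one]
      module
  have hwflag : S.Flag i w := fun j hj => ⟨1, by
    rw [one_smul, hwx _ (S.pee i j him (by omega)) (S.pee (i + 1) j hi1 (by omega))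
      (by rw [S.pfe (i := i) (j := j) him (by omega), if_neg (by omega)])
      (by rw [S.pfe (i := i + 1) (j := j) hi1 (by omega), if_neg (by omega)])]⟩
  have hwv : ap w S.v0 = S.v0 :=
    hwx _ (S.v0_perp (by omega)).1 (S.v0_perp (by omega)).1 (S.v0_perp (by omega)).2 (S.v0_perp (by omega)).2
  have hws := S.sv_commute hwv
  obtain ⟨h1, hne, -⟩ := S.sgn_spec ρ (i := i + 1) hi b ((hp' b hb).1 hQb) hbv
  set X := S.L ρ (i + 1) b with hX
  set Y := ρ w * X with hY
  have hEX : S.E ρ i * X = X := by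
    have : S.E ρ i * S.E ρ (i + 1) = S.E ρ (i + 1) :=
      avg_mul_of_fix ρ fun r hr => rho_mul_avg ρ (S.R_mono (Nat.le_succ i) hr)
    rw [hX, Hyp.L, ← mul_assoc, this]
  have hEY : S.E ρ i * Y = Y := by
    rw [hY, ← mul_assoc, ← S.E_comm ρ hQn h5 him.le hwflag, mul_assoc, hEX]
  have hTY : ∀ a : S.W (i + 1), ρ (S.T i a) * Y = ρ w * (ρ (w⁻¹ * S.T i a * w) * X) := by
    intro a
    rw [hY, ← mul_assoc (ρ w), ← map_mul, ← mul_assoc (ρ (S.T i a)), ← map_mul]
    congr 2
    group
  have hwi : ∀ x y, ap w x = y → ap w⁻¹ y = x := fun x y h => by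
    rw [← h]; exact app_inv_app w.1 x
  have hconj : ∀ a : ι → F, polar Q (S.e i) a = 0 →
      w⁻¹ * el Q (S.e i) a * w = el Q (S.e (i + 1)) (ap w⁻¹ a) := by
    intro a ha
    have := el_conj hQn h5 hqe ha w⁻¹
    rw [inv_inv, hwi _ _ hwe.1] at this
    exact this
  have hW2 : ∀ a : S.W (i + 1), a.1 ∈ S.W (i + 2) → ρ (S.T i a) * Y = chi F (polar Q b.1 a.1) • Y := by
    intro a ha
    have hwa : ap w⁻¹ a.1 = a.1 := hwi _ _ (hwx _ (S.perp_e (by omega) ha).1 (S.perp_e (by omega) ha).1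
      (S.perp_f (by omega) ha).1 (S.perp_f (by omega) ha).1)
    rw [hTY, Hyp.T, hconj _ (S.perp_e (by omega) ha).1, hwa]
    show ρ w * (ρ (S.T (i + 1) ⟨a.1, ha⟩) * X) = _
    rw [hX, S.T_mul_L ρ hQn h5 hi1, mul_smul_comm]
  have hW1 : ∀ t : F, ρ (S.T i (t • S.xvec hi1)) * Y = Y := by
    intro t
    have hp0 : polar Q (S.e i) (t • S.e (i + 1)) = 0 := by rw [polar_smul_right, S.pee i (i + 1) him hi1, smul_zero]
    have hwa : ap w⁻¹ (t • S.e (i + 1)) = -(t • S.e i) := by
      rw [map_smul, ← neg_neg (S.e (i + 1)), map_neg, hwi _ _ hwe.2, smul_neg]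
    have he : el Q (S.e (i + 1)) (-(t • S.e i)) = S.T i (t • S.xvec hi1) := by
      have h := el_plane hQn h5 hqe hqe' (S.pee i (i + 1) him hi1) 0 1 (-t) 0
      rw [zero_smul, zero_add, one_smul, zero_smul, add_zero, neg_smul] at h
      rw [h, zero_mul, zero_sub, one_mul, neg_neg]
      rfl
    rw [hTY]
    show ρ w * (ρ (w⁻¹ * el Q (S.e i) (t • S.e (i + 1)) * w) * X) = Y
    rw [hconj _ hp0, hwa, he, hX, Hyp.L, ← mul_assoc (ρ (S.T i _)), Hyp.E,
      rho_mul_avg ρ (S.T_mem hQn h5 (Nat.lt_succ_self i) _)]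
    rfl
  have hmain : ρ S.sv * Y = δ • Y := by
    conv_lhs => rw [← hEY, ← S.sum_L ρ hQn h5 him, Finset.sum_mul, Finset.mul_sum]
    conv_rhs => rw [← hEY, ← S.sum_L ρ hQn h5 him, Finset.sum_mul, Finset.smul_sum]
    refine Finset.sum_congr rfl fun b'' _ => ?_
    by_cases h0 : S.L ρ i b'' * Y = 0
    · rw [h0, mul_zero, smul_zero]
    have hLT : ∀ a, S.L ρ i b'' * (ρ (S.T i a) * Y) = chi F (polar Q b''.1 a.1) • (S.L ρ i b'' * Y) := by
      intro a
      rw [← mul_assoc, Hyp.L, mul_assoc (S.E ρ i), pj_mul_rho _ ρ _ (S.T_add hQn h5 him), mul_smul_comm,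
        smul_mul_assoc]
      rfl
    have e1 : polar Q b''.1 (S.e (i + 1)) = 0 := by
      refine eq_of_chi fun t => ?_
      have h := hLT (t • S.xvec hi1)
      rw [hW1] at h
      have hh : chi F (polar Q b''.1 (t • S.e (i + 1))) = 1 :=
        (smul_left_injective ℂ h0 (by simpa [xvec] using h.symm) : _)
      rw [polar_smul_right, smul_eq_mul] at hh
      rw [hh, mul_zero, AddChar.map_zero_eq_one]
    have e2 : ∀ a : ι → F, a ∈ S.W (i + 2) → polar Q b''.1 a = polar Q b.1 a := by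
      intro a ha
      refine eq_of_chi fun t => ?_
      have hta : t • a ∈ S.W (i + 2) := (S.W _).smul_mem t ha
      let a' : S.W (i + 1) := ⟨t • a, S.W_anti (Nat.le_succ (i + 1)) hta⟩
      have h := hLT a'
      rw [hW2 a' hta, mul_smul_comm] at h
      have hh := smul_left_injective ℂ h0 h
      simp only [a', polar_smul_right, smul_eq_mul] at hh
      exact hh.symm
    have hd := S.toHyp.decomp b''.2
    rw [polar_comm (f := ⇑Q) (S.e (i + 1)), e1, zero_smul, add_zero] at hd
    have hpr : S.pr (i + 1 + 1) b''.1 = b.1 := by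
      rw [← sub_eq_zero]
      refine S.W_nondeg hQn (i := i + 1 + 1) (by omega) (sub_mem (S.pr_mem (i := i + 1 + 1) (by omega) _) b.2) fun a ha => ?_
      rw [polar_sub_right, sub_eq_zero, polar_comm, S.polar_pr (show i + 1 + 1 ≤ n by omega) _ ha, e2 a ha, polar_comm]
    rw [hpr] at hd
    have hb''0 : b'' ≠ 0 := fun h => hb (Subtype.ext (by rw [← hpr, h, Submodule.coe_zero, map_zero]; rfl))
    have hQb'' : Q b''.1 = 0 := by
      rw [hd]
      simp [QuadraticMap.map_add ⇑Q, QuadraticMap.map_smul, polar_smul_left, hqe', hQb,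
        (S.perp_e (Nat.lt_succ_self (i + 1)) b.2).1]
    have hbv'' : polar Q b''.1 S.v0 = 0 := by
      rw [hd, polar_add_left, polar_smul_left, (S.v0_perp (by omega)).1, smul_zero, zero_add, hbv]
    obtain ⟨k1, -, -⟩ := S.sgn_spec ρ hi1 b'' ((hp b'' hb''0).1 hQb'') hbv''
    rw [← mul_assoc, k1, hδ b'' hb''0 hQb'' hbv'', smul_mul_assoc]
  have hsY : ρ S.sv * Y = S.sgn ρ (i + 1) b • Y := by
    rw [hY, ← mul_assoc, ← map_mul, ← hws, map_mul, mul_assoc, hX, h1, mul_smul_comm]
  have hYne : Y ≠ 0 := fun h => hne (by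
    have : ρ w⁻¹ * Y = X := by rw [hY, ← mul_assoc, ← map_mul, inv_mul_cancel, map_one, one_mul]
    rw [← this, h, mul_zero])
  exact smul_left_injective ℂ hYne (hsY.symm.trans hmain)

theorem tr_sv_level {i : ℕ} (hi : i + 1 < n) (hp : S.Pure ρ i) {δ : ℂ}
    (hδ : ∀ b : S.W (i + 1), b ≠ 0 → Q b.1 = 0 → polar Q b.1 S.v0 = 0 → S.sgn ρ i b = δ) :
    S.tr ρ i S.sv + δ = S.tr ρ (i + 1) S.sv +
      (Nat.card {x : S.W (i + 1) // Q x.1 = 0 ∧ polar Q x.1 S.v0 = 0} : ℂ) * δ := by
  classical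
  have hQn := S.nd
  have h5 := S.five
  rw [S.tr_eq_sum ρ hQn h5 (by omega), S.tr_succ ρ hQn h5 (by omega),
    ← Finset.add_sum_erase Finset.univ _ (Finset.mem_univ (0 : S.W (i + 1))), add_assoc]
  congr 1
  have hterm : ∀ b : S.W (i + 1), b ≠ 0 → LinearMap.trace ℂ V (ρ S.sv * S.L ρ i b) =
      if Q b.1 = 0 ∧ polar Q b.1 S.v0 = 0 then δ else 0 := by
    intro b hb
    split_ifs with hc
    · exact hδ b hb hc.1 hc.2
    · by_cases hQb : Q b.1 = 0
      · exact S.trace_moved ρ hQn h5 (by omega) (S.flag_sv (by omega)) (S.sv_e (by omega)) b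
          fun h => hc ⟨hQb, (S.bmap_sv hi b).mp h⟩
      · rw [S.L_zero_of_rk ρ b ((hp b hb).2 hQb), mul_zero, map_zero]
  rw [Finset.sum_congr rfl fun b hb => hterm b (Finset.ne_of_mem_erase hb), Finset.sum_ite, Finset.sum_const_zero,
    add_zero, Finset.sum_const, nsmul_eq_mul, Nat.card_eq_fintype_card, Fintype.card_subtype, Finset.filter_erase,
    Finset.card_erase_of_mem (by simp [polar_zero_left])]
  have : 0 < (Finset.univ.filter fun b : S.W (i + 1) => Q b.1 = 0 ∧ polar Q b.1 S.v0 = 0).card :=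
    Finset.card_pos.mpr ⟨0, by simp [polar_zero_left]⟩
  rw [Nat.cast_sub this, Nat.cast_one]
  ring

/-- Only rank three survives, with vanishing trace of the involution on the bottom space. -/
theorem rank_three (h7 : 7 ≤ Fintype.card ι) (hq : 3 < Fintype.card F) [ρ.IsIrreducible]
    (hnt : ∃ g, ρ g ≠ 1) (hk : Module.finrank ℂ V < bsum (Fintype.card F) n) :
    n = 3 ∧ S.tr ρ 2 S.sv = 0 ∧ S.dimE ρ 2 = 2 := by
  classical
  have hn3 := S.n3
  have hQn := S.nd
  have hfive := S.five
  obtain ⟨hp, hk1, hbot⟩ := S.degree_pred ρ h7 hq hnt hk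
  have hu : (S.xvec (i := 0) (by omega) : S.W 1) ≠ 0 := fun h =>
    S.toHyp.e_ne hQn (show 1 < n by omega) (congrArg Subtype.val h)
  have hQu : Q (S.xvec (i := 0) (by omega) : S.W 1).1 = 0 := S.Qe 1 (by omega)
  obtain ⟨-, -, hδ⟩ := S.sgn_spec ρ (i := 0) (by omega) _ ((hp 0 (by omega) _ hu).1 hQu)
    ((S.v0_perp (j := 1) (by omega)).1)
  obtain ⟨δ, hδeq, hδ'⟩ : ∃ δ : ℤ, S.sgn ρ 0 (S.xvec (i := 0) (by omega)) = (δ : ℂ) ∧ (δ = 1 ∨ δ = -1) := by
    rcases hδ with h | h
    · exact ⟨1, by rw [h]; norm_num, Or.inl rfl⟩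
    · exact ⟨-1, by rw [h]; norm_num, Or.inr rfl⟩
  have hall : ∀ i, i + 1 < n → ∀ b : S.W (i + 1), b ≠ 0 → Q b.1 = 0 → polar Q b.1 S.v0 = 0 →
      S.sgn ρ i b = (δ : ℂ) := by
    intro i
    induction i with
    | zero => intro _ b hb hQb hbv; rw [S.sgn_level_zero ρ b hb hQb hbv, hδeq]
    | succ i ih =>
      intro hi b hb hQb hbv
      exact S.sgn_succ ρ hi (hp i (by omega)) (hp (i + 1) hi) (ih (by omega)) b hb hQb hbv
  obtain ⟨ε, hε, hK⟩ := S.card_perp_cone
  set q := Fintype.card F with hqdef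
  have hT : ∀ l, l ≤ n - 1 → S.tr ρ (n - 1 - l) S.sv = S.tr ρ (n - 1) S.sv +
      (δ : ℂ) * ((q : ℂ) * (bsum q l : ℂ) + (ε : ℂ) * ((q : ℂ) ^ l - 1) - (l : ℂ)) := by
    intro l hl
    induction l with
    | zero => simp [bsum]
    | succ l ih =>
      have h := S.tr_sv_level ρ (i := n - 1 - (l + 1)) (by omega) (hp _ (by omega)) (hall _ (by omega))
      rw [show n - 1 - (l + 1) + 1 = n - 1 - l by omega, ih (by omega)] at h
      have hcount : (Nat.card {x : S.W (n - 1 - l) // Q x.1 = 0 ∧ polar Q x.1 S.v0 = 0} : ℂ) =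
          (q : ℂ) ^ (2 * l + 1) + (ε : ℂ) * ((q : ℂ) - 1) * (q : ℂ) ^ l := by
        have := congrArg (fun z : ℤ => (z : ℂ)) (hK l (by omega))
        push_cast at this
        exact this
      rw [hcount] at h
      rw [bsum_succ]
      push_cast
      linear_combination h
  have h0 := hT (n - 1) le_rfl
  rw [Nat.sub_self, S.tr_zero ρ hQn hfive] at h0
  obtain ⟨a, b, hab, habk⟩ := trace_involution (S.E_idem ρ hQn hfive (n - 1))
    (g := ρ S.sv) (by rw [← map_mul, S.sv_sq, map_one]) (S.E_comm ρ hQn hfive (Nat.sub_le n 1) (S.flag_sv le_rfl))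
  have habk' : a + b = S.dimE ρ (n - 1) := habk
  set z : ℤ := (a : ℤ) - b with hz
  have htr : S.tr ρ (n - 1) S.sv = (z : ℂ) := by rw [hz]; push_cast; exact hab
  set Vv : ℤ := δ * ((q : ℤ) * bsum q (n - 1) + ε * ((q : ℤ) ^ (n - 1) - 1) - (n - 1 : ℕ)) + z with hVv
  have hchi : ρ.character S.sv = (Vv : ℂ) := by
    rw [h0, htr, hVv]; push_cast; ring
  obtain ⟨s, hs, hCd⟩ := S.class_sv_dvd
  have hint := Characters.isIntegral_class_mul_char_div ρ S.sv
  rw [hchi] at hint
  set k := Module.finrank ℂ V with hkdef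
  haveI := Characters.nontrivial_of_irreducible ρ
  have hk0 : k ≠ 0 := Module.finrank_pos.ne'
  have hdvd : (k : ℤ) ∣ (q : ℤ) ^ n * ((q : ℤ) ^ n + s) * Vv := by
    refine dvd_trans ?_ (mul_dvd_mul_right hCd Vv)
    set C := Nat.card {y : Om Q // IsConj S.sv y}
    obtain ⟨w, hw⟩ := Characters.exists_int_of_isIntegral_rat (q := ((C : ℚ) * (Vv : ℚ)) / (k : ℚ))
      (by push_cast; exact hint)
    rw [eq_div_iff (Nat.cast_ne_zero.mpr hk0)] at hw
    have h' : (C : ℤ) * Vv = w * (k : ℤ) := by exact_mod_cast hw.symm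
    exact ⟨w, by rw [h']; ring⟩
  obtain ⟨m, hm⟩ : ∃ m, n = m + 1 := ⟨n - 1, by omega⟩
  have hm' : n - 1 = m := by omega
  rw [hm] at hdvd hk1
  have h3 := invol_arith (by have := S.five_le_q hq; omega) (by omega) hk1 hs hdvd
  rw [hVv, hm'] at h3
  have hab' : a + b = m := by omega
  obtain ⟨h2, hz0⟩ := invol_finish (S.five_le_q hq) (by omega) hε hδ' (by omega) (by omega) h3
  refine ⟨by omega, ?_, ?_⟩
  · rw [show (2 : ℕ) = n - 1 by omega, htr, hz0, Int.cast_zero]
  · rw [show (2 : ℕ) = n - 1 by omega]; omega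

end OddFrame

end CfsgLib.OrthDeg
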