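import Cfsg.Agent.Lib.OrthDeg.OddThree
import Cfsg.Agent.Lib.POmega.Forms

set_option autoImplicit false

/-! The standard frame of the form `x₀² + ∑ xᵢ yᵢ`. -/

namespace CfsgLib.OrthDeg

open QuadraticMap

variable {F : Type*} [Field F]

/-- The standard hyperbolic system. -/
noncomputable def oddHypStd (n : ℕ) : Hyp (POmega.oddQ n F) n where
  e i := if h : i < n then Pi.single (Sum.inr (Sum.inl ⟨i, h⟩)) 1 else 0
  f i := if h : i < n then Pi.single (Sum.inr (Sum.inr ⟨i, h⟩)) 1 else 0
  Qe i hi := by simp [dif_pos hi, POmega.oddQ_coe, Cfsg.quadFormOdd, Pi.single_apply]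
  Qf i hi := by simp [dif_pos hi, POmega.oddQ_coe, Cfsg.quadFormOdd, Pi.single_apply]
  pee i j hi hj := by simp [dif_pos hi, dif_pos hj, POmega.polar_oddQ, Pi.single_apply]
  pff i j hi hj := by simp [dif_pos hi, dif_pos hj, POmega.polar_oddQ, Pi.single_apply]
  pef i j hi hj := by
    simp [dif_pos hi, dif_pos hj, POmega.polar_oddQ, Pi.single_apply, Fin.ext_iff, eq_comm]
    rw [Finset.sum_eq_single ⟨j, hj⟩]
    · simp
    · intro b _ hb
      rw [if_neg]
      exact fun h => hb (Fin.ext h.symm)
    · simp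

/-- The standard frame. -/
noncomputable def oddFrameStd [Fintype F] (n : ℕ) (hn : 3 ≤ n) (h2 : (2 : F) ≠ 0) :
    OddFrame (POmega.oddQ n F) n where
  toHyp := oddHypStd n
  x0 := Pi.single (Sum.inl ()) 1
  Qx0 := by simp [POmega.oddQ_coe, Cfsg.quadFormOdd]
  x0_mem j hj := by simp [oddHypStd, dif_pos hj, POmega.polar_oddQ, Pi.single_apply]
  base x hx := ⟨x (Sum.inl ()), funext fun p => by
    rcases p with u | i | i
    · simp
    · have := (hx i i.2).2
      simp [oddHypStd, POmega.polar_oddQ, Pi.single_apply] at this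
      simp [this]
    · have := (hx i i.2).1
      simp [oddHypStd, POmega.polar_oddQ, Pi.single_apply] at this
      simp [this]⟩
  h2 := h2
  nd := POmega.oddQ_nondegenerate h2 n
  n3 := hn
  five := by simp; omega

end CfsgLib.OrthDeg
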