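import Cfsg.Agent.Lib.OrthDeg.Odd

set_option autoImplicit false
set_option linter.unusedSectionVars false
set_option linter.style.haveILetI false

/-!
Below the bound every layer of the flag is the cone with multiplicity one, and the drop of the long
root element passes from one level to the next.
-/

namespace CfsgLib.OrthDeg

open QuadraticMap CfsgLib.Orth CfsgLib.KnownSimple.ModulePerm

variable {ι : Type} [Fintype ι] [DecidableEq ι] {F : Type*} [Field F] [Fintype F]

theorem exists_sq_ne_one (hq : 3 < Fintype.card F) : ∃ c : F, c ≠ 0 ∧ c * c ≠ 1 := by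
  classical
  by_contra h
  push Not at h
  have hsub : (Finset.univ : Finset F) ⊆ {0, 1, -1} := fun c _ => by
    by_cases hc : c = 0
    · simp [hc]
    · rcases mul_self_eq_one_iff.mp (h c hc) with h' | h' <;> simp [h']
  have h1 := Finset.card_le_card hsub
  have h2 := Finset.card_le_three (a := (0 : F)) (b := 1) (c := -1)
  rw [Finset.card_univ] at h1
  omega

/-- `1 + q² + ⋯ + q^(2n-2)` -/
def bsum (q n : ℕ) : ℕ := ∑ l ∈ Finset.range n, q ^ (2 * l)

theorem bsum_succ (q n : ℕ) : bsum q (n + 1) = bsum q n + q ^ (2 * n) := Finset.sum_range_succ _ _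

theorem bsum_succ' (q n : ℕ) : bsum q (n + 1) = q * q * bsum q n + 1 := by
  rw [bsum, Finset.sum_range_succ', bsum, Finset.mul_sum, mul_zero, pow_zero]
  congr 1
  exact Finset.sum_congr rfl fun l _ => by ring

theorem bsum_mul (q n : ℕ) (hq : 1 ≤ q) : (q * q - 1) * bsum q n + 1 = q ^ (2 * n) := by
  induction n with
  | zero => simp [bsum]
  | succ n ih =>
    rw [bsum_succ, mul_add]
    obtain ⟨r, hr⟩ : ∃ r, q * q = r + 1 := ⟨q * q - 1, by have := Nat.mul_pos hq hq; omega⟩
    rw [hr, Nat.add_sub_cancel] at ih ⊢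
    rw [show 2 * (n + 1) = 2 * n + 1 + 1 by ring, pow_succ, pow_succ, mul_assoc, hr]
    linarith

variable {Q : QuadraticForm F (ι → F)} {n : ℕ} (S : OddFrame Q n)
variable {V : Type*} [AddCommGroup V] [Module ℂ V] [FiniteDimensional ℂ V] (ρ : Representation ℂ (Om Q) V)

namespace OddFrame

include S

/-- The layers of level `i` are the non-zero cone, each of dimension one. -/
def Pure (i : ℕ) : Prop :=
  ∀ b : S.W (i + 1), b ≠ 0 → (Q b.1 = 0 → S.rk ρ i b = 1) ∧ (Q b.1 ≠ 0 → S.rk ρ i b = 0)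

/-- The drop of the long root element of level `i` is the smallest possible. -/
def Drop (i : ℕ) : Prop := ∃ hi : i + 1 < n,
  (S.dimE ρ i : ℂ) - S.tr ρ i (S.T i (S.xvec hi)) = (Fintype.card F : ℂ) ^ (2 * (n - (i + 1)))

theorem pure_of_drop (hq : 3 < Fintype.card F) {i : ℕ} (h : S.Drop ρ i) : S.Pure ρ i := by
  classical
  obtain ⟨hi, h⟩ := h
  have h' := S.drop_eq ρ hi
  rw [h] at h'
  have hq0 : (Fintype.card F : ℂ) ^ (2 * (n - (i + 1))) ≠ 0 :=
    pow_ne_zero _ (Nat.cast_ne_zero.mpr Fintype.card_ne_zero)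
  have hsum : ∑ c : F, S.rk ρ i (S.bstd hi c) = 1 := by
    have : ((∑ c : F, S.rk ρ i (S.bstd hi c) : ℕ) : ℂ) = (1 : ℕ) := by
      apply mul_left_cancel₀ hq0
      rw [← h', Nat.cast_one, mul_one]
    exact_mod_cast this
  obtain ⟨t, ht0, ht1⟩ := exists_sq_ne_one hq
  have hns : ∀ c : F, c ≠ 0 → S.rk ρ i (S.bstd hi c) = 0 := by
    intro c hc
    have hne : t * t * c ≠ c := fun h => ht1 (mul_right_cancel₀ hc (by rw [one_mul]; exact h))
    have h2 := Finset.sum_le_sum_of_subset (f := fun x => S.rk ρ i (S.bstd hi x))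
      (Finset.subset_univ ({t * t * c, c} : Finset F))
    rw [Finset.sum_pair hne, S.rk_sq ρ hi c t ht0, hsum] at h2
    omega
  have h0 : S.rk ρ i (S.bstd hi 0) = 1 := by
    rw [← hsum, Finset.sum_eq_single (0 : F) (fun c _ hc => hns c hc) (by simp)]
  intro b hb
  rw [S.rk_eq ρ hi b hb]
  exact ⟨fun hQb => by rw [hQb, h0], hns _⟩

omit [FiniteDimensional ℂ V] in
theorem L_zero_of_rk {i : ℕ} (b : S.W (i + 1)) [FiniteDimensional ℂ V] (h : S.rk ρ i b = 0) : S.L ρ i b = 0 :=
  LinearMap.range_eq_bot.mp (Submodule.finrank_eq_zero.mp h)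

theorem dimE_layer {i : ℕ} (hi : i + 1 < n) (hp : S.Pure ρ i) :
    S.dimE ρ i + 1 = S.dimE ρ (i + 1) + Fintype.card F ^ (2 * (n - (i + 1))) := by
  classical
  rw [S.dimE_eq_sum ρ S.nd S.five (by omega), S.dimE_succ ρ S.nd S.five (by omega),
    ← Finset.add_sum_erase Finset.univ _ (Finset.mem_univ (0 : S.W (i + 1))), add_assoc]
  congr 1
  rw [Finset.sum_congr rfl (g := fun b => if Q b.1 = 0 then 1 else 0) fun b hb => ?_, Finset.sum_boole,
    ← S.cone_card (j := i + 1) (by omega), Nat.card_eq_fintype_card, Fintype.card_subtype, Finset.filter_erase,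
    Finset.card_erase_of_mem (by simp), Nat.cast_id]
  · have : 0 < (Finset.univ.filter fun b : S.W (i + 1) => Q b.1 = 0).card :=
      Finset.card_pos.mpr ⟨0, by simp⟩
    omega
  · by_cases hQb : Q b.1 = 0
    · rw [if_pos hQb, (hp b (Finset.ne_of_mem_erase hb)).1 hQb]
    · rw [if_neg hQb, (hp b (Finset.ne_of_mem_erase hb)).2 hQb]

/-- A long root element of the stabiliser fixing a line of the layer acts trivially on it. -/
theorem scalar_one (hq : 3 < Fintype.card F) {i : ℕ} (hi : i + 1 < n) {κ : Type} [Fintype κ] [DecidableEq κ]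
    (v : κ → S.W (i + 1)) (hl : LinearIndependent F fun k => (v k).1)
    (hz : ∀ k l, polar Q (v k).1 (v l).1 = 0) (hQv : ∀ k, Q (v k).1 = 0) (ku ka kb : κ) (hka : ka ≠ ku)
    (hkb : kb ≠ ka) (hrk : S.rk ρ i (v kb) = 1) :
    LinearMap.trace ℂ V (ρ (el Q (v ku).1 (v ka).1) * S.L ρ i (v kb)) = 1 := by
  classical
  have hQn := S.nd
  have hfive := S.five
  have him : i < n := by omega
  set u := (v ku).1 with hu
  set a := (v ka).1 with ha
  set b := v kb with hb
  have hua : ∀ t : F, polar Q u (t • a) = 0 := fun t => by rw [polar_smul_right, hz, smul_zero]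
  have hflag : ∀ t : F, S.Flag i (el Q u (t • a)) ∧ ap (el Q u (t • a)) (S.e i) = (1 : F) • S.e i ∧
      S.bmap him (el Q u (t • a)) 1 b = b := by
    intro t
    have hfix : ∀ x, polar Q x u = 0 → polar Q x a = 0 → ap (el Q u (t • a)) x = x := fun x h1 h2 => by
      rw [ap_el hQn hfive (hQv ku) (hua t), h1, polar_smul_right, h2]; simp
    refine ⟨fun j hj => ⟨1, ?_⟩, ?_, Subtype.ext ?_⟩
    · rw [one_smul, hfix _ (S.perp_e (by omega) (v ku).2).1 (S.perp_e (by omega) (v ka).2).1]
    · rw [one_smul, hfix _ (S.perp_e (by omega) (v ku).2).1 (S.perp_e (by omega) (v ka).2).1]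
    · show (1 : F)⁻¹ • S.pr (i + 1) (ap _ b.1) = b.1
      rw [hfix _ (hz _ _) (hz _ _), S.pr_eq_self b.2, inv_one, one_smul]
  have hLL := S.L_idem ρ hQn hfive him b
  have htr1 : LinearMap.trace ℂ V (S.L ρ i b) = 1 := by
    rw [← S.rk_eq_trace ρ hQn hfive him, hrk, Nat.cast_one]
  set s : F → ℂ := fun t => LinearMap.trace ℂ V (ρ (el Q u (t • a)) * S.L ρ i b) with hs
  have hsL : ∀ t, ρ (el Q u (t • a)) * S.L ρ i b = s t • S.L ρ i b := fun t => by
    obtain ⟨h1, h2, h3⟩ := hflag t
    refine SLMinDeg.mul_eq_trace_smul _ _ hLL htr1 ?_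
    have := S.L_move ρ hQn hfive him h1 h2 b
    rwa [h3] at this
  have hadd : ∀ t w, s (t + w) = s t * s w := fun t w => by
    have h : ρ (el Q u ((t + w) • a)) * S.L ρ i b = (s t * s w) • S.L ρ i b := by
      rw [add_smul, ← el_add hQn hfive (hQv ku) (hua t) (hua w), map_mul, mul_assoc, hsL w, mul_smul_comm, hsL t,
        smul_smul, mul_comm (s w)]
    show LinearMap.trace ℂ V _ = _
    rw [h, map_smul, htr1, smul_eq_mul, mul_one]
  have hs0 : s 0 = 1 := by
    have h1 : el Q u ((0 : F) • a) = 1 := mul_eq_left.mp (show el Q u ((0 : F) • a) * el Q u ((0 : F) • a) = _ by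
      rw [el_add hQn hfive (hQv ku) (hua 0) (hua 0), ← add_smul, add_zero])
    show LinearMap.trace ℂ V _ = 1
    rw [h1, map_one, one_mul, htr1]
  obtain ⟨c, hc0, hc1⟩ := exists_sq_ne_one hq
  obtain ⟨d, hd⟩ := S.exists_nonsq
  let w : κ → F := fun k => if k = ka then c else 1
  have hw : ∀ k, w k ≠ 0 := fun k => by simp only [w]; split_ifs <;> simp [hc0]
  have hfe : polar Q (S.f i) (S.e i) = 1 := by rw [S.pfe (i := i) (j := i) him him, if_pos rfl]
  have hli : ∀ z : κ → F, (∀ k, z k ≠ 0) →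
      LinearIndependent F (fun o : Option κ => o.elim (S.e i) fun k => z k • (v k).1) := by
    intro z hz'
    rw [Fintype.linearIndependent_iff]
    intro g hg
    rw [Fintype.sum_option] at hg
    have h1 := congrArg (fun y => Q.polarBilin (S.f i) y) hg
    simp only [map_add, map_sum, map_smul, map_zero] at h1
    have h0 : ∀ k, Q.polarBilin (S.f i) (z k • (v k).1) = 0 := fun k => by
      rw [map_smul]; exact smul_eq_zero_of_right _ (S.perp_f (Nat.lt_succ_self i) (v k).2).1
    have hg0 : g none = 0 := by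
      simpa [h0, polar_smul_right, (S.perp_f (Nat.lt_succ_self i) (v _).2).1, hfe] using h1
    rw [hg0, zero_smul, zero_add] at hg
    have h2 := Fintype.linearIndependent_iff.mp hl (fun k => g (some k) * z k) (by
      simpa [smul_smul] using hg)
    rintro (_ | k)
    · exact hg0
    · exact (mul_eq_zero.mp (h2 k)).resolve_right (hz' k)
  have hmem : ∀ z : κ → F, ∀ o : Option κ, (o.elim (S.e i) fun k => z k • (v k).1) ∈ S.W i := by
    rintro z (_ | k)
    · exact S.e_mem_W le_rfl him
    · exact (S.W i).smul_mem _ (S.W_anti (Nat.le_succ i) (v k).2)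
  obtain ⟨g0, hg0e, hg0v⟩ := S.toHyp.flag_map hQn (show i ≤ n by omega)
    (fun o : Option κ => o.elim (S.e i) fun k => (1 : F) • (v k).1)
    (fun o : Option κ => o.elim (S.e i) fun k => w k • (v k).1)
    (hmem fun _ => 1) (hmem w) (hli _ fun _ => one_ne_zero) (hli w hw)
    (by rintro (_ | k) <;> simp [QuadraticMap.map_smul, hQv])
    (by
      rintro (_ | k) (_ | l) <;>
        simp [polar_smul_left, polar_smul_right, hz, (S.perp_e (Nat.lt_succ_self i) (v _).2).1,
          (S.perp_e (Nat.lt_succ_self i) (v _).2).2])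
  have hgm : g0 * g0 ∈ Om Q := (S.mem_omega hd _).mpr (by
    rw [map_mul]; exact Prod.ext (Int.units_mul_self _) (Int.units_mul_self _))
  let g : Om Q := ⟨g0 * g0, hgm⟩
  have hg2 : ∀ k, ap g (v k).1 = (w k * w k) • (v k).1 := fun k => by
    have h := hg0v (some k)
    simp only [Option.elim, one_smul] at h
    show app (g0 * g0) _ = _
    rw [app_mul, h, map_smul, h, smul_smul]
  have hge : ap g (S.e i) = (1 : F) • S.e i := by
    have h := hg0v none
    simp only [Option.elim] at h
    show app (g0 * g0) _ = _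
    rw [app_mul, h, h, one_smul]
  have hgflag : S.Flag i g := fun j hj => ⟨1, by
    show app (g0 * g0) _ = _
    rw [app_mul, hg0e j hj, hg0e j hj, one_smul]⟩
  have hgb : S.bmap him g 1 b = b := Subtype.ext (by
    show (1 : F)⁻¹ • S.pr (i + 1) (ap g b.1) = b.1
    rw [hg2, map_smul, S.pr_eq_self b.2, inv_one, one_smul]
    simp only [w, if_neg hkb, mul_one, one_smul])
  have hgu : ap g u = u := by
    rw [hu, hg2]; simp only [w, if_neg (Ne.symm hka), mul_one, one_smul]
  have hga : ∀ t : F, ap g (t • a) = ((c * c) * t) • a := fun t => by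
    rw [map_smul, ha, hg2, smul_smul, mul_comm t]; simp only [w, if_true]
  have hinv : ∀ t, s ((c * c) * t) = s t := by
    intro t
    have hgL : ρ g * S.L ρ i b = S.L ρ i b * ρ g := by
      have := S.L_move ρ hQn hfive him hgflag hge b
      rwa [hgb] at this
    have e : el Q u (((c * c) * t) • a) = g * el Q u (t • a) * g⁻¹ := by
      rw [el_conj hQn hfive (hQv ku) (hua t), hgu, hga]
    have h : ρ (el Q u (((c * c) * t) • a)) * S.L ρ i b = s t • S.L ρ i b := by
      have hgi : ρ g⁻¹ * S.L ρ i b = S.L ρ i b * ρ g⁻¹ := by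
        calc ρ g⁻¹ * S.L ρ i b = ρ g⁻¹ * (S.L ρ i b * ρ g) * ρ g⁻¹ := by
              rw [mul_assoc (ρ g⁻¹), mul_assoc, ← map_mul, mul_inv_cancel, map_one, mul_one]
          _ = S.L ρ i b * ρ g⁻¹ := by rw [← hgL, ← mul_assoc, ← map_mul, inv_mul_cancel, map_one, one_mul]
      rw [e, map_mul, map_mul, mul_assoc, hgi, ← mul_assoc, mul_assoc (ρ g), hsL, mul_smul_comm, smul_mul_assoc,
        hgL, mul_assoc, ← map_mul, mul_inv_cancel, map_one, mul_one]
    show LinearMap.trace ℂ V _ = _
    rw [h, map_smul, htr1, smul_eq_mul, mul_one]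
  have hall : ∀ t, s t = 1 := by
    intro t
    have hne : c * c - 1 ≠ 0 := sub_ne_zero.mpr hc1
    set r := (c * c - 1)⁻¹ * t with hr
    have h1 : c * c * r = r + t := by
      have : (c * c - 1) * r = t := by rw [hr, ← mul_assoc, mul_inv_cancel₀ hne, one_mul]
      linear_combination this
    have hne0 : s r ≠ 0 := by
      intro h0
      have := hadd r (-r)
      rw [add_neg_cancel, hs0, h0, zero_mul] at this
      exact one_ne_zero this
    have h2 := hinv r
    rw [h1, hadd] at h2
    exact (mul_right_eq_self₀.mp h2).resolve_right hne0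
  have := hall 1
  simpa [hs] using this

theorem fixed_count {i : ℕ} (hi : i + 2 < n) :
    Nat.card {b : S.W (i + 1) // Q b.1 = 0 ∧ polar Q (S.e (i + 1)) b.1 = 0 ∧ polar Q (S.e (i + 2)) b.1 = 0} =
      Fintype.card F ^ (2 * (n - (i + 2))) := by
  classical
  have step : ∀ j, j < n → ∀ P : (ι → F) → Prop,
      Nat.card {x : S.W j // polar Q (S.e j) x.1 = 0 ∧ P (S.pr (j + 1) x.1)} =
        Fintype.card F * Nat.card {w : S.W (j + 1) // P w.1} := by
    intro j hj P
    rw [← Nat.card_eq_fintype_card (α := F), ← Nat.card_prod]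
    refine Nat.card_congr
      { toFun := fun x => (polar Q (S.f j) x.1.1, ⟨(S.toHyp.splitEquiv hj x.1).2.2, x.2.2⟩)
        invFun := fun p => ⟨(S.toHyp.splitEquiv hj).symm (p.1, 0, p.2.1), ⟨(S.toHyp.polar_split hj _ _ p.2.1.2).2, by
          have h := (S.toHyp.splitEquiv hj).apply_symm_apply (p.1, 0, p.2.1)
          have h' : S.pr (j + 1) ((S.toHyp.splitEquiv hj).symm (p.1, 0, p.2.1)).1 = p.2.1.1 :=
            congrArg (fun z => z.2.2.1) h
          rw [h']
          exact p.2.2⟩⟩
        left_inv := fun x => Subtype.ext ?_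
        right_inv := fun p => ?_ }
    · refine Eq.trans ?_ ((S.toHyp.splitEquiv hj).symm_apply_apply x.1)
      refine congrArg (S.toHyp.splitEquiv hj).symm (Prod.ext rfl (Prod.ext ?_ rfl))
      exact x.2.1.symm
    · have h := (S.toHyp.splitEquiv hj).apply_symm_apply (p.1, 0, p.2.1)
      refine Prod.ext ?_ (Subtype.ext ?_)
      · exact congrArg (fun z => z.1) h
      · exact congrArg (fun z => z.2.2) h
  have key : ∀ (j : ℕ), j < n → ∀ x ∈ S.W j, polar Q (S.e j) x = 0 →
      Q (S.pr (j + 1) x) = Q x ∧ ∀ l, j < l → l < n → polar Q (S.e l) (S.pr (j + 1) x) = polar Q (S.e l) x := by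
    intro j hj x hx h0
    have hp := S.toHyp.pr_perp (k := j + 1) hj x fun l hl => by
      rcases Nat.lt_succ_iff_lt_or_eq.mp hl with h | rfl
      exacts [(S.perp_e h hx).1, h0]
    exact ⟨hp.2.1, fun l _ hl => hp.2.2 l hl⟩
  have e1 : Nat.card {b : S.W (i + 1) // Q b.1 = 0 ∧ polar Q (S.e (i + 1)) b.1 = 0 ∧ polar Q (S.e (i + 2)) b.1 = 0} =
      Nat.card {x : S.W (i + 1) // polar Q (S.e (i + 1)) x.1 = 0 ∧
        (fun y => Q y = 0 ∧ polar Q (S.e (i + 2)) y = 0) (S.pr (i + 1 + 1) x.1)} :=
    Nat.card_congr (Equiv.subtypeEquivRight fun x => by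
      constructor
      · rintro ⟨h1, h2, h3⟩
        obtain ⟨k1, k2⟩ := key _ (by omega) x.1 x.2 h2
        exact ⟨h2, k1.trans h1, (k2 _ (by omega) hi).trans h3⟩
      · rintro ⟨h2, h1, h3⟩
        obtain ⟨k1, k2⟩ := key _ (by omega) x.1 x.2 h2
        exact ⟨k1.symm.trans h1, h2, (k2 _ (by omega) hi).symm.trans h3⟩)
  have e2 : Nat.card {w : S.W (i + 1 + 1) // (fun y => Q y = 0 ∧ polar Q (S.e (i + 2)) y = 0) w.1} =
      Nat.card {x : S.W (i + 2) // polar Q (S.e (i + 2)) x.1 = 0 ∧ (fun y => Q y = 0) (S.pr (i + 2 + 1) x.1)} :=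
    Nat.card_congr (Equiv.subtypeEquivRight fun x => by
      constructor
      · rintro ⟨h1, h2⟩
        exact ⟨h2, (key (i + 2) hi x.1 x.2 h2).1.trans h1⟩
      · rintro ⟨h2, h1⟩
        exact ⟨(key (i + 2) hi x.1 x.2 h2).1.symm.trans h1, h2⟩)
  rw [e1, step (i + 1) (by omega) (fun y => Q y = 0 ∧ polar Q (S.e (i + 2)) y = 0), e2,
    step (i + 2) hi (fun y => Q y = 0), S.cone_card (j := i + 2 + 1) (by omega),
    show 2 * (n - (i + 2)) = 2 * (n - (i + 2 + 1)) + 1 + 1 by omega, pow_succ, pow_succ]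
  ring

theorem tr_conj {i : ℕ} (hi : i ≤ n) {g : Om Q} (hg : S.Flag i g) (x : Om Q) :
    S.tr ρ i (g * x * g⁻¹) = S.tr ρ i x := by
  have h := S.toHyp.E_comm ρ S.nd S.five hi hg
  have h' : ρ g⁻¹ * S.E ρ i = S.E ρ i * ρ g⁻¹ := by
    calc ρ g⁻¹ * S.E ρ i = ρ g⁻¹ * (S.E ρ i * ρ g) * ρ g⁻¹ := by
          rw [mul_assoc (ρ g⁻¹), mul_assoc, ← map_mul, mul_inv_cancel, map_one, mul_one]
      _ = S.E ρ i * ρ g⁻¹ := by rw [← h, ← mul_assoc, ← map_mul, inv_mul_cancel, map_one, one_mul]
  rw [Hyp.tr, Hyp.tr, map_mul ρ, map_mul ρ, mul_assoc, h', ← mul_assoc, LinearMap.trace_mul_comm, ← mul_assoc,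
    ← mul_assoc, ← map_mul ρ, inv_mul_cancel, map_one ρ, one_mul]

/-- The drop passes to the next level. -/
theorem drop_succ (hq : 3 < Fintype.card F) {i : ℕ} (hi : i + 2 < n) (h : S.Drop ρ i) : S.Drop ρ (i + 1) := by
  classical
  have hp := S.pure_of_drop ρ hq h
  obtain ⟨hi1, h⟩ := h
  refine ⟨hi, ?_⟩
  have hQn := S.nd
  have hfive := S.five
  have him : i < n := by omega
  have hx1 : ∀ j, j < n → polar Q (S.e (i + 1)) (S.e j) = 0 := fun j hj => S.pee _ _ hi1 hj
  set x' := S.T (i + 1) (S.xvec hi) with hx'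
  -- conjugate long root elements
  have hconj : S.tr ρ i x' = S.tr ρ i (S.T i (S.xvec hi1)) := by
    obtain ⟨g, hgf, hg, -⟩ := S.exists_flag (i := i) (k := n - 1) (by omega) (by omega)
      ![S.e i, S.e (i + 1)] ![S.e (i + 1), S.e (i + 2)]
      (by intro l; fin_cases l <;> exact S.e_mem_W (by omega) (by omega))
      (by intro l; fin_cases l <;> exact S.e_mem_W (by omega) (by omega))
      (Hyp.li_pair (S.toHyp.e_ne hQn (by omega)) (φ := Q.polarBilin (S.f i))
        (by show polar Q (S.f i) (S.e i) ≠ 0; simp [S.pfe (i := i) (j := i) him him])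
        (by show polar Q (S.f i) (S.e (i + 1)) = 0; simp [S.pfe (i := i) (j := i + 1) him hi1]))
      (Hyp.li_pair (S.toHyp.e_ne hQn hi) (φ := Q.polarBilin (S.f (i + 1)))
        (by show polar Q (S.f (i + 1)) (S.e (i + 1)) ≠ 0; simp [S.pfe (i := i + 1) (j := i + 1) hi1 hi1])
        (by show polar Q (S.f (i + 1)) (S.e (i + 2)) = 0; simp [S.pfe (i := i + 1) (j := i + 2) hi1 hi]))
      (by intro l; fin_cases l <;> simp [S.Qe i him, S.Qe (i + 1) hi1, S.Qe (i + 2) hi])
      (by intro l l'; fin_cases l <;> fin_cases l' <;>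
            simp [S.pee i i him him, S.pee i (i + 1) him hi1, S.pee (i + 1) i hi1 him,
              S.pee (i + 1) (i + 1) hi1 hi1, S.pee (i + 1) (i + 2) hi1 hi, S.pee (i + 2) (i + 1) hi hi1,
              S.pee (i + 2) (i + 2) hi hi])
      (by
        have hk : n - 1 < n := by omega
        intro l; fin_cases l
        · refine ⟨S.pee _ _ hk him, ?_, (S.x0_perp him).2.2.1⟩
          show polar Q (S.f (n - 1)) (S.e i) = 0
          rw [S.pfe (i := n - 1) (j := i) hk him, if_neg (by omega)]
        · refine ⟨S.pee _ _ hk hi1, ?_, (S.x0_perp hi1).2.2.1⟩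
          show polar Q (S.f (n - 1)) (S.e (i + 1)) = 0
          rw [S.pfe (i := n - 1) (j := i + 1) hk hi1, if_neg (by omega)])
    rw [← S.tr_conj ρ him.le hgf (S.T i (S.xvec hi1)), Hyp.T,
      el_conj hQn hfive (S.Qe i him) (show polar Q (S.e i) (S.xvec hi1).1 = 0 from S.pee i (i + 1) him hi1), show ap g (S.e i) = S.e (i + 1) from hg 0,
      show ap g (S.xvec hi1).1 = S.e (i + 2) from hg 1]
    rfl
  have hflag : S.Flag i x' := fun j hj => ⟨1, by
    rw [one_smul, hx', S.toHyp.ap_T_e hQn hfive hi1 _ (by omega)]⟩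
  have hce : ap x' (S.e i) = (1 : F) • S.e i := by
    rw [one_smul, hx', S.toHyp.ap_T_e hQn hfive hi1 _ (by omega)]
  have hxb : ∀ b : S.W (i + 1), (S.bmap him x' 1 b).1 =
      b.1 + polar Q b.1 (S.e (i + 1)) • S.e (i + 2) - polar Q b.1 (S.e (i + 2)) • S.e (i + 1) := by
    intro b
    have hap : ap x' b.1 = b.1 + polar Q b.1 (S.e (i + 1)) • S.e (i + 2) - polar Q b.1 (S.e (i + 2)) • S.e (i + 1) := by
      rw [hx', Hyp.T, show (S.xvec hi).1 = S.e (i + 2) from rfl, ap_el hQn hfive (S.Qe _ hi1) (S.pee _ _ hi1 hi)]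
      show _ + _ • S.e (i + 2) + (-polar Q b.1 (S.e (i + 2)) - Q (S.e (i + 2)) * _) • _ = _
      rw [S.Qe _ hi, zero_mul, sub_zero, neg_smul, ← sub_eq_add_neg]
    show (1 : F)⁻¹ • S.pr (i + 1) (ap x' b.1) = _
    rw [hap, inv_one, one_smul, S.pr_eq_self]
    exact sub_mem (add_mem b.2 ((S.W _).smul_mem _ (S.e_mem_W (by omega) hi)))
      ((S.W _).smul_mem _ (S.e_mem_W le_rfl hi1))
  have hterm : ∀ b : S.W (i + 1), b ≠ 0 → LinearMap.trace ℂ V (ρ x' * S.L ρ i b) =
      if Q b.1 = 0 ∧ polar Q (S.e (i + 1)) b.1 = 0 ∧ polar Q (S.e (i + 2)) b.1 = 0 then 1 else 0 := by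
    intro b hb
    split_ifs with hc
    · obtain ⟨hQb, h1, h2⟩ := hc
      have hrk := (hp b hb).1 hQb
      set u := S.xvec (i := i) hi1 with hu
      let a : S.W (i + 1) := ⟨S.e (i + 2), S.e_mem_W (by omega) hi⟩
      have hfu : polar Q (S.f (i + 1)) u.1 = 1 := by
        show polar Q (S.f (i + 1)) (S.e (i + 1)) = 1
        simp [S.pfe (i := i + 1) (j := i + 1) hi1 hi1]
      have hfa : polar Q (S.f (i + 1)) a.1 = 0 := by
        show polar Q (S.f (i + 1)) (S.e (i + 2)) = 0
        simp [S.pfe (i := i + 1) (j := i + 2) hi1 hi]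
      have hga : polar Q (S.f (i + 2)) a.1 = 1 := by
        show polar Q (S.f (i + 2)) (S.e (i + 2)) = 1
        simp [S.pfe (i := i + 2) (j := i + 2) hi hi]
      have hgu : polar Q (S.f (i + 2)) u.1 = 0 := by
        show polar Q (S.f (i + 2)) (S.e (i + 1)) = 0
        simp [S.pfe (i := i + 2) (j := i + 1) hi hi1]
      have hua : polar Q u.1 a.1 = 0 := S.pee _ _ hi1 hi
      have hliua : LinearIndependent F ![u.1, a.1] := Hyp.li_pair (fun h => by
          rw [h, polar_zero_right] at hga; exact zero_ne_one hga) (φ := Q.polarBilin (S.f (i + 1)))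
        (by show polar Q (S.f (i + 1)) u.1 ≠ 0; rw [hfu]; exact one_ne_zero) hfa
      have hu2 : polar Q u.1 u.1 = 0 := hx1 _ hi1
      have ha2 : polar Q a.1 a.1 = 0 := S.pee _ _ hi hi
      have hb2 : polar Q b.1 b.1 = 0 := by rw [polar_self', hQb, mul_zero]
      show LinearMap.trace ℂ V (ρ (el Q u.1 a.1) * _) = 1
      by_cases hspan : b.1 ∈ Submodule.span F {u.1, a.1}
      · obtain ⟨p, q, hpq⟩ := Submodule.mem_span_pair.mp hspan
        obtain ⟨r, s, hdet⟩ : ∃ r s : F, p * s - q * r = 1 := by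
          by_cases hp0 : p = 0
          · have hq0 : q ≠ 0 := fun hq0 => hb (Subtype.ext (by rw [← hpq, hp0, hq0]; simp))
            exact ⟨-q⁻¹, 0, by rw [mul_neg, mul_inv_cancel₀ hq0]; ring⟩
          · exact ⟨0, p⁻¹, by rw [mul_inv_cancel₀ hp0]; ring⟩
        let a' : S.W (i + 1) := r • u + s • a
        have he : el Q b.1 a'.1 = el Q u.1 a.1 := by
          show el Q b.1 (r • u.1 + s • a.1) = _
          rw [← hpq]
          refine (el_plane hQn hfive (S.Qe _ hi1) (S.Qe _ hi) hua p q r s).trans ?_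
          rw [hdet, one_smul]
          rfl
        have hba : LinearIndependent F ![b.1, a'.1] := by
          rw [LinearIndependent.pair_iff]
          intro x y hxy
          have hxy' : x • (p • u.1 + q • a.1) + y • (r • u.1 + s • a.1) = 0 := by
            rw [hpq]; exact hxy
          have h3 := LinearIndependent.pair_iff.mp hliua (x * p + y * r) (x * q + y * s)
            (by rw [← hxy']; module)
          constructor
          · linear_combination -x * hdet + s * h3.1 - r * h3.2
          · linear_combination -y * hdet - q * h3.1 + p * h3.2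
        have hv : (fun l => (![b, a'] l).1) = ![b.1, a'.1] := by funext l; fin_cases l <;> rfl
        have hsc := S.scalar_one ρ hq hi1 ![b, a'] (by rw [hv]; exact hba)
          (by
            intro l l'
            have hau : polar Q a.1 u.1 = 0 := by rw [polar_comm, hua]
            have key : ∀ p q r s : F, polar Q (p • u.1 + q • a.1) (r • u.1 + s • a.1) = 0 := fun p q r s => by
              simp [polar_add_left, polar_add_right, polar_smul_left, polar_smul_right, hu2, ha2, hua, hau]
            fin_cases l <;> fin_cases l'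
            · exact hb2
            · show polar Q b.1 (r • u.1 + s • a.1) = 0
              rw [← hpq]; exact key _ _ _ _
            · show polar Q (r • u.1 + s • a.1) b.1 = 0
              rw [← hpq]; exact key _ _ _ _
            · exact key _ _ _ _)
          (by
            intro l
            fin_cases l
            · exact hQb
            · show Q (r • u.1 + s • a.1) = 0
              simp [u, a, xvec, QuadraticMap.map_add ⇑Q, QuadraticMap.map_smul, polar_smul_left, polar_smul_right,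
                S.Qe _ hi1, S.Qe _ hi, S.pee _ _ hi1 hi])
          0 1 0 (by decide) (by decide) hrk
        simp only [Matrix.cons_val_zero, Matrix.cons_val_one] at hsc
        rwa [he] at hsc
      · have hv : (fun l => (![b, u, a] l).1) = ![b.1, u.1, a.1] := by funext l; fin_cases l <;> rfl
        have hl3 : LinearIndependent F ![b.1, u.1, a.1] := by
          refine linearIndependent_fin_cons.mpr ⟨hliua, ?_⟩
          rwa [Matrix.range_cons, Matrix.range_cons, Matrix.range_empty, Set.union_empty, Set.singleton_union]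
        have hbu : polar Q b.1 u.1 = 0 := by rw [polar_comm]; exact h1
        have hba : polar Q b.1 a.1 = 0 := by rw [polar_comm]; exact h2
        exact S.scalar_one ρ hq hi1 ![b, u, a] (by rw [hv]; exact hl3)
          (by
            intro l l'
            fin_cases l <;> fin_cases l'
            exacts [hb2, hbu, hba, h1, hu2, hua, h2, (by rw [polar_comm]; exact hua), ha2])
          (by intro l; fin_cases l; exacts [hQb, S.Qe _ hi1, S.Qe _ hi])
          1 2 0 (by decide) (by decide) hrk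
    · by_cases hQb : Q b.1 = 0
      · refine S.trace_moved ρ hQn hfive him hflag hce b fun heq => hc ⟨hQb, ?_⟩
        have he := congrArg Subtype.val heq
        rw [hxb b] at he
        have h2 := congrArg (fun y => polar Q (S.f (i + 1)) y) he
        have h3 := congrArg (fun y => polar Q (S.f (i + 2)) y) he
        simp [sub_eq_add_neg, polar_add_right, polar_smul_right, polar_neg_right, S.pfe (i := i + 1) (j := i + 1) hi1 hi1,
          S.pfe (i := i + 1) (j := i + 2) hi1 hi] at h2
        simp [sub_eq_add_neg, polar_add_right, polar_smul_right, polar_neg_right, S.pfe (i := i + 2) (j := i + 2) hi hi,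
          S.pfe (i := i + 2) (j := i + 1) hi hi1] at h3
        exact ⟨by rw [polar_comm]; exact h3, by rw [polar_comm]; exact h2⟩
      · rw [S.L_zero_of_rk ρ b ((hp b hb).2 hQb), mul_zero, map_zero]
  have hsum : S.tr ρ i x' + 1 = S.tr ρ (i + 1) x' + (Fintype.card F : ℂ) ^ (2 * (n - (i + 2))) := by
    rw [S.tr_eq_sum ρ hQn hfive him, S.tr_succ ρ hQn hfive him,
      ← Finset.add_sum_erase Finset.univ _ (Finset.mem_univ (0 : S.W (i + 1))), add_assoc]
    congr 1
    rw [Finset.sum_congr rfl fun b hb => hterm b (Finset.ne_of_mem_erase hb), Finset.sum_boole,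
      ← Nat.cast_pow, ← S.fixed_count hi, Nat.card_eq_fintype_card, Fintype.card_subtype, Finset.filter_erase,
      Finset.card_erase_of_mem (by simp [polar_zero_right]), ← Nat.cast_add_one]
    congr 1
    have : 0 < (Finset.univ.filter fun b : S.W (i + 1) => Q b.1 = 0 ∧ polar Q (S.e (i + 1)) b.1 = 0 ∧
        polar Q (S.e (i + 2)) b.1 = 0).card := Finset.card_pos.mpr ⟨0, by simp [polar_zero_right]⟩
    omega
  have hd := S.dimE_layer ρ hi1 hp
  have hd' : (S.dimE ρ i : ℂ) + 1 = (S.dimE ρ (i + 1) : ℂ) + (Fintype.card F : ℂ) ^ (2 * (n - (i + 1))) := by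
    exact_mod_cast hd
  rw [hconj] at hsum
  show _ = (Fintype.card F : ℂ) ^ (2 * (n - (i + 1 + 1)))
  rw [show i + 1 + 1 = i + 2 from rfl]
  linear_combination h + hsum - hd'

end OddFrame

end CfsgLib.OrthDeg
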