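import Cfsg.Agent.Lib.OrthDeg.OddInvol

set_option autoImplicit false
set_option linter.unusedSectionVars false
set_option linter.style.haveILetI false

/-!
Rank three: the three pair inversions have incompatible traces on the two-dimensional bottom space, so
every non-trivial representation of `Ω` reaches the bound.
-/

namespace CfsgLib.OrthDeg

open QuadraticMap CfsgLib.Orth

variable {ι : Type} [Fintype ι] [DecidableEq ι] {F : Type*} [Field F] [Fintype F]
variable {Q : QuadraticForm F (ι → F)} {n : ℕ} (S : OddFrame Q n)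
variable {V : Type*} [AddCommGroup V] [Module ℂ V] [FiniteDimensional ℂ V] (ρ : Representation ℂ (Om Q) V)

namespace OddFrame

include S

open scoped Classical in
theorem tor2_mem {j k : ℕ} (hj : j < n) (hk : k < n) {t : F} (ht : t ≠ 0) :
    S.toHyp.tor j t * S.toHyp.tor k t ∈ Om Q := by
  obtain ⟨d, hd⟩ := S.exists_nonsq
  rw [S.mem_omega hd, map_mul, S.chi_tor hd hj ht, S.chi_tor hd hk ht]
  exact Prod.ext (Int.units_mul_self _) (Int.units_mul_self _)

/-- The scaling of two pairs. -/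
noncomputable def tt {j k : ℕ} (hj : j < n) (hk : k < n) {t : F} (ht : t ≠ 0) : Om Q :=
  ⟨S.toHyp.tor j t * S.toHyp.tor k t, S.tor2_mem hj hk ht⟩

theorem app_tor_other {j : ℕ} (hj : j < n) {t : F} (ht : t ≠ 0) {x : ι → F} (he : polar Q (S.e j) x = 0)
    (hf : polar Q (S.f j) x = 0) : app (S.toHyp.tor j t) x = x := by
  rw [S.toHyp.app_tor hj ht, he, hf]; simp

theorem app_tor_e {j : ℕ} (hj : j < n) {t : F} (ht : t ≠ 0) : app (S.toHyp.tor j t) (S.e j) = t • S.e j := by
  rw [S.toHyp.app_tor hj ht, S.pee j j hj hj, S.pfe (i := j) (j := j) hj hj, if_pos rfl, mul_zero, zero_smul,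
    add_zero, mul_one]
  module

theorem app_tor_e' {j k : ℕ} (hj : j < n) (hk : k < n) (hjk : j ≠ k) {t : F} (ht : t ≠ 0) :
    app (S.toHyp.tor j t) (S.e k) = S.e k :=
  S.app_tor_other hj ht (S.pee j k hj hk) (by rw [S.pfe (i := j) (j := k) hj hk, if_neg hjk])

/-- The quarter turn of one pair and `x0`. -/
noncomputable def rot {j : ℕ} (hj : j < n) : Om Q :=
  ⟨refl Q (S.e j + S.f j) * refl Q S.x0, by
    classical
    obtain ⟨d, hd⟩ := S.exists_nonsq
    have h1 : Q (S.e j + S.f j) = 1 := by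
      simp [QuadraticMap.map_add ⇑Q, S.Qe j hj, S.Qf j hj, S.pef j j hj hj]
    rw [S.mem_omega hd, map_mul, S.chi_refl_one hd h1, S.chi_refl_one hd S.Qx0]
    exact Prod.ext (Int.units_mul_self _) (Int.units_mul_self _)⟩

theorem ap_rot {j : ℕ} (hj : j < n) (x : ι → F) : ap (S.rot hj) x =
    x - polar Q x S.x0 • S.x0 - (polar Q (S.e j) x + polar Q (S.f j) x) • (S.e j + S.f j) := by
  have h1 : Q (S.e j + S.f j) = 1 := by
    simp [QuadraticMap.map_add ⇑Q, S.Qe j hj, S.Qf j hj, S.pef j j hj hj]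
  show app (refl Q _ * refl Q _) x = _
  rw [app_mul, app_refl (Q := Q) S.x0, app_refl, h1, S.Qx0, inv_one, one_mul, one_mul, polar_sub_left,
    polar_smul_left, polar_add_right (Q := Q) S.x0, (S.x0_perp hj).2.2.1, (S.x0_perp hj).2.2.2, add_zero, smul_zero,
    sub_zero, polar_add_right, polar_comm (f := ⇑Q) x (S.e j), polar_comm (f := ⇑Q) x (S.f j)]

theorem tr_comm_level {i : ℕ} (hi : i < n) {h g : Om Q} (hg : S.Flag i g) {c : F}
    (hc : ap g (S.e i) = c • S.e i) (hgh : g * h = h * g) (b : S.W (i + 1)) :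
    LinearMap.trace ℂ V (ρ h * S.L ρ i (S.bmap hi g c b)) = LinearMap.trace ℂ V (ρ h * S.L ρ i b) := by
  have e : ρ h * S.L ρ i (S.bmap hi g c b) = ρ g * (ρ h * S.L ρ i b * ρ g⁻¹) := by
    rw [← mul_assoc, ← mul_assoc, ← map_mul, hgh, map_mul, mul_assoc, mul_assoc, ← mul_assoc (ρ g) (S.L ρ i b),
      S.L_move ρ S.nd S.five hi hg hc b, mul_assoc (S.L ρ i _), ← map_mul, mul_inv_cancel, map_one, mul_one]
  rw [e, LinearMap.trace_mul_comm, mul_assoc, ← map_mul, inv_mul_cancel, map_one, mul_one]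

theorem ap_hh {j k : ℕ} (hj : j < n) (hk : k < n) (hjk : j ≠ k) (x : ι → F) :
    ap (S.tt hj hk (neg_ne_zero.mpr (one_ne_zero (α := F)))) x =
      x - (2 * polar Q (S.f k) x) • S.e k - (2 * polar Q (S.e k) x) • S.f k -
        (2 * polar Q (S.f j) x) • S.e j - (2 * polar Q (S.e j) x) • S.f j := by
  show app (S.toHyp.tor j (-1) * S.toHyp.tor k (-1)) x = _
  rw [app_mul, S.toHyp.app_tor hk (neg_ne_zero.mpr one_ne_zero), S.toHyp.app_tor hj (neg_ne_zero.mpr one_ne_zero)]
  simp only [polar_add_right, polar_smul_right, S.pee j k hj hk, S.pff j k hj hk, S.pef j k hj hk,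
    S.pfe (i := j) (j := k) hj hk, if_neg hjk, smul_eq_mul, mul_zero, add_zero, inv_neg, inv_one]
  module

/-- The two lines of an inverted pair. -/
theorem pair_level {i j : ℕ} (hn : n = 3) (hi : i + 1 < n) (hj : j < n) (hji : j ≠ i) (hji' : j ≠ i + 1)
    (hp : S.Pure ρ i) : ∃ δ : ℤ, (δ = 1 ∨ δ = -1) ∧
      S.tr ρ i (S.tt (show i < n by omega) hi (neg_ne_zero.mpr (one_ne_zero (α := F)))) =
        S.tr ρ (i + 1) (S.tt (show i < n by omega) hi (neg_ne_zero.mpr (one_ne_zero (α := F)))) +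
          ((2 * ((Fintype.card F : ℤ) - 1) * δ : ℤ) : ℂ) := by
  classical
  have hQn := S.nd
  have h5 := S.five
  have him : i < n := by omega
  have hne : (-1 : F) ≠ 0 := neg_ne_zero.mpr one_ne_zero
  set h := S.tt him hi hne with hh
  have hii : i ≠ i + 1 := Nat.ne_of_lt (Nat.lt_succ_self i)
  have hap := S.ap_hh him hi hii
  rw [← hh] at hap
  have hflag : S.Flag i h := fun l hl => ⟨1, by
    rw [one_smul, hap, S.pee i l him (by omega), S.pee (i + 1) l hi (by omega), S.pfe (i := i) (j := l) him (by omega),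
      S.pfe (i := i + 1) (j := l) hi (by omega), if_neg (by omega), if_neg (by omega)]
    simp⟩
  have hce : ap h (S.e i) = (-1 : F) • S.e i := by
    rw [hap, S.pee i i him him, S.pee (i + 1) i hi him, S.pfe (i := i) (j := i) him him,
      S.pfe (i := i + 1) (j := i) hi him, if_pos rfl, if_neg hii.symm]
    simp only [mul_zero, zero_smul, sub_zero, mul_one]
    module
  have hfix : ∀ b : S.W (i + 1), S.bmap him h (-1) b = b ↔
      b.1 = polar Q (S.f (i + 1)) b.1 • S.e (i + 1) + polar Q (S.e (i + 1)) b.1 • S.f (i + 1) := by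
    intro b
    have e : (S.bmap him h (-1) b).1 = (2 * polar Q (S.f (i + 1)) b.1) • S.e (i + 1) +
        (2 * polar Q (S.e (i + 1)) b.1) • S.f (i + 1) - b.1 := by
      show (-1 : F)⁻¹ • S.pr (i + 1) (ap h b.1) = _
      rw [hap, (S.perp_e (Nat.lt_succ_self i) b.2).1, (S.perp_f (Nat.lt_succ_self i) b.2).1, mul_zero, zero_smul,
        sub_zero, zero_smul, sub_zero, S.pr_eq_self (sub_mem (sub_mem b.2 ((S.W _).smul_mem _ (S.e_mem_W le_rfl hi)))
          ((S.W _).smul_mem _ (S.f_mem_W le_rfl hi))), inv_neg, inv_one]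
      module
    constructor
    · intro heq
      have h' := congrArg Subtype.val heq
      rw [e] at h'
      refine smul_right_injective _ S.h2 ?_
      show (2 : F) • b.1 = (2 : F) • _
      linear_combination (norm := module) -(1 : F) • h'
    · intro heq
      refine Subtype.ext ?_
      rw [e]
      conv_rhs => rw [heq]
      conv_lhs => arg 2; rw [heq]
      module
  let ve : F → S.W (i + 1) := fun d => ⟨d • S.e (i + 1), (S.W _).smul_mem d (S.e_mem_W le_rfl hi)⟩
  let vf : F → S.W (i + 1) := fun d => ⟨d • S.f (i + 1), (S.W _).smul_mem d (S.f_mem_W le_rfl hi)⟩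
  have pfe1 : polar Q (S.f (i + 1)) (S.e (i + 1)) = 1 := by simp [S.pfe (i := i + 1) (j := i + 1) hi hi]
  have pef1 : polar Q (S.e (i + 1)) (S.f (i + 1)) = 1 := by simp [S.pef (i + 1) (i + 1) hi hi]
  have pee1 : polar Q (S.e (i + 1)) (S.e (i + 1)) = 0 := S.pee _ _ hi hi
  have pff1 : polar Q (S.f (i + 1)) (S.f (i + 1)) = 0 := S.pff _ _ hi hi
  -- the sign is constant
  set s := fun b : S.W (i + 1) => LinearMap.trace ℂ V (ρ h * S.L ρ i b) with hs
  have hscale : ∀ (d t : F), t ≠ 0 → s (ve (t⁻¹ * d)) = s (ve d) := by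
    intro d t ht
    set g := S.tt him hj ht with hg
    have hgv : ∀ x, polar Q (S.e i) x = 0 → polar Q (S.f i) x = 0 → polar Q (S.e j) x = 0 →
        polar Q (S.f j) x = 0 → ap g x = x := fun x a1 a2 a3 a4 => by
      show app (_ * _) x = x
      rw [app_mul, S.app_tor_other hj ht a3 a4, S.app_tor_other him ht a1 a2]
    have hgf : S.Flag i g := fun l hl => by
      by_cases hlj : l = j
      · subst hlj
        exact ⟨t, by show app (_ * _) _ = _; rw [app_mul, S.app_tor_e hj ht, map_smul, S.app_tor_e' him hj (by omega) ht]⟩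
      · exact ⟨1, by
          show app (_ * _) _ = _
          rw [app_mul, S.app_tor_e' hj (by omega) (Ne.symm hlj) ht, S.app_tor_e' him (by omega) (by omega) ht, one_smul]⟩
    have hgc : ap g (S.e i) = t • S.e i := by
      show app (_ * _) _ = _
      rw [app_mul, S.app_tor_e' hj him hji ht, S.app_tor_e him ht]
    have hge : ap g (S.e (i + 1)) = S.e (i + 1) :=
      hgv _ (S.pee i _ him hi) (by rw [S.pfe (i := i) (j := i + 1) him hi, if_neg hii])
        (S.pee j _ hj hi) (by rw [S.pfe (i := j) (j := i + 1) hj hi, if_neg hji'])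
    have hgfv : ap g (S.f (i + 1)) = S.f (i + 1) :=
      hgv _ (by rw [S.pef i (i + 1) him hi, if_neg hii]) (S.pff i _ him hi)
        (by rw [S.pef j (i + 1) hj hi, if_neg hji']) (S.pff j _ hj hi)
    have hcomm : g * h = h * g := Subtype.ext (ext_app fun x => by
      show app (g.1 * h.1) x = app (h.1 * g.1) x
      rw [app_mul, app_mul]
      show app (S.toHyp.tor i t * S.toHyp.tor j t) (app (S.toHyp.tor i (-1) * S.toHyp.tor (i + 1) (-1)) x) =
        app (S.toHyp.tor i (-1) * S.toHyp.tor (i + 1) (-1)) (app (S.toHyp.tor i t * S.toHyp.tor j t) x)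
      simp only [app_mul, S.toHyp.app_tor him ht, S.toHyp.app_tor him hne, S.toHyp.app_tor hj ht,
        S.toHyp.app_tor hi hne, polar_add_right, polar_smul_right, S.pee i i him him, S.pff i i him him,
        S.pee i (i + 1) him hi, S.pff i (i + 1) him hi, S.pee (i + 1) i hi him, S.pff (i + 1) i hi him,
        S.pee (i + 1) (i + 1) hi hi, S.pff (i + 1) (i + 1) hi hi, S.pee i j him hj, S.pff i j him hj,
        S.pee j i hj him, S.pff j i hj him, S.pee j (i + 1) hj hi, S.pff j (i + 1) hj hi, S.pee (i + 1) j hi hj,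
        S.pff (i + 1) j hi hj, S.pef i i him him, S.pef i (i + 1) him hi, S.pef (i + 1) i hi him,
        S.pef i j him hj, S.pef j i hj him, S.pef j (i + 1) hj hi, S.pef (i + 1) j hi hj,
        S.pfe (i := i) (j := i) him him, S.pfe (i := i) (j := i + 1) him hi, S.pfe (i := i + 1) (j := i) hi him,
        S.pfe (i := i) (j := j) him hj, S.pfe (i := j) (j := i) hj him, S.pfe (i := j) (j := i + 1) hj hi,
        S.pfe (i := i + 1) (j := j) hi hj, hii, hii.symm, hji, hji.symm, hji', hji'.symm, if_true, if_false,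
        smul_eq_mul, mul_zero, mul_one, add_zero, zero_add]
      match_scalars <;> ring)
    have hbm : S.bmap him g t (ve d) = ve (t⁻¹ * d) := Subtype.ext (by
      show t⁻¹ • S.pr (i + 1) (ap g (d • S.e (i + 1))) = (t⁻¹ * d) • S.e (i + 1)
      rw [map_smul (ap g), hge, S.pr_eq_self ((S.W _).smul_mem d (S.e_mem_W le_rfl hi)), smul_smul])
    rw [← hbm]
    exact S.tr_comm_level ρ him hgf hgc hcomm (ve d)
  have hswap : ∀ d : F, s (vf (-d)) = s (ve d) := by
    intro d
    set g := S.rot hi with hg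
    have hgfix : ∀ x, polar Q (S.e (i + 1)) x = 0 → polar Q (S.f (i + 1)) x = 0 → polar Q x S.x0 = 0 → ap g x = x :=
      fun x a1 a2 a3 => by rw [hg, S.ap_rot, a1, a2, a3]; simp
    have hgf : S.Flag i g := fun l hl => ⟨1, by
      rw [one_smul, hgfix _ (S.pee _ _ hi (by omega))
        (by rw [S.pfe (i := i + 1) (j := l) hi (by omega), if_neg (by omega)]) (S.x0_perp (show l < n by omega)).1]⟩
    have hgc : ap g (S.e i) = (1 : F) • S.e i := by
      rw [one_smul, hgfix _ (S.pee _ _ hi him) (by rw [S.pfe (i := i + 1) (j := i) hi him, if_neg hii.symm])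
        (S.x0_perp him).1]
    have hge : ap g (S.e (i + 1)) = -S.f (i + 1) := by
      rw [hg, S.ap_rot, pee1, pfe1, (S.x0_perp hi).1, zero_smul, sub_zero, zero_add, one_smul]
      abel
    have hgfe : ap g (S.f i) = S.f i :=
      hgfix _ (by rw [S.pef (i + 1) i hi him, if_neg hii.symm]) (S.pff _ _ hi him) (S.x0_perp him).2.1
    have hcomm : g * h = h * g := by
      refine Subtype.ext (ext_app fun x => ?_)
      show app (g.1 * h.1) x = app (h.1 * g.1) x
      rw [app_mul, app_mul]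
      show ap g (ap h x) = ap h (ap g x)
      rw [hap, hap, hg, S.ap_rot, S.ap_rot]
      simp only [polar_sub_left, polar_sub_right, polar_add_right, polar_smul_right, polar_smul_left, smul_eq_mul,
        pee1, pff1, pef1, pfe1, (S.x0_perp hi).1, (S.x0_perp hi).2.1, (S.x0_perp him).1, (S.x0_perp him).2.1,
        S.pee i (i + 1) him hi, S.pff i (i + 1) him hi, S.pee (i + 1) i hi him, S.pff (i + 1) i hi him,
        S.pef i (i + 1) him hi, S.pef (i + 1) i hi him, S.pfe (i := i) (j := i + 1) him hi,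
        S.pfe (i := i + 1) (j := i) hi him, hii, hii.symm, if_false, mul_zero, mul_one, add_zero, zero_add, sub_zero,
        polar_comm (f := ⇑Q) (S.f i) S.x0, polar_comm (f := ⇑Q) (S.e i) S.x0,
        polar_comm (f := ⇑Q) (S.f (i + 1)) S.x0, polar_comm (f := ⇑Q) (S.e (i + 1)) S.x0]
      module
    have hbm : S.bmap him g 1 (ve d) = vf (-d) := Subtype.ext (by
      show (1 : F)⁻¹ • S.pr (i + 1) (ap g (d • S.e (i + 1))) = (-d) • S.f (i + 1)
      rw [map_smul (ap g), hge, S.pr_eq_self ((S.W _).smul_mem d (neg_mem (S.f_mem_W le_rfl hi))), inv_one, one_smul,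
        smul_neg, neg_smul])
    rw [← hbm]
    exact S.tr_comm_level ρ him hgf hgc hcomm (ve d)
  have hve0 : ve 1 ≠ 0 := fun h0 => S.toHyp.e_ne hQn hi (by
    have := congrArg Subtype.val h0
    simpa [ve] using this)
  obtain ⟨δ, hδ, hδ'⟩ : ∃ δ : ℤ, (δ = 1 ∨ δ = -1) ∧ s (ve 1) = (δ : ℂ) := by
    have hQ1 : Q (ve 1).1 = 0 := by show Q ((1 : F) • S.e (i + 1)) = 0; rw [one_smul, S.Qe _ hi]
    have hrk := (hp _ hve0).1 hQ1
    have hL := S.L_idem ρ hQn h5 him (ve 1)
    have ht : LinearMap.trace ℂ V (S.L ρ i (ve 1)) = 1 := by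
      rw [← S.rk_eq_trace ρ hQn h5 him, hrk, Nat.cast_one]
    have hc := S.L_move ρ hQn h5 him hflag hce (ve 1)
    rw [(hfix (ve 1)).mpr (by simp [ve, pfe1, pee1])] at hc
    have h1 := SLMinDeg.mul_eq_trace_smul _ _ hL ht hc
    have hne' : S.L ρ i (ve 1) ≠ 0 := fun h0 => by rw [h0, map_zero] at ht; exact zero_ne_one ht
    have hsq : h * h = 1 := Subtype.ext (ext_app fun x => by
      show app (h.1 * h.1) x = app 1 x
      rw [app_mul, app_one]
      show ap h (ap h x) = x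
      rw [hap, hap]
      simp only [polar_sub_right, polar_smul_right, smul_eq_mul, pee1, pff1, pef1, pfe1, S.pee i i him him,
        S.pff i i him him, S.pef i i him him, S.pfe (i := i) (j := i) him him, S.pee i (i + 1) him hi,
        S.pff i (i + 1) him hi, S.pee (i + 1) i hi him, S.pff (i + 1) i hi him, S.pef i (i + 1) him hi,
        S.pef (i + 1) i hi him, S.pfe (i := i) (j := i + 1) him hi, S.pfe (i := i + 1) (j := i) hi him,
        hii, hii.symm, if_true, if_false, mul_zero, mul_one, sub_zero]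
      match_scalars <;> ring)
    have h2 : (s (ve 1) * s (ve 1)) • S.L ρ i (ve 1) = (1 : ℂ) • S.L ρ i (ve 1) := by
      rw [one_smul, ← smul_smul, hs, ← h1, ← mul_smul_comm, ← h1, ← mul_assoc, ← map_mul, hsq, map_one, one_mul]
    rcases mul_self_eq_one_iff.mp (smul_left_injective ℂ hne' h2) with h' | h'
    · exact ⟨1, Or.inl rfl, by rw [h']; norm_num⟩
    · exact ⟨-1, Or.inr rfl, by rw [h']; norm_num⟩
  have hvals : ∀ d : F, d ≠ 0 → s (ve d) = (δ : ℂ) ∧ s (vf d) = (δ : ℂ) := by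
    have h1 : ∀ d : F, d ≠ 0 → s (ve d) = (δ : ℂ) := fun d hd => by
      have := hscale 1 d⁻¹ (inv_ne_zero hd)
      rw [inv_inv, mul_one] at this
      rw [this, hδ']
    exact fun d hd => ⟨h1 d hd, by rw [← neg_neg d, hswap, h1 _ (neg_ne_zero.mpr hd)]⟩
  refine ⟨δ, hδ, ?_⟩
  set A := ((Finset.univ.erase (0 : F)).image ve) ∪ ((Finset.univ.erase (0 : F)).image vf) with hA
  have hinj_e : Function.Injective ve := fun a b hab => by
    have h' := congrArg (fun v : S.W (i + 1) => polar Q (S.f (i + 1)) v.1) hab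
    simpa [ve, polar_smul_right, pfe1] using h'
  have hinj_f : Function.Injective vf := fun a b hab => by
    have h' := congrArg (fun v : S.W (i + 1) => polar Q (S.e (i + 1)) v.1) hab
    simpa [vf, polar_smul_right, pef1] using h'
  have hdisj : Disjoint ((Finset.univ.erase (0 : F)).image ve) ((Finset.univ.erase (0 : F)).image vf) := by
    rw [Finset.disjoint_left]
    rintro v hv hv'
    obtain ⟨a, ha, rfl⟩ := Finset.mem_image.mp hv
    obtain ⟨b, -, hb⟩ := Finset.mem_image.mp hv'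
    have h' := congrArg (fun v : S.W (i + 1) => polar Q (S.f (i + 1)) v.1) hb
    simp [ve, vf, polar_smul_right, pfe1, pff1] at h'
    exact Finset.ne_of_mem_erase ha h'.symm
  have hAcard : A.card = 2 * (Fintype.card F - 1) := by
    rw [hA, Finset.card_union_of_disjoint hdisj, Finset.card_image_of_injective _ hinj_e,
      Finset.card_image_of_injective _ hinj_f, Finset.card_erase_of_mem (Finset.mem_univ _), Finset.card_univ]
    ring
  rw [S.tr_eq_sum ρ hQn h5 him, S.tr_succ ρ hQn h5 him,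
    ← Finset.add_sum_erase Finset.univ _ (Finset.mem_univ (0 : S.W (i + 1)))]
  congr 1
  have hterm : ∀ b ∈ Finset.univ.erase (0 : S.W (i + 1)), s b = if b ∈ A then (δ : ℂ) else 0 := by
    intro b hb
    split_ifs with hbA
    · rw [hA, Finset.mem_union] at hbA
      rcases hbA with hbA | hbA <;> obtain ⟨d, hd, rfl⟩ := Finset.mem_image.mp hbA
      exacts [(hvals d (Finset.ne_of_mem_erase hd)).1, (hvals d (Finset.ne_of_mem_erase hd)).2]
    · by_cases hQb : Q b.1 = 0
      · refine S.trace_moved ρ hQn h5 him hflag hce b fun heq => hbA ?_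
        have hb' := (hfix b).mp heq
        set a := polar Q (S.f (i + 1)) b.1
        set a' := polar Q (S.e (i + 1)) b.1
        have hQ' : a * a' = 0 := by
          have h0 := S.toHyp.Q_split hi a a' (zero_mem _)
          rw [add_zero, ← hb', QuadraticMap.map_zero, add_zero, hQb] at h0
          exact h0.symm
        rw [hA, Finset.mem_union]
        rcases mul_eq_zero.mp hQ' with h0 | h0
        · refine Or.inr (Finset.mem_image.mpr ⟨a', Finset.mem_erase.mpr ⟨fun h1 => Finset.ne_of_mem_erase hb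
            (Subtype.ext (by rw [hb', h0, h1]; simp)), Finset.mem_univ _⟩, Subtype.ext ?_⟩)
          show a' • S.f (i + 1) = b.1
          rw [hb', h0, zero_smul, zero_add]
        · refine Or.inl (Finset.mem_image.mpr ⟨a, Finset.mem_erase.mpr ⟨fun h1 => Finset.ne_of_mem_erase hb
            (Subtype.ext (by rw [hb', h0, h1]; simp)), Finset.mem_univ _⟩, Subtype.ext ?_⟩)
          show a • S.e (i + 1) = b.1
          rw [hb', h0, zero_smul, add_zero]
      · show LinearMap.trace ℂ V _ = 0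
        rw [S.L_zero_of_rk ρ b ((hp b (Finset.ne_of_mem_erase hb)).2 hQb), mul_zero, map_zero]
  have hsub : (Finset.univ.erase (0 : S.W (i + 1))).filter (· ∈ A) = A := by
    ext v
    rw [Finset.mem_filter, Finset.mem_erase]
    refine ⟨fun hv => hv.2, fun hv => ⟨⟨fun h0 => ?_, Finset.mem_univ _⟩, hv⟩⟩
    rw [hA, Finset.mem_union] at hv
    rcases hv with hv | hv <;> obtain ⟨d, hd, rfl⟩ := Finset.mem_image.mp hv
    · exact Finset.ne_of_mem_erase hd (hinj_e (h0.trans (Subtype.ext (zero_smul F _).symm)))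
    · exact Finset.ne_of_mem_erase hd (hinj_f (h0.trans (Subtype.ext (zero_smul F _).symm)))
  rw [Finset.sum_congr rfl hterm, Finset.sum_ite, Finset.sum_const_zero, add_zero, hsub, Finset.sum_const,
    hAcard, nsmul_eq_mul, Nat.cast_mul, Nat.cast_sub Fintype.card_pos]
  push_cast
  ring

/-- On the bottom space of rank three the root groups of the last pair act trivially. -/
theorem rot_trivial (hn : n = 3) (hq : 3 < Fintype.card F) (hd : S.dimE ρ 2 = 2) :
    ρ (S.rot (show 2 < n by omega)) * S.E ρ 2 = S.E ρ 2 := by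
  classical
  have hQn := S.nd
  have h5 := S.five
  have h2n : 2 < n := by omega
  have h0n : 0 < n := by omega
  have hL : ∀ b : S.W (2 + 1), b ≠ 0 → S.L ρ 2 b = 0 := by
    intro b hb
    refine S.L_zero_of_rk ρ b ?_
    by_contra hr
    have hscale : ∀ t : F, t ≠ 0 → S.rk ρ 2 (t • b) = S.rk ρ 2 b := by
      intro t ht
      set g := S.tt h0n h2n (inv_ne_zero ht) with hg
      have hgf : S.Flag 2 g := fun l hl => by
        show ∃ c : F, app (_ * _) _ = _
        by_cases hl0 : l = 0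
        · subst hl0
          exact ⟨t⁻¹, by rw [app_mul, S.app_tor_e' h2n h0n (by omega) (inv_ne_zero ht), S.app_tor_e h0n (inv_ne_zero ht)]⟩
        · exact ⟨1, by rw [app_mul, S.app_tor_e' h2n (show l < n by omega) (by omega) (inv_ne_zero ht),
            S.app_tor_e' h0n (show l < n by omega) (Ne.symm hl0) (inv_ne_zero ht), one_smul]⟩
      have hgc : ap g (S.e 2) = t⁻¹ • S.e 2 := by
        show app (_ * _) _ = _
        rw [app_mul, S.app_tor_e h2n (inv_ne_zero ht), map_smul, S.app_tor_e' h0n h2n (by omega) (inv_ne_zero ht)]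
      have hbm : S.bmap h2n g t⁻¹ b = t • b := Subtype.ext (by
        show (t⁻¹)⁻¹ • S.pr 3 (app (S.toHyp.tor 0 t⁻¹ * S.toHyp.tor 2 t⁻¹) b.1) = t • b.1
        rw [app_mul, S.app_tor_other h2n (inv_ne_zero ht) (S.perp_e (by omega) b.2).1 (S.perp_f (by omega) b.2).1,
          S.app_tor_other h0n (inv_ne_zero ht) (S.perp_e (by omega) b.2).1 (S.perp_f (by omega) b.2).1,
          S.pr_eq_self b.2, inv_inv])
      rw [← hbm]
      exact S.rk_move ρ hQn h5 h2n hgf hgc b
    have hle : (Fintype.card F - 1) * S.rk ρ 2 b ≤ S.dimE ρ 2 := by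
      rw [S.dimE_eq_sum ρ hQn h5 h2n]
      refine le_trans (le_of_eq ?_) (Finset.sum_le_sum_of_subset
        (Finset.subset_univ ((Finset.univ.erase (0 : F)).image fun t => t • b)))
      rw [Finset.sum_image (fun a _ c _ h => smul_left_injective F hb h), Finset.sum_congr rfl
        (fun t ht => hscale t (Finset.ne_of_mem_erase ht)), Finset.sum_const, smul_eq_mul,
        Finset.card_erase_of_mem (Finset.mem_univ _), Finset.card_univ]
    have := Nat.mul_le_mul_left (Fintype.card F - 1) (Nat.one_le_iff_ne_zero.mpr hr)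
    omega
  have hE : S.L ρ 2 0 = S.E ρ 2 := by
    rw [← S.sum_L ρ hQn h5 h2n, Finset.sum_eq_single (0 : S.W (2 + 1)) (fun b _ hb => hL b hb) (by simp)]
  have hT : ∀ a : S.W (2 + 1), ρ (S.T 2 a) * S.E ρ 2 = S.E ρ 2 := fun a => by
    rw [← hE, S.T_mul_L ρ hQn h5 h2n, Submodule.coe_zero, polar_zero_left, AddChar.map_zero_eq_one, one_smul]
  set g := S.rot h2n with hg
  have hgfix : ∀ x, polar Q (S.e 2) x = 0 → polar Q (S.f 2) x = 0 → polar Q x S.x0 = 0 → ap g x = x :=
    fun x a1 a2 a3 => by rw [hg, S.ap_rot, a1, a2, a3]; simp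
  have hgf : S.Flag 2 g := fun l hl => ⟨1, by
    rw [one_smul, hgfix _ (S.pee _ _ h2n (by omega))
      (by rw [S.pfe (i := 2) (j := l) h2n (by omega), if_neg (by omega)]) (S.x0_perp (show l < n by omega)).1]⟩
  have hge : ap g (S.e 2) = -S.f 2 := by
    rw [hg, S.ap_rot, S.pee 2 2 h2n h2n, S.pfe (i := 2) (j := 2) h2n h2n, if_pos rfl, (S.x0_perp h2n).1, zero_smul,
      sub_zero, zero_add, one_smul]
    abel
  have hgx : ap g S.x0 = -S.x0 := by
    rw [hg, S.ap_rot, S.px0, (S.x0_perp h2n).1, (S.x0_perp h2n).2.1, add_zero, zero_smul, sub_zero]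
    module
  have pex : polar Q (S.e 2) S.x0 = 0 := (S.x0_perp h2n).1
  have pfx : polar Q (S.f 2) S.x0 = 0 := (S.x0_perp h2n).2.1
  have hx3 : S.x0 ∈ S.W (2 + 1) := S.W_anti (by omega) S.x0_mem
  set E1 := el Q (S.e 2) S.x0 with hE1
  set F1 := el Q (S.f 2) S.x0 with hF1
  have hEfix : ρ E1 * S.E ρ 2 = S.E ρ 2 := hT ⟨S.x0, hx3⟩
  have hconj : g * E1 * g⁻¹ = F1 := by
    rw [el_conj hQn h5 (S.Qe 2 h2n) pex, hge, hgx, ← neg_one_smul F (S.f 2), el_smul hQn h5 (S.Qf 2 h2n)
      (by rw [polar_neg_right, pfx, neg_zero]), neg_one_smul, neg_neg]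
  have hFfix : ρ F1 * S.E ρ 2 = S.E ρ 2 := by
    have hc := S.E_comm ρ hQn h5 (show 2 ≤ n by omega) hgf
    have hgi : ρ g⁻¹ * S.E ρ 2 = S.E ρ 2 * ρ g⁻¹ := by
      calc ρ g⁻¹ * S.E ρ 2 = ρ g⁻¹ * (S.E ρ 2 * ρ g) * ρ g⁻¹ := by
            rw [mul_assoc (ρ g⁻¹), mul_assoc, ← map_mul, mul_inv_cancel, map_one, mul_one]
        _ = S.E ρ 2 * ρ g⁻¹ := by rw [← hc, ← mul_assoc, ← map_mul, inv_mul_cancel, map_one, one_mul]
    rw [← hconj, map_mul, map_mul, mul_assoc, hgi, ← mul_assoc, mul_assoc (ρ g), hEfix, hc, mul_assoc, ← map_mul,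
      mul_inv_cancel, map_one, mul_one]
  have hword : g = E1 * F1 * E1 := by
    refine Subtype.ext (ext_app fun x => ?_)
    show ap g x = app (E1.1 * F1.1 * E1.1) x
    rw [app_mul, app_mul]
    show ap g x = ap E1 (ap F1 (ap E1 x))
    rw [hg, S.ap_rot, hE1, hF1]
    simp only [ap_el hQn h5 (S.Qe 2 h2n) pex, ap_el hQn h5 (S.Qf 2 h2n) pfx, S.Qx0, polar_add_left, polar_smul_left,
      polar_add_right, polar_smul_right, smul_eq_mul, S.px0, S.pee 2 2 h2n h2n, S.pff 2 2 h2n h2n,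
      S.pef 2 2 h2n h2n, S.pfe (i := 2) (j := 2) h2n h2n, (S.x0_perp h2n).1, (S.x0_perp h2n).2.1,
      (S.x0_perp h2n).2.2.1, (S.x0_perp h2n).2.2.2, if_true, mul_zero, mul_one, one_mul,
      polar_comm (f := ⇑Q) (S.e 2) x, polar_comm (f := ⇑Q) (S.f 2) x]
    match_scalars <;> ring
  rw [hword, map_mul, map_mul, mul_assoc, hEfix, mul_assoc, hFfix, hEfix]

theorem hh_conj {j k j' k' : ℕ} (hj : j < n) (hk : k < n) (hj' : j' < n) (hk' : k' < n) {g : Om Q}
    (h1 : ap g (S.e j) = S.e j') (h2 : ap g (S.f j) = S.f j') (h3 : ap g (S.e k) = S.e k')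
    (h4 : ap g (S.f k) = S.f k') :
    g * S.tt hj hk (neg_ne_zero.mpr (one_ne_zero (α := F))) * g⁻¹ =
      S.tt hj' hk' (neg_ne_zero.mpr (one_ne_zero (α := F))) := by
  refine Subtype.ext ?_
  show g.1 * (refl Q _ * refl Q _ * (refl Q _ * refl Q _)) * g.1⁻¹ = refl Q _ * refl Q _ * (refl Q _ * refl Q _)
  have e : ∀ v, g.1 * refl Q v * g.1⁻¹ = refl Q (ap g v) := fun v => refl_conj g.1 v
  rw [← conj_mul, ← conj_mul, ← conj_mul, e, e, e, e, map_add, map_add, map_add, map_add, map_smul, map_smul,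
    h1, h2, h3, h4]

theorem exists_perm (hn : n = 3) (a b : ℕ) (ha : a < n) (hb : b < n) (hab : a ≠ b) :
    ∃ g : Om Q, ap g (S.e 0) = S.e a ∧ ap g (S.f 0) = S.f a ∧ ap g (S.e 1) = S.e b ∧ ap g (S.f 1) = S.f b := by
  classical
  have h0 : 0 < n := by omega
  have h1 : 1 < n := by omega
  have h2 : 2 < n := by omega
  have li : ∀ a b, a < n → b < n → a ≠ b → LinearIndependent F ![S.e a, S.f a, S.e b, S.f b] := by
    intro a b ha hb hab
    rw [Fintype.linearIndependent_iff]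
    intro g hg
    rw [Fin.sum_univ_four] at hg
    simp only [Matrix.cons_val] at hg
    have k1 := congrArg (fun y => polar Q (S.f a) y) hg
    have k2 := congrArg (fun y => polar Q (S.e a) y) hg
    have k3 := congrArg (fun y => polar Q (S.f b) y) hg
    have k4 := congrArg (fun y => polar Q (S.e b) y) hg
    simp [polar_add_right, polar_smul_right, S.pee a a ha ha, S.pff a a ha ha, S.pee a b ha hb, S.pff a b ha hb,
      S.pee b a hb ha, S.pff b a hb ha, S.pee b b hb hb, S.pff b b hb hb, S.pef a a ha ha, S.pef a b ha hb,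
      S.pef b a hb ha, S.pef b b hb hb, S.pfe (i := a) (j := a) ha ha, S.pfe (i := a) (j := b) ha hb,
      S.pfe (i := b) (j := a) hb ha, S.pfe (i := b) (j := b) hb hb, hab, hab.symm] at k1 k2 k3 k4
    intro l; fin_cases l
    exacts [k1, k2, k3, k4]
  obtain ⟨g, -, hg, -⟩ := S.exists_flag (i := 0) (k := 2) (Nat.zero_le n) h2 ![S.e 0, S.f 0, S.e 1, S.f 1]
    ![S.e a, S.f a, S.e b, S.f b] (fun _ => S.mem_W_zero _) (fun _ => S.mem_W_zero _) (li 0 1 h0 h1 (by omega))
    (li a b ha hb hab)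
    (by intro l; fin_cases l <;> simp [S.Qe 0 h0, S.Qf 0 h0, S.Qe 1 h1, S.Qf 1 h1, S.Qe a ha, S.Qf a ha,
      S.Qe b hb, S.Qf b hb])
    (by
      intro l l'
      fin_cases l <;> fin_cases l' <;>
        simp [S.pee 0 0 h0 h0, S.pff 0 0 h0 h0, S.pee 0 1 h0 h1, S.pff 0 1 h0 h1, S.pee 1 0 h1 h0,
          S.pff 1 0 h1 h0, S.pee 1 1 h1 h1, S.pff 1 1 h1 h1, S.pef 0 0 h0 h0, S.pef 0 1 h0 h1, S.pef 1 0 h1 h0,
          S.pef 1 1 h1 h1, S.pfe (i := 0) (j := 0) h0 h0, S.pfe (i := 0) (j := 1) h0 h1,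
          S.pfe (i := 1) (j := 0) h1 h0, S.pfe (i := 1) (j := 1) h1 h1, S.pee a a ha ha, S.pff a a ha ha,
          S.pee a b ha hb, S.pff a b ha hb, S.pee b a hb ha, S.pff b a hb ha, S.pee b b hb hb, S.pff b b hb hb,
          S.pef a a ha ha, S.pef a b ha hb, S.pef b a hb ha, S.pef b b hb hb, S.pfe (i := a) (j := a) ha ha,
          S.pfe (i := a) (j := b) ha hb, S.pfe (i := b) (j := a) hb ha, S.pfe (i := b) (j := b) hb hb, hab, hab.symm])
    (by
      intro l; fin_cases l <;>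
        simp [S.pee 2 0 h2 h0, S.pee 2 1 h2 h1, S.pff 2 0 h2 h0, S.pff 2 1 h2 h1, S.pef 2 0 h2 h0, S.pef 2 1 h2 h1,
          S.pfe (i := 2) (j := 0) h2 h0, S.pfe (i := 2) (j := 1) h2 h1, (S.x0_perp h0).2.2.1, (S.x0_perp h0).2.2.2,
          (S.x0_perp h1).2.2.1, (S.x0_perp h1).2.2.2])
  exact ⟨g, hg 0, hg 1, hg 2, hg 3⟩

theorem no_fixed {i : ℕ} (hi : i + 1 < n) {h : Om Q} (hf : S.Flag i h) {c : F}
    (hc : ap h (S.e i) = c • S.e i) (hp : S.Pure ρ i)
    (hmv : ∀ b : S.W (i + 1), b ≠ 0 → Q b.1 = 0 → S.bmap (show i < n by omega) h c b ≠ b) :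
    S.tr ρ i h = S.tr ρ (i + 1) h := by
  classical
  rw [S.tr_eq_sum ρ S.nd S.five (show i < n by omega), S.tr_succ ρ S.nd S.five (show i < n by omega)]
  refine Finset.sum_eq_single (0 : S.W (i + 1)) (fun b _ hb => ?_) (by simp)
  by_cases hQb : Q b.1 = 0
  · exact S.trace_moved ρ S.nd S.five (show i < n by omega) hf hc b (hmv b hb hQb)
  · rw [S.L_zero_of_rk ρ b ((hp b hb).2 hQb), mul_zero, map_zero]

/-- Every non-trivial irreducible representation of `Ω` reaches the bound. -/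
theorem degree_ge (h7 : 7 ≤ Fintype.card ι) (hq : 3 < Fintype.card F) [ρ.IsIrreducible]
    (hnt : ∃ g, ρ g ≠ 1) : bsum (Fintype.card F) n ≤ Module.finrank ℂ V := by
  classical
  by_contra hlt
  push Not at hlt
  obtain ⟨hn, hsE, hdim⟩ := S.rank_three ρ h7 hq hnt hlt
  obtain ⟨hp, -, -⟩ := S.degree_pred ρ h7 hq hnt hlt
  have hQn := S.nd
  have h5 := S.five
  have h0 : 0 < n := by omega
  have h1 : 1 < n := by omega
  have h2 : 2 < n := by omega
  have hne : (-1 : F) ≠ 0 := neg_ne_zero.mpr one_ne_zero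
  set a := S.tt h0 h1 hne with ha
  set b := S.tt h0 h2 hne with hb
  set c := S.tt h1 h2 hne with hc
  have hqa := S.ap_hh h0 h1 (by omega)
  have hqb := S.ap_hh h0 h2 (by omega)
  have hqc := S.ap_hh h1 h2 (by omega)
  rw [← ha] at hqa
  rw [← hb] at hqb
  rw [← hc] at hqc
  have hfe : ∀ j (hj : j < n), polar Q (S.f j) (S.e j) = 1 := fun j hj => by simp [S.pfe (i := j) (j := j) hj hj]
  have hfe' : ∀ j l (hj : j < n) (hl : l < n), j ≠ l → polar Q (S.f j) (S.e l) = 0 := fun j l hj hl hjl => by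
    simp [S.pfe (i := j) (j := l) hj hl, hjl]
  -- values of the three inversions on the flag
  have a0 : ap a (S.e 0) = (-1 : F) • S.e 0 := by
    rw [hqa, hfe' 1 0 h1 h0 (by omega), hfe 0 h0, S.pee 1 0 h1 h0, S.pee 0 0 h0 h0]
    simp only [mul_zero, zero_smul, sub_zero, mul_one]; module
  have a1 : ap a (S.e 1) = (-1 : F) • S.e 1 := by
    rw [hqa, hfe' 0 1 h0 h1 (by omega), hfe 1 h1, S.pee 0 1 h0 h1, S.pee 1 1 h1 h1]
    simp only [mul_zero, zero_smul, sub_zero, mul_one]; module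
  have b0 : ap b (S.e 0) = (-1 : F) • S.e 0 := by
    rw [hqb, hfe' 2 0 h2 h0 (by omega), hfe 0 h0, S.pee 2 0 h2 h0, S.pee 0 0 h0 h0]
    simp only [mul_zero, zero_smul, sub_zero, mul_one]; module
  have b1 : ap b (S.e 1) = (1 : F) • S.e 1 := by
    rw [hqb, hfe' 2 1 h2 h1 (by omega), hfe' 0 1 h0 h1 (by omega), S.pee 2 1 h2 h1, S.pee 0 1 h0 h1]
    simp
  have c0 : ap c (S.e 0) = (1 : F) • S.e 0 := by
    rw [hqc, hfe' 2 0 h2 h0 (by omega), hfe' 1 0 h1 h0 (by omega), S.pee 2 0 h2 h0, S.pee 1 0 h1 h0]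
    simp
  have fl1 : ∀ (x : Om Q) (t : F), ap x (S.e 0) = t • S.e 0 → S.Flag 1 x := fun x t h j hj => by
    rw [Nat.lt_one_iff.mp hj]; exact ⟨t, h⟩
  have hline : ∀ (i : ℕ) (w : S.W (i + 1)) (k : ℕ), i + 1 ≤ k → k < n → Q w.1 = 0 →
      polar Q (S.f k) w.1 = 0 → polar Q (S.e k) w.1 = 0 → (i + 1 = k ∨ (polar Q (S.f (i+1)) w.1 = 0 ∧ polar Q (S.e (i+1)) w.1 = 0)) →
      k = 2 → i + 1 ≤ 2 → w = 0 := by
    intro i w k hik hk hQw hf he hor hk2 hi2
    subst hk2
    have h3 : w.1 ∈ S.W 3 := fun l hl => by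
      rcases Nat.lt_succ_iff_lt_or_eq.mp hl with hl | rfl
      · rcases Nat.lt_or_ge l (i + 1) with h | h
        · exact w.2 l h
        · rcases hor with hor | hor
          · omega
          · rw [show l = i + 1 by omega]; exact ⟨hor.2, hor.1⟩
      · exact ⟨he, hf⟩
    obtain ⟨t, ht⟩ := S.base w.1 (hn ▸ h3)
    rw [ht, QuadraticMap.map_smul, S.Qx0, smul_eq_mul, mul_one, mul_self_eq_zero] at hQw
    exact Subtype.ext (by rw [ht, hQw, zero_smul]; rfl)
  -- level one: no fixed lines for `a` and `b`; level zero: none for `c`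
  have la : S.tr ρ 1 a = S.tr ρ 2 a := by
    refine S.no_fixed ρ (i := 1) h2 (fl1 a _ a0) a1 (hp 1 h2) fun w hw _ heq => hw ?_
    have e : (S.bmap h1 a (-1) w).1 = -w.1 := by
      show (-1 : F)⁻¹ • S.pr 2 (ap a w.1) = _
      rw [hqa, (S.perp_e (show 0 < 2 by omega) w.2).1, (S.perp_f (show 0 < 2 by omega) w.2).1,
        (S.perp_e (show 1 < 2 by omega) w.2).1, (S.perp_f (show 1 < 2 by omega) w.2).1]
      simp [S.pr_eq_self w.2, inv_neg]
    have h' := congrArg Subtype.val heq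
    rw [e] at h'
    exact Subtype.ext ((smul_eq_zero.mp (show (2 : F) • w.1 = 0 by
      rw [two_smul]; nth_rewrite 1 [← h']; exact neg_add_cancel _)).resolve_left S.h2)
  have lb : S.tr ρ 1 b = S.tr ρ 2 b := by
    refine S.no_fixed ρ (i := 1) h2 (fl1 b _ b0) b1 (hp 1 h2) fun w hw hQw heq => hw ?_
    have e : (S.bmap h1 b 1 w).1 = w.1 - (2 * polar Q (S.f 2) w.1) • S.e 2 - (2 * polar Q (S.e 2) w.1) • S.f 2 := by
      show (1 : F)⁻¹ • S.pr 2 (ap b w.1) = _
      rw [hqb, (S.perp_e (show 0 < 2 by omega) w.2).1, (S.perp_f (show 0 < 2 by omega) w.2).1, mul_zero, zero_smul,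
        sub_zero, zero_smul, sub_zero, inv_one, one_smul, S.pr_eq_self]
      exact sub_mem (sub_mem w.2 ((S.W _).smul_mem _ (S.e_mem_W le_rfl h2))) ((S.W _).smul_mem _ (S.f_mem_W le_rfl h2))
    have h' := congrArg Subtype.val heq
    rw [e] at h'
    have k1 := congrArg (fun y => polar Q (S.f 2) y) h'
    have k2 := congrArg (fun y => polar Q (S.e 2) y) h'
    simp [polar_sub_right, polar_smul_right, hfe 2 h2, S.pff 2 2 h2 h2, S.pee 2 2 h2 h2, S.pef 2 2 h2 h2, S.h2] at k1 k2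
    exact hline 1 w 2 le_rfl h2 hQw k1 k2 (Or.inl rfl) rfl le_rfl
  have lc : S.tr ρ 0 c = S.tr ρ 1 c := by
    refine S.no_fixed ρ (i := 0) h1 (fun j hj => absurd hj (Nat.not_lt_zero j)) c0 (hp 0 h1) fun w hw hQw heq => hw ?_
    have e : (S.bmap h0 c 1 w).1 = w.1 - (2 * polar Q (S.f 2) w.1) • S.e 2 - (2 * polar Q (S.e 2) w.1) • S.f 2 -
        (2 * polar Q (S.f 1) w.1) • S.e 1 - (2 * polar Q (S.e 1) w.1) • S.f 1 := by
      show (1 : F)⁻¹ • S.pr 1 (ap c w.1) = _
      rw [hqc, inv_one, one_smul, S.pr_eq_self]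
      exact sub_mem (sub_mem (sub_mem (sub_mem w.2 ((S.W _).smul_mem _ (S.e_mem_W (by omega) h2)))
        ((S.W _).smul_mem _ (S.f_mem_W (by omega) h2))) ((S.W _).smul_mem _ (S.e_mem_W le_rfl h1)))
        ((S.W _).smul_mem _ (S.f_mem_W le_rfl h1))
    have h' := congrArg Subtype.val heq
    rw [e] at h'
    have k1 := congrArg (fun y => polar Q (S.f 2) y) h'
    have k2 := congrArg (fun y => polar Q (S.e 2) y) h'
    have k3 := congrArg (fun y => polar Q (S.f 1) y) h'
    have k4 := congrArg (fun y => polar Q (S.e 1) y) h'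
    simp [polar_sub_right, polar_smul_right, hfe 2 h2, hfe 1 h1, hfe' 1 2 h1 h2 (by omega), hfe' 2 1 h2 h1 (by omega),
      S.pff 2 2 h2 h2, S.pee 2 2 h2 h2, S.pef 2 2 h2 h2, S.pff 1 2 h1 h2, S.pee 1 2 h1 h2, S.pef 1 2 h1 h2,
      S.pff 2 1 h2 h1, S.pee 2 1 h2 h1, S.pef 2 1 h2 h1, S.pff 1 1 h1 h1, S.pee 1 1 h1 h1, S.pef 1 1 h1 h1, S.h2] at k1 k2 k3 k4
    exact hline 0 w 2 (by omega) h2 hQw k1 k2 (Or.inr ⟨k3, k4⟩) rfl (by omega)
  -- conjugations
  obtain ⟨g, g1, g2, g3, g4⟩ := S.exists_perm hn 0 2 h0 h2 (by omega)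
  obtain ⟨w, w1, w2, w3, w4⟩ := S.exists_perm hn 1 2 h1 h2 (by omega)
  have hab : S.tr ρ 1 a = S.tr ρ 1 b := by
    have := S.tr_conj ρ (show 1 ≤ n by omega) (fl1 g 1 (by rw [g1, one_smul])) a
    rw [ha, S.hh_conj h0 h1 h0 h2 g1 g2 g3 g4] at this
    exact this.symm
  have hac : S.tr ρ 0 a = S.tr ρ 0 c := by
    have := S.tr_conj ρ (Nat.zero_le n) (g := w) (fun j hj => absurd hj (Nat.not_lt_zero j)) a
    rw [ha, S.hh_conj h0 h1 h1 h2 w1 w2 w3 w4] at this
    exact this.symm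
  obtain ⟨δ, hδ, hA⟩ := S.pair_level ρ hn (i := 0) (j := 2) h1 h2 (by omega) (by omega) (hp 0 h1)
  obtain ⟨δ', hδ', hC⟩ := S.pair_level ρ hn (i := 1) (j := 0) h2 h0 (by omega) (by omega) (hp 1 h2)
  change S.tr ρ 0 a = S.tr ρ 1 a + _ at hA
  change S.tr ρ 1 c = S.tr ρ 2 c + _ at hC
  -- the involution equals `a` times a trivially acting element
  have hsa : S.sv = a * S.rot h2 := by
    refine Subtype.ext (ext_app fun x => ?_)
    show ap S.sv x = app (a.1 * (S.rot h2).1) x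
    rw [app_mul]
    show ap S.sv x = ap a (ap (S.rot h2) x)
    have hv : S.v0 = S.e 2 - S.f 2 := by rw [v0, if_neg (by rw [hn]; decide), show n - 1 = 2 by omega]
    have hc0 : S.c0 = -1 := by rw [OddFrame.c0, if_neg (by rw [hn]; decide)]
    obtain ⟨t, ht⟩ := S.base _ (S.pr_mem (i := n) le_rfl x)
    have hx : x = polar Q (S.f 0) x • S.e 0 + polar Q (S.e 0) x • S.f 0 + (polar Q (S.f 1) x • S.e 1 +
        polar Q (S.e 1) x • S.f 1) + (polar Q (S.f 2) x • S.e 2 + polar Q (S.e 2) x • S.f 2) + t • S.x0 := by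
      have ep : ∀ k, k + 1 ≤ n → S.pr k x = S.pr (k + 1) x + (polar Q (S.f k) x • S.e k + polar Q (S.e k) x • S.f k) :=
        fun k _ => by rw [Hyp.pr_succ, sub_add_cancel]
      have e0 := ep 0 (by omega)
      have e1 := ep 1 (by omega)
      have e2 := ep 2 (by omega)
      rw [← ht]
      rw [Hyp.pr_zero] at e0
      rw [show S.pr n x = S.pr (2 + 1) x from congrArg (fun k => S.pr k x) hn]
      conv_lhs => rw [e0, e1, e2]
      module
    have hx0 : polar Q x S.x0 = 2 * t := by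
      rw [← S.toHyp.polar_pr le_rfl x S.x0_mem, ht, polar_smul_left, S.px0, smul_eq_mul, mul_comm]
    rw [S.ap_sv, hv, hc0, S.ap_rot, hqa]
    simp only [polar_sub_right, polar_add_right, polar_smul_right, smul_eq_mul, (S.x0_perp h0).1, (S.x0_perp h0).2.1,
      (S.x0_perp h1).1, (S.x0_perp h1).2.1, S.pee 0 2 h0 h2, S.pee 1 2 h1 h2, S.pff 0 2 h0 h2, S.pff 1 2 h1 h2,
      S.pef 0 2 h0 h2, S.pef 1 2 h1 h2, hfe' 0 2 h0 h2 (by omega), hfe' 1 2 h1 h2 (by omega), hx0,
      polar_comm (f := ⇑Q) x (S.e 2), polar_comm (f := ⇑Q) x (S.f 2), inv_neg, inv_one]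
    norm_num
    linear_combination (norm := module) (-2 : F) • hx
  have hta : S.tr ρ 2 a = 0 := by
    rw [← hsE, Hyp.tr, Hyp.tr, hsa, map_mul ρ, mul_assoc, S.rot_trivial ρ hn hq hdim]
  have htb : S.tr ρ 2 b = 0 := by rw [← lb, ← hab, la, hta]
  -- the algebra on the bottom space
  have hfl2 : ∀ (x : Om Q) (t t' : F), ap x (S.e 0) = t • S.e 0 → ap x (S.e 1) = t' • S.e 1 → S.Flag 2 x :=
    fun x t t' k0 k1 j hj => by
      rcases Nat.lt_succ_iff_lt_or_eq.mp hj with hj | rfl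
      · rw [Nat.lt_one_iff.mp hj]; exact ⟨t, k0⟩
      · exact ⟨t', k1⟩
  set X := S.E ρ 2 with hX
  have hXX : X * X = X := S.E_idem ρ hQn h5 2
  have haX : ρ a * X = X * ρ a := S.E_comm ρ hQn h5 (show 2 ≤ n by omega) (hfl2 a _ _ a0 a1)
  have hbX : ρ b * X = X * ρ b := S.E_comm ρ hQn h5 (show 2 ≤ n by omega) (hfl2 b _ _ b0 b1)
  have hinvol : ∀ (j k : ℕ) (hj : j < n) (hk : k < n) (hjk : j ≠ k), S.tt hj hk hne * S.tt hj hk hne = 1 := by
    intro j k hj hk hjk
    refine Subtype.ext (ext_app fun x => ?_)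
    show app ((S.tt hj hk hne).1 * (S.tt hj hk hne).1) x = app 1 x
    rw [app_mul, app_one]
    show ap (S.tt hj hk hne) (ap (S.tt hj hk hne) x) = x
    rw [S.ap_hh hj hk hjk, S.ap_hh hj hk hjk]
    simp only [polar_sub_right, polar_smul_right, smul_eq_mul, S.pee j j hj hj, S.pff j j hj hj, S.pef j j hj hj,
      S.pfe (i := j) (j := j) hj hj, S.pee k k hk hk, S.pff k k hk hk, S.pef k k hk hk,
      S.pfe (i := k) (j := k) hk hk, S.pee j k hj hk, S.pff j k hj hk, S.pee k j hk hj, S.pff k j hk hj,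
      S.pef j k hj hk, S.pef k j hk hj, S.pfe (i := j) (j := k) hj hk, S.pfe (i := k) (j := j) hk hj,
      hjk, hjk.symm, if_true, if_false, mul_zero, mul_one, sub_zero]
    match_scalars <;> ring
  have hcomm : a * b = b * a ∧ a * b = c := by
    have e : ∀ x, ap a (ap b x) = ap c x ∧ ap b (ap a x) = ap c x := by
      intro x
      rw [hqa, hqb, hqb, hqa, hqc]
      simp only [polar_sub_right, polar_smul_right, smul_eq_mul, S.pee 0 0 h0 h0, S.pff 0 0 h0 h0, S.pef 0 0 h0 h0,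
        hfe 0 h0, S.pee 0 1 h0 h1, S.pff 0 1 h0 h1, S.pef 0 1 h0 h1, hfe' 0 1 h0 h1 (by omega), S.pee 0 2 h0 h2,
        S.pff 0 2 h0 h2, S.pef 0 2 h0 h2, hfe' 0 2 h0 h2 (by omega), S.pee 1 0 h1 h0, S.pff 1 0 h1 h0,
        S.pef 1 0 h1 h0, hfe' 1 0 h1 h0 (by omega), S.pee 1 2 h1 h2, S.pff 1 2 h1 h2, S.pef 1 2 h1 h2,
        hfe' 1 2 h1 h2 (by omega), S.pee 2 0 h2 h0, S.pff 2 0 h2 h0, S.pef 2 0 h2 h0, hfe' 2 0 h2 h0 (by omega),
        S.pee 2 1 h2 h1, S.pff 2 1 h2 h1, S.pef 2 1 h2 h1, hfe' 2 1 h2 h1 (by omega), if_true,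
        zero_ne_one, one_ne_zero, show (0 : ℕ) ≠ 2 by omega, show (2 : ℕ) ≠ 0 by omega, show (1 : ℕ) ≠ 2 by omega,
        show (2 : ℕ) ≠ 1 by omega, if_false, mul_zero, mul_one, sub_zero]
      constructor <;> match_scalars <;> ring
    refine ⟨Subtype.ext (ext_app fun x => ?_), Subtype.ext (ext_app fun x => ?_)⟩
    · show app (a.1 * b.1) x = app (b.1 * a.1) x
      rw [app_mul, app_mul]; exact (e x).1.trans (e x).2.symm
    · show app (a.1 * b.1) x = app c.1 x
      rw [app_mul]; exact (e x).1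
  set A := (2 : ℂ)⁻¹ • (X + ρ a * X) with hA'
  set B := (2 : ℂ)⁻¹ • (X + ρ b * X) with hB'
  have hXtr : LinearMap.trace ℂ V X = 2 := by
    rw [SLMinDeg.trace_eq_finrank_range _ hXX]
    exact_mod_cast hdim
  have idem : ∀ g : Om Q, g * g = 1 → ρ g * X = X * ρ g →
      ((2 : ℂ)⁻¹ • (X + ρ g * X)) * ((2 : ℂ)⁻¹ • (X + ρ g * X)) = (2 : ℂ)⁻¹ • (X + ρ g * X) := by
    intro g hgg hgX
    have e1 : ρ g * X * X = ρ g * X := by rw [mul_assoc, hXX]
    have e2 : X * (ρ g * X) = ρ g * X := by rw [← mul_assoc, ← hgX, e1]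
    have e3 : ρ g * X * (ρ g * X) = X := by rw [mul_assoc, e2, ← mul_assoc, ← map_mul, hgg, map_one, one_mul]
    simp only [smul_mul_assoc, mul_smul_comm, add_mul, mul_add, smul_add, smul_smul, hXX, e1, e2, e3]
    module
  have hAA := idem a (hinvol 0 1 h0 h1 (by omega)) haX
  have hBB := idem b (hinvol 0 2 h0 h2 (by omega)) hbX
  have hA1 : LinearMap.trace ℂ V A = 1 := by
    rw [hA', map_smul, map_add, hXtr, show LinearMap.trace ℂ V (ρ a * X) = 0 from hta]; norm_num
  have k1 : ρ a * X * (ρ b * X) = ρ c * X := by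
    rw [mul_assoc, ← mul_assoc X, ← hbX, mul_assoc (ρ b), hXX, ← mul_assoc, ← map_mul, hcomm.2]
  have k2 : ρ b * X * (ρ a * X) = ρ c * X := by
    rw [mul_assoc, ← mul_assoc X, ← haX, mul_assoc (ρ a), hXX, ← mul_assoc, ← map_mul, ← hcomm.1, hcomm.2]
  have k3 : X * (ρ a * X) = ρ a * X := by rw [← mul_assoc, ← haX, mul_assoc, hXX]
  have k4 : X * (ρ b * X) = ρ b * X := by rw [← mul_assoc, ← hbX, mul_assoc, hXX]
  have k5 : ρ a * X * X = ρ a * X := by rw [mul_assoc, hXX]
  have k6 : ρ b * X * X = ρ b * X := by rw [mul_assoc, hXX]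
  have hBA : B * A = (4 : ℂ)⁻¹ • (X + ρ a * X + ρ b * X + ρ c * X) := by
    simp only [hA', hB', smul_mul_assoc, mul_smul_comm, add_mul, mul_add, smul_add, smul_smul, hXX, k2, k3, k6]
    rw [show (2 : ℂ)⁻¹ * 2⁻¹ = 4⁻¹ by norm_num]
    abel
  have hABc : Commute B A := by
    show B * A = A * B
    rw [hBA]
    simp only [hA', hB', smul_mul_assoc, mul_smul_comm, add_mul, mul_add, smul_add, smul_smul, hXX, k1, k4, k5]
    rw [show (2 : ℂ)⁻¹ * 2⁻¹ = 4⁻¹ by norm_num]
    abel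
  have hrank := SLMinDeg.mul_eq_trace_smul A B hAA hA1 hABc
  set t := LinearMap.trace ℂ V (B * A) with ht
  have hAne : A ≠ 0 := fun h0 => by rw [h0, map_zero] at hA1; exact zero_ne_one hA1
  have htt : t * t = t := by
    have e : B * A * (B * A) = B * A := by
      rw [mul_assoc B A, ← mul_assoc A B A, ← hABc.eq, mul_assoc B A A, hAA, ← mul_assoc, hBB]
    rw [hrank, smul_mul_smul_comm, hAA] at e
    exact smul_left_injective ℂ hAne e
  have hct : S.tr ρ 2 c = 4 * t - 2 := by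
    have hb' : LinearMap.trace ℂ V (ρ b * X) = 0 := htb
    rw [ht, hBA, map_smul, map_add, map_add, map_add, hXtr, hb',
      show LinearMap.trace ℂ V (ρ a * X) = 0 from hta, Hyp.tr, ← hX, smul_eq_mul]
    ring
  have hfin : ((2 * ((Fintype.card F : ℤ) - 1) * δ : ℤ) : ℂ) =
      (4 * t - 2) + ((2 * ((Fintype.card F : ℤ) - 1) * δ' : ℤ) : ℂ) := by
    linear_combination hA.symm + hac + lc + hC + hct - la - hta
  have hq4 : (4 : ℤ) ≤ Fintype.card F := by exact_mod_cast hq
  rcases mul_eq_zero.mp (show t * (t - 1) = 0 by rw [mul_sub, htt, mul_one, sub_self]) with h | h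
  · have e : ((2 * ((Fintype.card F : ℤ) - 1) * δ : ℤ) : ℂ) =
        ((-2 + 2 * ((Fintype.card F : ℤ) - 1) * δ' : ℤ) : ℂ) := by rw [hfin, h]; push_cast; ring
    have e' : 2 * ((Fintype.card F : ℤ) - 1) * δ = -2 + 2 * ((Fintype.card F : ℤ) - 1) * δ' := Int.cast_injective e
    rcases hδ with rfl | rfl <;> rcases hδ' with rfl | rfl <;> omega
  · rw [sub_eq_zero] at h
    have e : ((2 * ((Fintype.card F : ℤ) - 1) * δ : ℤ) : ℂ) =
        ((2 + 2 * ((Fintype.card F : ℤ) - 1) * δ' : ℤ) : ℂ) := by rw [hfin, h]; push_cast; ring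
    have e' : 2 * ((Fintype.card F : ℤ) - 1) * δ = 2 + 2 * ((Fintype.card F : ℤ) - 1) * δ' := Int.cast_injective e
    rcases hδ with rfl | rfl <;> rcases hδ' with rfl | rfl <;> omega

end OddFrame

end CfsgLib.OrthDeg
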